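import Mathlib
import Cfsg.Prelude.Def_TwoFusion
import Cfsg.Agent.Lib.Invol.IsolatedFactor
import Cfsg.Agent.Lib.Invol.Sylow
import Cfsg.Agent.Lib.Grp.Cores

/-!
# Two commuting closed sets of involutions

Two disjoint invariant sets of involutions whose members commute inside every 2-subgroup, each closed
under products of commuting members: first properties.
-/

set_option autoImplicit false
set_option linter.unusedSectionVars false
set_option linter.style.haveILetI false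

namespace Cfsg.Agent.Fus.ClosedPair

open Subgroup

universe u

variable {G : Type u} [Group G]

/-- Two disjoint invariant sets of involutions commuting in every 2-subgroup. -/
structure CommSets (G : Type u) [Group G] (Z Y : Set G) : Prop where
  inv₁ : ∀ x ∈ Z, orderOf x = 2
  inv₂ : ∀ y ∈ Y, orderOf y = 2
  conj₁ : ∀ g : G, ∀ x ∈ Z, g * x * g⁻¹ ∈ Z
  conj₂ : ∀ g : G, ∀ y ∈ Y, g * y * g⁻¹ ∈ Y
  disj : ∀ x ∈ Z, x ∉ Y
  comm : ∀ P : Subgroup G, IsPGroup 2 P → ∀ x ∈ Z, x ∈ P → ∀ y ∈ Y, y ∈ P → Commute x y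

/-- The hypotheses: a set of 2-elements closed under products inside 2-subgroups, and a set of
involutions closed under products of commuting members. -/
structure PairSets (G : Type u) [Group G] (K Y : Set G) : Prop
    extends CommSets G {a | a ∈ K ∧ orderOf a = 2} Y where
  conjK : ∀ g : G, ∀ a ∈ K, g * a * g⁻¹ ∈ K
  two : ∀ a ∈ K, a ≠ 1 ∧ ∃ n, orderOf a = 2 ^ n
  mulK : ∀ P : Subgroup G, IsPGroup 2 P → ∀ a ∈ K, a ∈ P → ∀ b ∈ K, b ∈ P → a * b ≠ 1 → a * b ∈ K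
  disjK : ∀ a ∈ K, a ∉ Y
  mul₂ : ∀ y ∈ Y, ∀ y' ∈ Y, y ≠ y' → Commute y y' → y * y' ∈ Y

variable {Z Y : Set G} {K : Set G}

theorem CommSets.symm (H : CommSets G Z Y) : CommSets G Y Z :=
  ⟨H.inv₂, H.inv₁, H.conj₂, H.conj₁, fun y hy hyZ => H.disj y hyZ hy,
    fun P hP y hy hyP x hx hxP => (H.comm P hP x hx hxP y hy hyP).symm⟩

/-- The sets in a subgroup. -/
theorem PairSets.subgroup (H : PairSets G K Y) (M : Subgroup G) :
    PairSets ↥M {a | (a : G) ∈ K} {y | (y : G) ∈ Y} where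
  inv₁ x hx := hx.2
  inv₂ y hy := by rw [← Subgroup.orderOf_coe]; exact H.inv₂ _ hy
  conj₁ g x hx := ⟨H.conjK g _ hx.1, (Invol.orderOf_conj_eq g x).trans hx.2⟩
  conj₂ g y hy := H.conj₂ g y hy
  disj x hx := H.disjK _ hx.1
  comm P hP x hx hxP y hy hyP := Subtype.ext
    (H.comm (P.map M.subtype) (hP.map _) _ ⟨hx.1, by rw [Subgroup.orderOf_coe]; exact hx.2⟩
      ⟨x, hxP, rfl⟩ _ hy ⟨y, hyP, rfl⟩).eq
  conjK g a ha := H.conjK g a ha
  two a ha := ⟨fun e => (H.two _ ha).1 (by rw [e]; rfl), (H.two _ ha).2.imp fun n hn => by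
    rwa [← Subgroup.orderOf_coe]⟩
  mulK P hP a ha haP b hb hbP hne := H.mulK (P.map M.subtype) (hP.map _) _ ha ⟨a, haP, rfl⟩ _ hb
    ⟨b, hbP, rfl⟩ fun e => hne (Subtype.ext e)
  disjK a ha := H.disjK _ ha
  mul₂ y hy y' hy' hne hcm :=
    H.mul₂ _ hy _ hy' (fun e => hne (Subtype.ext e)) (congrArg Subtype.val hcm.eq)

theorem isPGroup_zpowers_of_two {x : G} (hx : orderOf x = 2) : IsPGroup 2 (zpowers x) :=
  haveI : Fact (Nat.Prime 2) := ⟨Nat.prime_two⟩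
  Invol.isPGroup_zpowers (n := 1) (by rw [hx, pow_one])

variable [Finite G]

/-- A 2-element of the preimage of a 2-subgroup is conjugate into a complement by the odd kernel. -/
theorem exists_lift {G' : Type*} [Group G'] (f : G →* G') (hf : Odd (Nat.card f.ker))
    (hs : Function.Surjective f) {P : Subgroup G'} (hP : IsPGroup 2 P) :
    ∃ R : Subgroup G, IsPGroup 2 R ∧ (∀ r ∈ R, f r ∈ P) ∧ (∀ r ∈ R, f r = 1 → r = 1) ∧
      ∀ x : G, (∃ k, orderOf x = 2 ^ k) → f x ∈ P → ∃ n ∈ f.ker, n * x * n⁻¹ ∈ R := by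
  classical
  haveI : Fact (Nat.Prime 2) := ⟨Nat.prime_two⟩
  haveI : Finite G' := Finite.of_surjective f hs
  obtain ⟨R'⟩ : Nonempty (Sylow 2 (P.comap f)) := inferInstance
  have hker : ∀ r ∈ (R' : Subgroup (P.comap f)), f r = 1 → (r : G) = 1 := by
    intro r hr h1
    obtain ⟨k, hk⟩ := IsPGroup.iff_orderOf.1 R'.isPGroup' ⟨r, hr⟩
    rw [Subgroup.orderOf_mk, ← Subgroup.orderOf_coe] at hk
    have hodd : Odd (orderOf (r : G)) := hf.of_dvd_nat (Subgroup.orderOf_dvd_natCard _ h1)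
    rcases k with _ | k
    · exact orderOf_eq_one_iff.1 (by simpa using hk)
    · exact absurd (hk ▸ (even_two.pow_of_ne_zero (Nat.succ_ne_zero k))) (Nat.not_even_iff_odd.2 hodd)
  -- every element of the preimage is a product of the kernel and the Sylow subgroup
  let F : (P.comap f) →* P :=
    { toFun := fun x => ⟨f (x : G), x.2⟩
      map_one' := Subtype.ext (map_one f)
      map_mul' := fun a b => Subtype.ext (map_mul f (a : G) (b : G)) }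
  have hFs : Function.Surjective F := fun p => by
    obtain ⟨x, hx⟩ := hs p
    exact ⟨⟨x, Subgroup.mem_comap.2 (hx ▸ p.2)⟩, Subtype.ext hx⟩
  have hcover : ∀ x : P.comap f, ∃ r ∈ (R' : Subgroup (P.comap f)), F r = F x := by
    intro x
    have hmem : F x ∈ (R' : Subgroup (P.comap f)).map F := by
      have hR : ((R'.mapSurjective hFs : Sylow 2 P) : Subgroup P) = ⊤ := by
        obtain ⟨k, hk⟩ := hP.exists_card_eq
        refine Subgroup.eq_top_of_card_eq _ ?_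
        rw [Sylow.card_eq_multiplicity, hk, Nat.Prime.factorization_pow Nat.prime_two,
          Finsupp.single_eq_same]
      rw [← Sylow.coe_mapSurjective hFs, hR]
      exact Subgroup.mem_top _
    exact hmem
  refine ⟨(R' : Subgroup (P.comap f)).map (P.comap f).subtype, R'.isPGroup'.map _, ?_, ?_, ?_⟩
  · rintro _ ⟨r, -, rfl⟩
    exact r.2
  · rintro _ ⟨r, hr, rfl⟩ h1
    exact hker r hr h1
  rintro x ⟨k, hk⟩ hx'
  have hx : x ∈ P.comap f := Subgroup.mem_comap.2 hx'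
  obtain ⟨g, hg⟩ := Invol.exists_conj_mem_sylow (x := (⟨x, hx⟩ : P.comap f)) (n := k)
    (by rw [Subgroup.orderOf_mk, hk]) R'
  obtain ⟨r, hr, hrg⟩ := hcover g
  refine ⟨(r : G)⁻¹ * g, MonoidHom.mem_ker.2 ?_,
    ⟨r⁻¹ * (g * ⟨x, hx⟩ * g⁻¹) * r⁻¹⁻¹, mul_mem (mul_mem (inv_mem hr) hg) (inv_mem (inv_mem hr)), ?_⟩⟩
  · have e : f (r : G) = f (g : G) := congrArg Subtype.val hrg
    rw [map_mul, map_inv, e, inv_mul_cancel]
  · simp [mul_assoc]

/-- The images in a quotient by a normal subgroup of odd order. -/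
theorem PairSets.map (H : PairSets G K Y) {G' : Type*} [Group G'] (f : G →* G')
    (hf : Odd (Nat.card f.ker)) (hs : Function.Surjective f) : PairSets G' (f '' K) (f '' Y) := by
  haveI : Finite G' := Finite.of_surjective f hs
  have hY2 : ∀ y ∈ Y, ∃ k, orderOf y = 2 ^ k := fun y hy => ⟨1, by rw [H.inv₂ y hy, pow_one]⟩
  have hne : ∀ {a : G}, (∃ k, orderOf a = 2 ^ k) → f a = 1 → a = 1 := by
    rintro a ⟨k, hk⟩ h1
    have hodd : Odd (orderOf a) := hf.of_dvd_nat (Subgroup.orderOf_dvd_natCard _ h1)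
    rcases k with _ | k
    · exact orderOf_eq_one_iff.1 (by simpa using hk)
    · exact absurd (hk ▸ (even_two.pow_of_ne_zero (Nat.succ_ne_zero k))) (Nat.not_even_iff_odd.2 hodd)
  have hinv : ∀ y ∈ f '' Y, orderOf y = 2 := by
    rintro _ ⟨y, hy, rfl⟩
    refine Invol.orderOf_two_iff.2 ⟨by rw [← map_mul, Invol.mul_self_of_orderOf_two (H.inv₂ y hy),
      map_one], fun e => ?_⟩
    have h1 := hne (hY2 y hy) e
    have h2 := H.inv₂ y hy
    simp [h1] at h2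
  -- simultaneous lifting into a 2-subgroup
  have lift : ∀ P : Subgroup G', IsPGroup 2 P → ∃ R : Subgroup G, IsPGroup 2 R ∧
      (∀ r ∈ R, f r = 1 → r = 1) ∧ ∀ S : Set G, (∀ x ∈ S, ∃ k, orderOf x = 2 ^ k) →
        (∀ g : G, ∀ x ∈ S, g * x * g⁻¹ ∈ S) → ∀ x ∈ S, f x ∈ P → ∃ x₁ ∈ S, x₁ ∈ R ∧ f x₁ = f x := by
    intro P hP
    obtain ⟨R, hR, -, hinj, hlift⟩ := exists_lift f hf hs hP
    refine ⟨R, hR, hinj, fun S hS hSc x hx hxP => ?_⟩
    obtain ⟨n, hn, hnR⟩ := hlift x (hS x hx) hxP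
    exact ⟨_, hSc n x hx, hnR, by simp [MonoidHom.mem_ker.1 hn]⟩
  have hK2 : ∀ a ∈ K, ∃ k, orderOf a = 2 ^ k := fun a ha => (H.two a ha).2
  have hconj : ∀ {S : Set G}, (∀ g : G, ∀ x ∈ S, g * x * g⁻¹ ∈ S) → ∀ g : G', ∀ x ∈ f '' S,
      g * x * g⁻¹ ∈ f '' S := by
    rintro S hS g _ ⟨x, hx, rfl⟩
    obtain ⟨g, rfl⟩ := hs g
    exact ⟨_, hS g x hx, by simp⟩
  refine ⟨⟨fun x hx => hx.2, hinv, fun g x hx => ⟨hconj H.conjK g x hx.1,
    (Invol.orderOf_conj_eq g x).trans hx.2⟩, hconj H.conj₂, ?_, ?_⟩, hconj H.conjK, ?_, ?_, ?_, ?_⟩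
  · rintro x ⟨⟨a, ha, rfl⟩, ha2⟩ ⟨y, hy, e⟩
    obtain ⟨R, hR, hinj, hl⟩ := lift _ (isPGroup_zpowers_of_two ha2)
    obtain ⟨a₁, ha₁, ha₁R, e₁⟩ := hl K hK2 H.conjK a ha (Subgroup.mem_zpowers _)
    obtain ⟨y₁, hy₁, hy₁R, e₂⟩ := hl Y hY2 H.conj₂ y hy (e ▸ Subgroup.mem_zpowers _)
    refine H.disjK a₁ ha₁ ?_
    rwa [mul_inv_eq_one.1 (hinj _ (mul_mem ha₁R (inv_mem hy₁R))
      (by rw [map_mul, map_inv, e₁, e₂, e, mul_inv_cancel]))]
  · rintro P hP _ ⟨⟨a, ha, rfl⟩, ha2⟩ haP _ ⟨y, hy, rfl⟩ hyP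
    obtain ⟨R, hR, hinj, hl⟩ := lift P hP
    obtain ⟨a₁, ha₁, ha₁R, e₁⟩ := hl K hK2 H.conjK a ha haP
    obtain ⟨y₁, hy₁, hy₁R, e₂⟩ := hl Y hY2 H.conj₂ y hy hyP
    have ha₁2 : orderOf a₁ = 2 := by
      refine Invol.orderOf_two_iff.2 ⟨hinj _ (mul_mem ha₁R ha₁R) ?_, (H.two a₁ ha₁).1⟩
      rw [map_mul, e₁, Invol.mul_self_of_orderOf_two ha2]
    rw [← e₁, ← e₂]
    exact (H.comm R hR a₁ ⟨ha₁, ha₁2⟩ ha₁R y₁ hy₁ hy₁R).map f
  · rintro _ ⟨a, ha, rfl⟩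
    obtain ⟨k, hk⟩ := (H.two a ha).2
    obtain ⟨j, -, hj⟩ := (Nat.dvd_prime_pow Nat.prime_two).1 (hk ▸ orderOf_map_dvd f a)
    exact ⟨fun e => (H.two a ha).1 (hne ⟨k, hk⟩ e), j, hj⟩
  · rintro P hP _ ⟨a, ha, rfl⟩ haP _ ⟨b, hb, rfl⟩ hbP hab
    obtain ⟨R, hR, -, hl⟩ := lift P hP
    obtain ⟨a₁, ha₁, ha₁R, e₁⟩ := hl K hK2 H.conjK a ha haP
    obtain ⟨b₁, hb₁, hb₁R, e₂⟩ := hl K hK2 H.conjK b hb hbP
    refine ⟨a₁ * b₁, H.mulK R hR a₁ ha₁ ha₁R b₁ hb₁ hb₁R fun e => hab ?_, by rw [map_mul, e₁, e₂]⟩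
    rw [← e₁, ← e₂, ← map_mul, e, map_one]
  · rintro _ ⟨a, ha, rfl⟩ ⟨y, hy, e⟩
    obtain ⟨R, hR, hinj, hl⟩ := lift _ (isPGroup_zpowers_of_two (hinv _ ⟨y, hy, rfl⟩))
    obtain ⟨a₁, ha₁, ha₁R, e₁⟩ := hl K hK2 H.conjK a ha (e.symm ▸ Subgroup.mem_zpowers _)
    obtain ⟨y₁, hy₁, hy₁R, e₂⟩ := hl Y hY2 H.conj₂ y hy (Subgroup.mem_zpowers _)
    refine H.disjK a₁ ha₁ ?_
    rwa [mul_inv_eq_one.1 (hinj _ (mul_mem ha₁R (inv_mem hy₁R))
      (by rw [map_mul, map_inv, e₁, e₂, e, mul_inv_cancel]))]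
  · rintro _ ⟨y, hy, rfl⟩ _ ⟨y', hy', rfl⟩ hne' hcm
    have hy2 := hinv _ ⟨y, hy, rfl⟩
    have hy2' := hinv _ ⟨y', hy', rfl⟩
    have hP : IsPGroup 2 (Subgroup.closure ({f y, f y'} : Set G')) := by
      refine Invol.isPGroup_closure_pair (a := 1) hy2 hy2' ?_
      rw [pow_one]
      refine Invol.orderOf_two_iff.2 ⟨?_, Invol.mul_ne_one_of_ne hy2 hne'⟩
      calc f y * f y' * (f y * f y') = f y * (f y' * f y) * f y' := by group
        _ = f y * f y * (f y' * f y') := by rw [← hcm.eq]; group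
        _ = 1 := by rw [Invol.mul_self_of_orderOf_two hy2, Invol.mul_self_of_orderOf_two hy2', one_mul]
    obtain ⟨R, hR, hinj, hl⟩ := lift _ hP
    obtain ⟨y₁, hy₁, hy₁R, e₁⟩ := hl Y hY2 H.conj₂ y hy (Subgroup.subset_closure (Set.mem_insert _ _))
    obtain ⟨y₂, hy₂, hy₂R, e₂⟩ := hl Y hY2 H.conj₂ y' hy'
      (Subgroup.subset_closure (Set.mem_insert_of_mem _ rfl))
    refine ⟨y₁ * y₂, H.mul₂ y₁ hy₁ y₂ hy₂ (fun e => hne' (by rw [← e₁, ← e₂, e])) ?_,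
      by rw [map_mul, e₁, e₂]⟩
    refine mul_inv_eq_iff_eq_mul.1 (mul_inv_eq_one.1 (hinj _ (mul_mem (mul_mem (mul_mem hy₁R hy₂R)
      (inv_mem hy₁R)) (inv_mem hy₂R)) ?_))
    rw [map_mul, map_mul, map_mul, map_inv, map_inv, e₁, e₂, hcm.eq]
    group

theorem CommSets.commute_of_two (H : CommSets G Z Y) {x y : G} (hx : x ∈ Z) (hy : y ∈ Y) {a : ℕ}
    (h : orderOf (x * y) = 2 ^ a) : Commute x y :=
  H.comm _ (Invol.isPGroup_closure_pair (H.inv₁ x hx) (H.inv₂ y hy) h) x hx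
    (Subgroup.subset_closure (Set.mem_insert _ _)) y hy
    (Subgroup.subset_closure (Set.mem_insert_of_mem _ rfl))

/-- The product of members of both sets has twice odd order. -/
theorem CommSets.exists_conj (H : CommSets G Z Y) {x y : G} (hx : x ∈ Z) (hy : y ∈ Y) :
    ∃ d : G, d ∈ zpowers (x * y) ∧ y * d * y⁻¹ = d⁻¹ ∧ d * x * d⁻¹ ∈ Z ∧
      Commute (d * x * d⁻¹) y ∧ Odd (orderOf d) ∧ Commute d (d * x * d⁻¹ * y) := by
  classical
  have hx2 := H.inv₁ x hx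
  have hy2 := H.inv₂ y hy
  obtain ⟨a, b, hb, hab⟩ := Nat.exists_eq_two_pow_mul_odd (orderOf_pos (x * y)).ne'
  obtain ⟨w, hw⟩ : ∃ w, w = (x * y) ^ b := ⟨_, rfl⟩
  -- the two part has order at most two
  have hw2 : orderOf w = 2 ^ a := by
    rw [hw, orderOf_pow' _ (by rcases hb with ⟨j, rfl⟩; omega : b ≠ 0), hab,
      Nat.gcd_eq_right (dvd_mul_left b _), Nat.mul_div_cancel _ hb.pos]
  obtain ⟨d₀, hd₀, hd₀e, -⟩ := Invol.exists_conj_two_part hx2 hy2 hab hb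
  rw [← hw] at hd₀e
  have hy' : x * w ∈ Y := hd₀e ▸ H.conj₂ d₀ y hy
  have hxy' : orderOf (x * (x * w)) = 2 ^ a := by
    rw [← mul_assoc, Invol.mul_self_of_orderOf_two hx2, one_mul, hw2]
  have hc := H.commute_of_two hx hy' hxy'
  have hww : w * w = 1 := by
    have h1 : x * w * x = x * x * w := by rw [← hc.eq]; group
    have h2 : x * w * x = w := by rw [h1, Invol.mul_self_of_orderOf_two hx2, one_mul]
    have h3 : x * w * x = w⁻¹ := by
      have e := Invol.conj_mul_zpow_eq_inv hx2 hy2 (b : ℤ)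
      rw [zpow_natCast, zpow_neg, zpow_natCast, ← hw, Invol.inv_of_orderOf_two hx2] at e
      exact e
    exact mul_eq_one_iff_eq_inv.2 (h2.symm.trans h3)
  obtain ⟨j, hj⟩ := hb
  obtain ⟨d, hd⟩ : ∃ d, d = (x * y) ^ (2 * (j * (j + 1))) := ⟨_, rfl⟩
  have h2b : (x * y) ^ (2 * b) = 1 := by rw [two_mul, pow_add, ← hw, hww]
  have hdd : d * d = (x * y) ^ (2 * j) := by
    rw [hd, ← pow_add, show 2 * (j * (j + 1)) + 2 * (j * (j + 1)) = 2 * b * j + 2 * j by rw [hj]; ring,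
      pow_add, pow_mul, h2b, one_pow, one_mul]
  have hxd : x * d⁻¹ = d * x := by
    have e := Invol.mul_zpow_comm hx2 hy2 (-((2 * (j * (j + 1)) : ℕ) : ℤ))
    rwa [neg_neg, zpow_neg, zpow_natCast, ← hd] at e
  have hcy : d * x * d⁻¹ * y = w := by
    calc d * x * d⁻¹ * y = d * (x * d⁻¹) * y := by group
      _ = d * d * (x * y) := by rw [hxd]; group
      _ = w := by rw [hdd, ← pow_succ, hw, hj]
  have hdz : d ∈ zpowers (x * y) := hd ▸ Subgroup.npow_mem_zpowers _ _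
  refine ⟨d, hdz, ?_, H.conj₁ _ x hx, ?_, ?_, ?_⟩
  · have hyy := Invol.mul_self_of_orderOf_two hy2
    have hx' : y = x * (x * y) := Invol.y_eq hx2
    have e : y * (x * y) * y⁻¹ = (x * y)⁻¹ := by
      rw [_root_.mul_inv_rev, Invol.inv_of_orderOf_two hx2, Invol.inv_of_orderOf_two hy2,
        mul_assoc, mul_assoc, hyy, mul_one]
    rw [hd, ← conj_pow, e, inv_pow]
  · have hc : d * x * d⁻¹ * y * (d * x * d⁻¹ * y) = 1 := by rw [hcy, hww]
    have h1 : d * x * d⁻¹ * y = (d * x * d⁻¹ * y)⁻¹ := eq_inv_of_mul_eq_one_left hc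
    rw [_root_.mul_inv_rev, Invol.inv_of_orderOf_two hy2,
      Invol.inv_of_orderOf_two ((Invol.orderOf_conj_eq d x).trans hx2)] at h1
    exact h1
  · refine Odd.of_dvd_nat (n := b) ⟨j, hj⟩ (orderOf_dvd_of_pow_eq_one ?_)
    rw [hd, ← pow_mul, show 2 * (j * (j + 1)) * b = 2 * b * (j * (j + 1)) by ring, pow_mul, h2b, one_pow]
  · rw [hcy, hd, hw]
    exact (Commute.refl (x * y)).pow_pow _ _

end Cfsg.Agent.Fus.ClosedPair
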