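import Mathlib
import Cfsg.Agent.Lib.Invol.SmallCent.FourFixed
import Cfsg.Agent.Lib.Invol.Sylow

/-!
# Commuting involutions acting on a group of odd order
-/

set_option autoImplicit false
set_option linter.style.haveILetI false

namespace Cfsg.Agent.Fus.ClosedPair

open Subgroup
open Cfsg.Agent.Invol.SmallCent (sqr sqr_mem sqr_mul_self eq_sqr conj_sqr conj_conj)

universe u

variable {G : Type u} [Group G] [Finite G] {R : Subgroup G}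

/-- Each element of an odd group is an inverted element times a fixed one. -/
theorem split_fixed (hR : Odd (Nat.card R)) {t : G} (ht : t * t = 1)
    (hn : ∀ x ∈ R, t * x * t⁻¹ ∈ R) {x : G} (hx : x ∈ R) :
    ∃ i c : G, i ∈ R ∧ t * i * t⁻¹ = i⁻¹ ∧ c ∈ R ∧ t * c * t⁻¹ = c ∧ i * c = x := by
  have hy : x * (t * x * t⁻¹)⁻¹ ∈ R := R.mul_mem hx (R.inv_mem (hn x hx))
  obtain ⟨i, hi⟩ : ∃ i, i = sqr R (x * (t * x * t⁻¹)⁻¹) := ⟨_, rfl⟩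
  have hiR : i ∈ R := hi ▸ sqr_mem hy
  have hii : i * i = x * (t * x * t⁻¹)⁻¹ := hi ▸ sqr_mul_self hR hy
  have hti : t * i * t⁻¹ = i⁻¹ := by
    rw [hi, conj_sqr]
    refine (eq_sqr hR (R.inv_mem (sqr_mem hy)) ?_).symm
    rw [← _root_.mul_inv_rev, ← hi, hii]
    calc (x * (t * x * t⁻¹)⁻¹)⁻¹ = t * x * t⁻¹ * x⁻¹ := by group
      _ = t * x * t⁻¹ * (t * (t * x * t⁻¹) * t⁻¹)⁻¹ := by rw [conj_conj ht]
      _ = _ := by group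
  refine ⟨i, i⁻¹ * x, hiR, hti, R.mul_mem (R.inv_mem hiR) hx, ?_, mul_inv_cancel_left i x⟩
  calc t * (i⁻¹ * x) * t⁻¹ = (t * i * t⁻¹)⁻¹ * (t * x * t⁻¹) := by group
    _ = i⁻¹ * (i * i) * (t * x * t⁻¹) := by rw [hti]; group
    _ = i⁻¹ * x := by rw [hii]; group

/-- An element inverted by `y` is built from inverted elements fixed by `p` and by `p * y`. -/
theorem split_inverted (hR : Odd (Nat.card R)) {p y : G} (hp : p * p = 1) (hpy : Commute p y)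
    (hn : ∀ x ∈ R, p * x * p⁻¹ ∈ R) (hny : ∀ x ∈ R, y * x * y⁻¹ ∈ R) {a : G} (ha : a ∈ R) (hya : y * a * y⁻¹ = a⁻¹) :
    ∃ c b : G, c ∈ R ∧ p * c * p⁻¹ = c ∧ y * c * y⁻¹ = c⁻¹ ∧
      b ∈ R ∧ p * y * b * (p * y)⁻¹ = b ∧ y * b * y⁻¹ = b⁻¹ ∧ a = c * b * c := by
  obtain ⟨q, hq⟩ : ∃ q, q = p * a * p⁻¹ := ⟨_, rfl⟩
  have hqR : q ∈ R := hq ▸ hn a ha
  have hw : q * a⁻¹ ∈ R := R.mul_mem hqR (R.inv_mem ha)
  obtain ⟨X, hX⟩ : ∃ X, X = sqr R (q * a⁻¹) * a := ⟨_, rfl⟩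
  have hXR : X ∈ R := hX ▸ R.mul_mem (sqr_mem hw) ha
  have hXq : X * a⁻¹ * X = q := by
    rw [hX, mul_inv_cancel_right, ← mul_assoc, sqr_mul_self hR hw, inv_mul_cancel_right]
  have huniq : ∀ Y ∈ R, Y * a⁻¹ * Y = q → Y = X := by
    intro Y hY hYq
    have h1 : Y * a⁻¹ = sqr R (q * a⁻¹) :=
      eq_sqr hR (R.mul_mem hY (R.inv_mem ha)) (by rw [← hYq]; group)
    rw [hX, ← h1, inv_mul_cancel_right]
  have hqy : y * q * y⁻¹ = q⁻¹ := by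
    calc y * q * y⁻¹ = (y * p) * a * (y * p)⁻¹ := by rw [hq]; group
      _ = p * (y * a * y⁻¹) * p⁻¹ := by rw [← hpy.eq]; group
      _ = _ := by rw [hya, hq]; group
  -- the middle term is fixed by `p` and inverted by `y`
  have hpX : p * X * p⁻¹ = X := by
    refine huniq _ (hn X hXR) ?_
    have h1 : p * X * p⁻¹ * q⁻¹ * (p * X * p⁻¹) = a := by
      calc _ = p * (X * a⁻¹ * X) * p⁻¹ := by rw [hq]; group
        _ = _ := by rw [hXq, hq, conj_conj hp]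
    calc _ = p * X * p⁻¹ * (p * X * p⁻¹ * q⁻¹ * (p * X * p⁻¹))⁻¹ * (p * X * p⁻¹) := by rw [h1]
      _ = q := by group
  have hmid : X⁻¹ * q * X⁻¹ = a⁻¹ := by rw [← hXq]; group
  have hyX : y * X * y⁻¹ = X⁻¹ := by
    have h1 : y * X * y⁻¹ * a * (y * X * y⁻¹) = q⁻¹ := by
      rw [← hqy, ← hXq, show y * (X * a⁻¹ * X) * y⁻¹ =
        y * X * y⁻¹ * (y * a * y⁻¹)⁻¹ * (y * X * y⁻¹) by group, hya, inv_inv]
    have h2 : (y * X * y⁻¹)⁻¹ = X := by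
      refine huniq _ (R.inv_mem ?_) ?_
      · exact hny X hXR
      · rw [← inv_inj (a := _ * a⁻¹ * _)]
        rw [← h1]; group
    exact inv_eq_iff_eq_inv.mp h2
  obtain ⟨c, hc⟩ : ∃ c, c = sqr R X := ⟨_, rfl⟩
  have hcR : c ∈ R := hc ▸ sqr_mem hXR
  have hcc : c * c = X := hc ▸ sqr_mul_self hR hXR
  have hpc : p * c * p⁻¹ = c := by rw [hc, conj_sqr, hpX]
  have hyc : y * c * y⁻¹ = c⁻¹ := by
    rw [hc, conj_sqr, hyX]
    exact (eq_sqr hR (R.inv_mem (sqr_mem hXR)) (by rw [← _root_.mul_inv_rev, sqr_mul_self hR hXR])).symm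
  have hbp : p * (c⁻¹ * a * c⁻¹) * p⁻¹ = (c⁻¹ * a * c⁻¹)⁻¹ := by
    calc _ = (p * c * p⁻¹)⁻¹ * (p * a * p⁻¹) * (p * c * p⁻¹)⁻¹ := by group
      _ = c * (X⁻¹ * q * X⁻¹) * c := by rw [hpc, ← hq, ← hcc]; group
      _ = _ := by rw [hmid]; group
  have hby : y * (c⁻¹ * a * c⁻¹) * y⁻¹ = (c⁻¹ * a * c⁻¹)⁻¹ := by
    calc _ = (y * c * y⁻¹)⁻¹ * (y * a * y⁻¹) * (y * c * y⁻¹)⁻¹ := by group
      _ = _ := by rw [hyc, hya]; group
  refine ⟨c, c⁻¹ * a * c⁻¹, hcR, hpc, hyc, R.mul_mem (R.mul_mem (R.inv_mem hcR) ha) (R.inv_mem hcR),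
    ?_, hby, by group⟩
  calc _ = p * (y * (c⁻¹ * a * c⁻¹) * y⁻¹) * p⁻¹ := by group
    _ = (p * (c⁻¹ * a * c⁻¹) * p⁻¹)⁻¹ := by rw [hby]; group
    _ = _ := by rw [hbp, inv_inv]

end Cfsg.Agent.Fus.ClosedPair
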