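import Mathlib
import Cfsg.Agent.Lib.Fus.ClosedPair.Basic
import Cfsg.Agent.Lib.Fus.ClosedPair.OddGroup
import Cfsg.Prelude.Def_Local
import Cfsg.Agent.Lib.Grp.BalanceReduction

/-!
# Commuting classes of involutions in a group with trivial centre and core

The minimal situation: two classes, every member commuting with another member of its class,
and the conclusion known in proper subgroups. Four-groups and their connectivity.
-/

set_option autoImplicit false
set_option linter.unusedSectionVars false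
set_option linter.style.haveILetI false

namespace Cfsg.Agent.Fus.ClosedPair

open Subgroup
open Cfsg.Agent.Invol (mul_self_of_orderOf_two inv_of_orderOf_two orderOf_two_iff)

universe u

variable {G : Type u} [Group G]

/-- The odd core of a subgroup, inside the group. -/
def coreIn (M : Subgroup G) : Subgroup G := (Cfsg.pPrimeCore 2 ↥M).map M.subtype

/-- The minimal situation. -/
structure Base (G : Type u) [Group G] (Z Y : Set G) : Prop extends CommSets G Z Y where
  core_eq : Cfsg.pPrimeCore 2 G = ⊥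
  ctr_eq : center G = ⊥
  ind : ∀ M : Subgroup G, M ≠ ⊤ → ∀ x ∈ Z, ∀ y ∈ Y, x ∈ M → y ∈ M → x * y * x * y ∈ coreIn M
  tr₁ : ∀ x ∈ Z, ∀ x' ∈ Z, ∃ g : G, g * x * g⁻¹ = x'
  tr₂ : ∀ y ∈ Y, ∀ y' ∈ Y, ∃ g : G, g * y * g⁻¹ = y'
  mate₁ : ∀ x ∈ Z, ∃ x' ∈ Z, x' ≠ x ∧ Commute x x'
  mate₂ : ∀ y ∈ Y, ∃ y' ∈ Y, y' ≠ y ∧ Commute y y'

variable {Z Y : Set G}

theorem Base.symm (B : Base G Z Y) : Base G Y Z where
  toCommSets := B.toCommSets.symm
  core_eq := B.core_eq
  ctr_eq := B.ctr_eq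
  ind M hM y hy x hx hyM hxM := by
    have h := inv_mem (B.ind M hM x hx y hy hxM hyM)
    simpa [inv_of_orderOf_two (B.inv₁ x hx), inv_of_orderOf_two (B.inv₂ y hy), mul_assoc] using h
  tr₁ := B.tr₂
  tr₂ := B.tr₁
  mate₁ := B.mate₂
  mate₂ := B.mate₁

/-- Two distinct commuting members. -/
structure Edge (Z : Set G) (p p' : G) : Prop where
  left : p ∈ Z
  right : p' ∈ Z
  ne : p ≠ p'
  comm : Commute p p'

theorem Edge.symm {p p' : G} (e : Edge Z p p') : Edge Z p' p :=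
  ⟨e.right, e.left, e.ne.symm, e.comm.symm⟩

theorem commute_conj {a b : G} (h : Commute a b) (g : G) : Commute (g * a * g⁻¹) (g * b * g⁻¹) := by
  simpa using h.map (MulAut.conj g).toMonoidHom

theorem Edge.conj (B : CommSets G Z Y) {p p' : G} (e : Edge Z p p') (g : G) :
    Edge Z (g * p * g⁻¹) (g * p' * g⁻¹) :=
  ⟨B.conj₁ g p e.left, B.conj₁ g p' e.right, fun h => e.ne (mul_left_cancel (mul_right_cancel h)),
    commute_conj e.comm g⟩

/-- The elements of the four-group of an edge. -/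
def Four (p p' a : G) : Prop := a = p ∨ a = p' ∨ a = p * p'

theorem Four.conj {p p' a : G} (h : Four p p' a) (g : G) :
    Four (g * p * g⁻¹) (g * p' * g⁻¹) (g * a * g⁻¹) := by
  rcases h with rfl | rfl | rfl
  · exact Or.inl rfl
  · exact Or.inr (Or.inl rfl)
  · exact Or.inr (Or.inr (by group))

theorem Four.commute {p p' a b : G} (h : Four p p' a) (h1 : Commute p b) (h2 : Commute p' b) :
    Commute a b := by
  rcases h with rfl | rfl | rfl
  exacts [h1, h2, h1.mul_left h2]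

theorem Four.ne_one (B : CommSets G Z Y) {p p' a : G} (e : Edge Z p p') (h : Four p p' a) :
    a ≠ 1 := by
  rcases h with rfl | rfl | rfl
  · exact (orderOf_two_iff.1 (B.inv₁ _ e.left)).2
  · exact (orderOf_two_iff.1 (B.inv₁ _ e.right)).2
  · exact Invol.mul_ne_one_of_ne (B.inv₁ _ e.left) e.ne

theorem Four.mul_self (B : CommSets G Z Y) {p p' a : G} (e : Edge Z p p') (h : Four p p' a) :
    a * a = 1 := by
  have h1 := mul_self_of_orderOf_two (B.inv₁ _ e.left)
  have h2 := mul_self_of_orderOf_two (B.inv₁ _ e.right)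
  rcases h with rfl | rfl | rfl
  · exact h1
  · exact h2
  · calc p * p' * (p * p') = p * (p' * p) * p' := by group
      _ = p * p * (p' * p') := by rw [← e.comm.eq]; group
      _ = 1 := by rw [h1, h2, one_mul]

/-- Two elements lie in a four-group of an edge inside `C`. -/
def Join (Z : Set G) (C : Subgroup G) (a b : G) : Prop :=
  ∃ p p', Edge Z p p' ∧ p ∈ C ∧ p' ∈ C ∧ Four p p' a ∧ Four p p' b

/-- Connectivity by four-groups of edges inside `C`. -/
def Conn (Z : Set G) (C : Subgroup G) : G → G → Prop := Relation.ReflTransGen (Join Z C)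

theorem Conn.symm {C : Subgroup G} {a b : G} (h : Conn Z C a b) : Conn Z C b a :=
  by
  induction h with
  | refl => exact Relation.ReflTransGen.refl
  | tail _ h ih =>
    obtain ⟨p, p', e, h1, h2, ha, hb⟩ := h
    exact Relation.ReflTransGen.head ⟨p, p', e, h1, h2, hb, ha⟩ ih

theorem Conn.trans {C : Subgroup G} {a b c : G} (h : Conn Z C a b) (h' : Conn Z C b c) :
    Conn Z C a c :=
  Relation.ReflTransGen.trans h h'

theorem Conn.refl {C : Subgroup G} (a : G) : Conn Z C a a := Relation.ReflTransGen.refl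

theorem Conn.mono {C C' : Subgroup G} (hle : C ≤ C') {a b : G} (h : Conn Z C a b) : Conn Z C' a b :=
  Relation.ReflTransGen.mono (fun _ _ ⟨p, p', e, h1, h2, ha, hb⟩ => ⟨p, p', e, hle h1, hle h2, ha, hb⟩) _ _ h

theorem Conn.conj (B : CommSets G Z Y) {C : Subgroup G} {g : G}
    (hg : ∀ a ∈ C, g * a * g⁻¹ ∈ C) {a b : G} (h : Conn Z C a b) :
    Conn Z C (g * a * g⁻¹) (g * b * g⁻¹) := by
  induction h with
  | refl => exact Conn.refl _
  | tail _ h ih =>
    obtain ⟨p, p', e, h1, h2, ha, hb⟩ := h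
    exact ih.trans (Relation.ReflTransGen.single
      ⟨_, _, e.conj B g, hg p h1, hg p' h2, ha.conj g, hb.conj g⟩)

theorem Edge.conn {C : Subgroup G} {p p' a b : G} (e : Edge Z p p') (hp : p ∈ C) (hp' : p' ∈ C)
    (ha : Four p p' a) (hb : Four p p' b) : Conn Z C a b :=
  Relation.ReflTransGen.single ⟨p, p', e, hp, hp', ha, hb⟩

variable [Finite G]

theorem centralizer_ne_top (B : Base G Z Y) {b : G} (hb : b ≠ 1) :
    centralizer ({b} : Set G) ≠ ⊤ := fun h => hb <| by
  have : b ∈ center G := Subgroup.mem_center_iff.2 fun g =>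
    Subgroup.mem_centralizer_singleton_iff.1 (h ▸ Subgroup.mem_top g)
  rwa [B.ctr_eq, Subgroup.mem_bot] at this

theorem odd_orderOf_of_mem {R : Subgroup G} (hR : Odd (Nat.card R)) {x : G} (hx : x ∈ R) :
    Odd (orderOf x) :=
  hR.of_dvd_nat (Subgroup.orderOf_dvd_natCard _ hx)

theorem odd_coreIn (M : Subgroup G) : Odd (Nat.card (coreIn M)) := by
  rw [coreIn, Subgroup.card_map_of_injective M.subtype_injective]
  exact Invol.odd_oddCore

/-- The element carrying a member to one commuting with `y` lies in the core of the centralizer. -/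
theorem Base.exists_move (B : Base G Z Y) {a x y : G} (ha : a ≠ 1) (hx : x ∈ Z) (hy : y ∈ Y)
    (hxa : Commute x a) (hya : Commute y a) :
    ∃ d : G, d ∈ centralizerPPrimeCore 2 a ∧ d ∈ zpowers (x * y) ∧ x * d * x⁻¹ = d⁻¹ ∧
      y * d * y⁻¹ = d⁻¹ ∧ d * x * d⁻¹ ∈ Z ∧ Commute (d * x * d⁻¹) y := by
  obtain ⟨d, hd, hyd, hdZ, hdc, hodd, -⟩ := B.exists_conj hx hy
  have hO := B.ind _ (centralizer_ne_top B ha) x hx y hy
    (Subgroup.mem_centralizer_singleton_iff.2 hxa.eq) (Subgroup.mem_centralizer_singleton_iff.2 hya.eq)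
  obtain ⟨i, hi⟩ := Subgroup.mem_zpowers_iff.1 hd
  refine ⟨d, Invol.mem_of_sq_mem hodd ?_, hd, ?_, hyd, hdZ, hdc⟩
  · rw [← hi, ← zpow_add, ← two_mul, zpow_mul, show ((2 : ℤ)) = ((2 : ℕ) : ℤ) from rfl, zpow_natCast,
      sq, show x * y * (x * y) = x * y * x * y by group]
    exact Subgroup.zpow_mem _ hO i
  · rw [← hi, Invol.conj_mul_zpow_eq_inv (B.inv₁ x hx) (B.inv₂ y hy) i, zpow_neg]

theorem exists_conj_into {C P Q : Subgroup G} (hP : IsPGroup 2 P) (hPC : P ≤ C) (hQ : IsPGroup 2 Q)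
    (hQC : Q ≤ C) :
    ∃ c ∈ C, ∃ R : Subgroup G, IsPGroup 2 R ∧ P ≤ R ∧ ∀ q ∈ Q, c * q * c⁻¹ ∈ R := by
  haveI : Fact (Nat.Prime 2) := ⟨Nat.prime_two⟩
  obtain ⟨T, hT⟩ := (hP.comap_subtype (K := C)).exists_le_sylow
  obtain ⟨c, hc⟩ := Invol.exists_conj_subset_sylow (hQ.comap_subtype (K := C)) T
  exact ⟨c, c.2, (T : Subgroup C).map C.subtype, T.isPGroup'.map _,
    fun p hp => ⟨⟨p, hPC hp⟩, hT hp, rfl⟩, fun q hq => ⟨_, hc ⟨q, hQC hq⟩ hq, rfl⟩⟩

/-- A member commuting with two commuting members of the other set has such a partner. -/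
theorem Base.mate_le (B : Base G Z Y) {x y y' : G} (hx : x ∈ Z) (hy : y ∈ Y) (hy' : y' ∈ Y)
    (hxy : Commute x y) (hxy' : Commute x y') (hyy' : Commute y y') :
    ∃ x', Edge Z x x' ∧ Commute x' y ∧ Commute x' y' := by
  obtain ⟨m, hm, hne, hxm⟩ := B.mate₁ x hx
  have hP : IsPGroup 2 (Subgroup.closure ({y, y'} : Set G)) := by
    rcases eq_or_ne y y' with rfl | hne'
    · rw [Set.pair_eq_singleton, ← Subgroup.zpowers_eq_closure]
      exact isPGroup_zpowers_of_two (B.inv₂ y hy)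
    · refine Invol.isPGroup_closure_pair (a := 1) (B.inv₂ y hy) (B.inv₂ y' hy') ?_
      rw [pow_one]
      exact orderOf_two_iff.2 ⟨Four.mul_self B.toCommSets.symm ⟨hy, hy', hne', hyy'⟩ (Or.inr (Or.inr rfl)),
        Invol.mul_ne_one_of_ne (B.inv₂ y hy) hne'⟩
  obtain ⟨c, hc, R, hR, hmR, hcR⟩ := exists_conj_into (C := centralizer {x})
    (isPGroup_zpowers_of_two (B.inv₁ m hm))
    (Subgroup.zpowers_le.2 (Subgroup.mem_centralizer_singleton_iff.2 hxm.symm.eq)) hP
    ((Subgroup.closure_le _).2 (Set.insert_subset (Subgroup.mem_centralizer_singleton_iff.2 hxy.symm.eq)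
      (Set.singleton_subset_iff.2 (Subgroup.mem_centralizer_singleton_iff.2 hxy'.symm.eq))))
  have hcx : c⁻¹ * x * c⁻¹⁻¹ = x := by
    rw [inv_inv, mul_assoc, ← Subgroup.mem_centralizer_singleton_iff.1 hc, inv_mul_cancel_left]
  have key : ∀ w ∈ ({y, y'} : Set G), w ∈ Y → Commute (c⁻¹ * m * c⁻¹⁻¹) w := by
    intro w hw hwY
    have h := commute_conj (B.comm R hR m hm (hmR (Subgroup.mem_zpowers m)) _ (B.conj₂ c w hwY)
      (hcR w (Subgroup.subset_closure hw))) c⁻¹
    rwa [show c⁻¹ * (c * w * c⁻¹) * c⁻¹⁻¹ = w by group] at h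
  refine ⟨c⁻¹ * m * c⁻¹⁻¹, ?_, key y (Set.mem_insert _ _) hy,
    key y' (Set.mem_insert_of_mem _ rfl) hy'⟩
  have e := Edge.conj B.toCommSets (Z := Z) ⟨hx, hm, hne.symm, hxm⟩ c⁻¹
  rwa [hcx] at e

/-- Conjugation by an odd group normalized by a four-group keeps its component. -/
theorem conn_conj (B : CommSets G Z Y) {C D : Subgroup G} {p p' : G} (e : Edge Z p p') (hp : p ∈ C)
    (hp' : p' ∈ C) (hDC : D ≤ C) (hD : Odd (Nat.card D)) (hn : ∀ d ∈ D, p * d * p⁻¹ ∈ D)
    (hn' : ∀ d ∈ D, p' * d * p'⁻¹ ∈ D) {d : G} (hd : d ∈ D) {v : G} (hv : Four p p' v) :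
    Conn Z C v (d * v * d⁻¹) := by
  have hnC : ∀ {g : G}, g ∈ C → ∀ a ∈ C, g * a * g⁻¹ ∈ C := fun hg a ha =>
    mul_mem (mul_mem hg ha) (inv_mem hg)
  have fixed : ∀ {c : G}, c ∈ D → ∀ {b : G}, Four p p' b → Commute c b → Conn Z C v (c * v * c⁻¹) := by
    intro c hc b hb hcb
    have h1 := e.conn hp hp' hv hb
    have h2 := h1.symm.conj B (hnC (hDC hc))
    rw [hcb.eq, mul_inv_cancel_right] at h2
    exact h1.trans h2
  have comp : ∀ {a b : G}, a ∈ D → Conn Z C v (a * v * a⁻¹) → Conn Z C v (b * v * b⁻¹) →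
      Conn Z C v (a * b * v * (a * b)⁻¹) := by
    intro a b ha h1 h2
    have h3 := h2.conj B (hnC (hDC ha))
    rw [show a * (b * v * b⁻¹) * a⁻¹ = a * b * v * (a * b)⁻¹ by group] at h3
    exact h1.trans h3
  have hpp := mul_self_of_orderOf_two (B.inv₁ p e.left)
  have hpp' := mul_self_of_orderOf_two (B.inv₁ p' e.right)
  obtain ⟨i, c, hi, hpi, hc, hpc, rfl⟩ := split_fixed hD hpp hn hd
  obtain ⟨c', b, hc', hpc', -, hb, hpb, -, rfl⟩ := split_inverted hD hpp' e.comm.symm hn' hn hi hpi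
  have hcc : Commute c p := (mul_inv_eq_iff_eq_mul.1 hpc).symm
  have hcc' : Commute c' p' := (mul_inv_eq_iff_eq_mul.1 hpc').symm
  have hbb : Commute b (p * p') := by
    have : Commute b (p' * p) := (mul_inv_eq_iff_eq_mul.1 hpb).symm
    rwa [← e.comm.eq] at this
  have k1 := fixed hc' (Or.inr (Or.inl rfl)) hcc'
  have k2 := fixed hb (Or.inr (Or.inr rfl)) hbb
  exact comp (mul_mem (mul_mem hc' hb) hc') (comp (mul_mem hc' hb) (comp hc' k1 k2) k1)
    (fixed hc (Or.inl rfl) hcc)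

theorem core_mem_conj {a g w : G} (hg : Commute g a) (hw : w ∈ centralizerPPrimeCore 2 a) :
    g * w * g⁻¹ ∈ centralizerPPrimeCore 2 a :=
  Cfsg.Agent.Grp.centralizerPPrimeCore_conj hg.eq hw

theorem commute_of_mem_core {a w : G} (hw : w ∈ centralizerPPrimeCore 2 a) : Commute w a :=
  Subgroup.mem_centralizer_singleton_iff.1 (Subgroup.map_subtype_le _ hw)

theorem odd_core (a : G) : Odd (Nat.card ↥(centralizerPPrimeCore 2 a)) := odd_coreIn _

/-- Moving an element across: it stays in its component. -/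
theorem Base.conn_move (B : Base G Z Y) {x x' y : G} (hx : x ∈ Z) (hy : y ∈ Y)
    (hconj : ∃ d, d ∈ centralizerPPrimeCore 2 (x' * y) ∧ x = d * x' * d⁻¹) (hx' : x' ∈ Z)
    (hc : Commute x' y) : Conn Z ⊤ x' x := by
  obtain ⟨d, hd, rfl⟩ := hconj
  obtain ⟨m, e, hm, -⟩ := B.mate_le hx' hy hy hc hc (Commute.refl y)
  exact conn_conj B.toCommSets e (Subgroup.mem_top _) (Subgroup.mem_top _) le_top (odd_core _)
    (fun w hw => core_mem_conj ((Commute.refl x').mul_right hc) hw)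
    (fun w hw => core_mem_conj (e.comm.symm.mul_right hm) hw) hd (Or.inl rfl)

end Cfsg.Agent.Fus.ClosedPair
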