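import Mathlib
import Cfsg.Prelude.Def_TwoFusion
import Cfsg.Agent.Lib.Fus.SClosedSE.Core

/-!
# Fusion modulo a strongly closed subgroup

Conjugation inside a Sylow 2-subgroup agrees, modulo a strongly closed subgroup `S`, with
conjugation by an element normalizing `S`.
-/

set_option autoImplicit false
set_option linter.unusedSectionVars false
set_option linter.style.haveILetI false

namespace Cfsg.Agent.Fus.ClosedPair

open Subgroup
open scoped Pointwise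
open Cfsg.Agent.Fus.SClosedSE (IsTwoSylowIn exists_twoSylowIn card_lt_inf_normalizer)

universe u

variable {G : Type u} [Group G]

/-- `g` agrees on `R` with an element normalizing `S`, modulo `S`. -/
def CongOn (T S R : Subgroup G) (g : G) : Prop :=
  ∃ k ∈ Subgroup.normalizer (S : Set G), ∀ x ∈ R,
    k * x * k⁻¹ ∈ T ∧ (k * x * k⁻¹)⁻¹ * (g * x * g⁻¹) ∈ S

variable {T S : Subgroup G}

theorem CongOn.mono {R R' : Subgroup G} {g : G} (h : CongOn T S R' g) (hle : R ≤ R') :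
    CongOn T S R g := by
  obtain ⟨k, hk, hx⟩ := h
  exact ⟨k, hk, fun x hxR => hx x (hle hxR)⟩

theorem CongOn.comp (hST : S ≤ T) {R R' : Subgroup G} {g g' : G} (h : CongOn T S R g)
    (h' : CongOn T S R' g') (hR : ∀ x ∈ R, g * x * g⁻¹ ∈ R') : CongOn T S R (g' * g) := by
  obtain ⟨k, hk, hx⟩ := h
  obtain ⟨k', hk', hx'⟩ := h'
  refine ⟨k' * k, mul_mem hk' hk, fun x hxR => ?_⟩
  obtain ⟨a, ha⟩ : ∃ a, a = (k * x * k⁻¹)⁻¹ * (g * x * g⁻¹) := ⟨_, rfl⟩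
  have haS : a ∈ S := ha ▸ (hx x hxR).2
  have hs : k' * a * k'⁻¹ ∈ S := (Subgroup.mem_normalizer_iff.1 hk' _).1 haS
  obtain ⟨h1, h2⟩ := hx' _ (hR x hxR)
  have e : k' * k * x * (k' * k)⁻¹ = k' * (g * x * g⁻¹) * k'⁻¹ * (k' * a * k'⁻¹)⁻¹ := by
    rw [ha]; group
  refine ⟨e ▸ mul_mem h1 (inv_mem (hST hs)), ?_⟩
  have e2 : (k' * k * x * (k' * k)⁻¹)⁻¹ * (g' * g * x * (g' * g)⁻¹) =
      (k' * a * k'⁻¹) * ((k' * (g * x * g⁻¹) * k'⁻¹)⁻¹ * (g' * (g * x * g⁻¹) * g'⁻¹)) := by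
    rw [ha]; group
  rw [e2]
  exact mul_mem hs h2

theorem CongOn.inv (hST : S ≤ T) {R R' : Subgroup G} {g : G} (h : CongOn T S R g)
    (hRT : R ≤ T) (hR : ∀ y ∈ R', g⁻¹ * y * g ∈ R) : CongOn T S R' g⁻¹ := by
  obtain ⟨k, hk, hx⟩ := h
  refine ⟨k⁻¹, inv_mem hk, fun y hy => ?_⟩
  obtain ⟨a, ha⟩ : ∃ a, a = (k * (g⁻¹ * y * g) * k⁻¹)⁻¹ * (g * (g⁻¹ * y * g) * g⁻¹) := ⟨_, rfl⟩
  have haS : a ∈ S := ha ▸ (hx _ (hR y hy)).2
  have hs : k⁻¹ * a * k⁻¹⁻¹ ∈ S := (Subgroup.mem_normalizer_iff.1 (inv_mem hk) _).1 haS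
  have e : k⁻¹ * y * k⁻¹⁻¹ = g⁻¹ * y * g * (k⁻¹ * a * k⁻¹⁻¹) := by rw [ha]; group
  refine ⟨e ▸ mul_mem (hRT (hR y hy)) (hST hs), ?_⟩
  rw [e, show (g⁻¹ * y * g * (k⁻¹ * a * k⁻¹⁻¹))⁻¹ * (g⁻¹ * y * g⁻¹⁻¹) = (k⁻¹ * a * k⁻¹⁻¹)⁻¹ by group]
  exact inv_mem hs

theorem le_normalizer_of_closed [Finite G] (hcl : Cfsg.IsStronglyClosed S T) :
    T ≤ Subgroup.normalizer (S : Set G) := fun t ht => by
  have key : ∀ u ∈ T, ∀ s ∈ S, u * s * u⁻¹ ∈ S := fun u hu s hs =>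
    hcl.2 s hs u (mul_mem (mul_mem hu (hcl.1 hs)) (inv_mem hu))
  refine Subgroup.mem_normalizer_iff.2 fun s => ⟨key t ht s, fun h => ?_⟩
  have := key t⁻¹ (inv_mem ht) _ h
  rwa [show t⁻¹ * (t * s * t⁻¹) * t⁻¹⁻¹ = s by group] at this

variable [Finite G]

theorem mem_normalizer_of_conj_mem {R : Subgroup G} {g : G} (h : ∀ x ∈ R, g * x * g⁻¹ ∈ R) :
    g ∈ Subgroup.normalizer (R : Set G) := by
  have hmap : R.map (MulAut.conj g).toMonoidHom = R := by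
    refine Subgroup.eq_of_le_of_card_ge ?_ (le_of_eq ?_)
    · rintro _ ⟨x, hx, rfl⟩; exact h x hx
    · exact (Subgroup.card_map_of_injective (MulAut.conj g).injective).symm
  refine Subgroup.mem_normalizer_iff.2 fun x => ⟨h x, fun hx => ?_⟩
  rw [← hmap] at hx
  obtain ⟨w, hw, e⟩ := hx
  simp only [MulEquiv.coe_toMonoidHom, MulAut.conj_apply] at e
  rwa [← mul_left_cancel (mul_right_cancel e)]

/-- Conjugation inside a Sylow 2-subgroup agrees modulo a strongly closed subgroup with an element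
normalizing it. -/
theorem congOn_of_conj (P : Sylow 2 G) (hcl : Cfsg.IsStronglyClosed S (P : Subgroup G)) :
    ∀ R : Subgroup G, R ≤ (P : Subgroup G) → ∀ g : G, (∀ x ∈ R, g * x * g⁻¹ ∈ (P : Subgroup G)) →
      CongOn (P : Subgroup G) S R g := by
  classical
  haveI : Fact (Nat.Prime 2) := ⟨Nat.prime_two⟩
  have hST : S ≤ (P : Subgroup G) := hcl.1
  suffices ∀ m : ℕ, ∀ R : Subgroup G, R ≤ (P : Subgroup G) → Nat.card (P : Subgroup G) - Nat.card R = m →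
      ∀ g : G, (∀ x ∈ R, g * x * g⁻¹ ∈ (P : Subgroup G)) → CongOn (P : Subgroup G) S R g from
    fun R hR g hg => this _ R hR rfl g hg
  intro m
  induction m using Nat.strong_induction_on with
  | _ m ih =>
  intro R hRP hm g hg
  by_cases hSR : S ≤ R
  · refine ⟨g, mem_normalizer_of_conj_mem fun s hs => hcl.2 s hs g (hg s (hSR hs)), fun x hx =>
      ⟨hg x hx, by rw [inv_mul_cancel]; exact one_mem _⟩⟩
  have hbig : ∀ R' : Subgroup G, R' ≤ (P : Subgroup G) → Nat.card R < Nat.card R' →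
      ∀ a : G, (∀ x ∈ R', a * x * a⁻¹ ∈ (P : Subgroup G)) → CongOn (P : Subgroup G) S R' a :=
    fun R' hR' hlt a ha => ih _ (by
      have := Subgroup.card_dvd_of_le hR'
      have := Nat.le_of_dvd Nat.card_pos this
      omega) R' hR' rfl a ha
  -- a fully normalized conjugate
  haveI : Nonempty {h : G // ∀ x ∈ R, h * x * h⁻¹ ∈ (P : Subgroup G)} :=
    ⟨⟨1, fun x hx => by simpa using hRP hx⟩⟩
  obtain ⟨⟨h, hh⟩, hmax⟩ := Finite.exists_max
    fun h : {h : G // ∀ x ∈ R, h * x * h⁻¹ ∈ (P : Subgroup G)} => Nat.card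
      ↥((P : Subgroup G) ⊓ Subgroup.normalizer ((R.map (MulAut.conj (h : G)).toMonoidHom : Subgroup G) : Set G))
  obtain ⟨F, hF⟩ : ∃ F, F = R.map (MulAut.conj h).toMonoidHom := ⟨_, rfl⟩
  have hFmem : ∀ {x : G}, x ∈ F ↔ h⁻¹ * x * h ∈ R := by
    intro x
    rw [hF]
    constructor
    · rintro ⟨w, hw, rfl⟩
      simpa [mul_assoc] using hw
    · intro hx
      exact ⟨_, hx, by simp [mul_assoc]⟩
  have hFP : F ≤ (P : Subgroup G) := fun x hx => by
    have := hh _ (hFmem.1 hx)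
    rwa [show h * (h⁻¹ * x * h) * h⁻¹ = x by group] at this
  have hFcard : Nat.card F = Nat.card R := by
    rw [hF]; exact Subgroup.card_map_of_injective (MulAut.conj h).injective
  obtain ⟨Q, hQ⟩ : ∃ Q, Q = (P : Subgroup G) ⊓ Subgroup.normalizer (F : Set G) := ⟨_, rfl⟩
  have hQsyl : IsTwoSylowIn Q (Subgroup.normalizer (F : Set G)) := by
    have hQ2 : IsPGroup 2 Q := hQ ▸ P.isPGroup'.to_le inf_le_left
    obtain ⟨R₁, hle, hR₁⟩ := exists_twoSylowIn (hQ ▸ inf_le_right : Q ≤ Subgroup.normalizer (F : Set G)) hQ2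
    suffices R₁ = Q from this ▸ hR₁
    refine (Subgroup.eq_of_le_of_card_ge hle ?_).symm
    have hFR₁ : ∀ x ∈ F, x ∈ R₁ := fun x hx =>
      hle (hQ ▸ ⟨hFP hx, Subgroup.le_normalizer hx⟩)
    obtain ⟨v, hv⟩ := Invol.exists_conj_subset_sylow hR₁.2.1 P
    have hvh : ∀ x ∈ R, v * h * x * (v * h)⁻¹ ∈ (P : Subgroup G) := fun x hx => by
      have hxF : h * x * h⁻¹ ∈ F := hFmem.2 (by simpa [mul_assoc] using hx)
      have := hv _ (hFR₁ _ hxF)
      rwa [show v * (h * x * h⁻¹) * v⁻¹ = v * h * x * (v * h)⁻¹ by group] at this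
    refine le_trans ?_ ((hmax ⟨v * h, hvh⟩).trans (le_of_eq (by rw [hQ, hF])))
    refine Nat.card_le_card_of_injective (fun r : R₁ => (⟨v * (r : G) * v⁻¹, hv r r.2, ?_⟩ :
      ↥((P : Subgroup G) ⊓ Subgroup.normalizer ((R.map (MulAut.conj (v * h)).toMonoidHom : Subgroup G) : Set G))))
      fun a b e => Subtype.ext (mul_left_cancel (mul_right_cancel (congrArg Subtype.val e :)))
    refine mem_normalizer_of_conj_mem fun x hx => ?_
    obtain ⟨w, hw, rfl⟩ := hx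
    have hxF : h * w * h⁻¹ ∈ F := hFmem.2 (by simpa [mul_assoc] using hw)
    have h1 := hFmem.1 ((Subgroup.mem_normalizer_iff.1 (hR₁.1 r.2) _).1 hxF)
    exact ⟨_, h1, by simp [mul_assoc]⟩
  -- moving into the fully normalized conjugate
  have move : ∀ R' : Subgroup G, R' ≤ (P : Subgroup G) → Nat.card R' = Nat.card R → ∀ a : G,
      (∀ x ∈ R', a * x * a⁻¹ ∈ F) →
      ∃ c ∈ Subgroup.normalizer (F : Set G), CongOn (P : Subgroup G) S R' (c * a) := by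
    intro R' hR' hcard a ha
    have hne : R' ≠ (P : Subgroup G) := fun e => hSR <| by
      have hRe : R = (P : Subgroup G) := Subgroup.eq_of_le_of_card_ge hRP (by rw [← e, hcard])
      exact hST.trans hRe.ge
    have hlt := card_lt_inf_normalizer P.isPGroup' hR' hne
    have hmap : R'.map (MulAut.conj a).toMonoidHom = F := by
      refine Subgroup.eq_of_le_of_card_ge ?_ ?_
      · rintro _ ⟨x, hx, rfl⟩; exact ha x hx
      · rw [Subgroup.card_map_of_injective (MulAut.conj a).injective, hcard, hFcard]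
    obtain ⟨c, hc, hcQ⟩ := hQsyl.2.2
      (((P : Subgroup G) ⊓ Subgroup.normalizer (R' : Set G)).map (MulAut.conj a).toMonoidHom)
      (by
        rintro _ ⟨w, hw, rfl⟩
        refine mem_normalizer_of_conj_mem fun x hx => ?_
        rw [← hmap] at hx ⊢
        obtain ⟨z, hz, rfl⟩ := hx
        exact ⟨w * z * w⁻¹, (Subgroup.mem_normalizer_iff.1 hw.2 z).1 hz, by simp [mul_assoc]⟩)
      ((P.isPGroup'.to_le inf_le_left).map _)
    refine ⟨c, hc, (hbig _ inf_le_left (hcard ▸ hlt) (c * a) fun x hx => ?_).mono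
      (le_inf hR' Subgroup.le_normalizer)⟩
    have h1 := hcQ _ ⟨x, hx, rfl⟩
    rw [hQ] at h1
    have h2 : c * (a * x * a⁻¹) * c⁻¹ ∈ (P : Subgroup G) := h1.1
    rwa [show c * (a * x * a⁻¹) * c⁻¹ = c * a * x * (c * a)⁻¹ by group] at h2
  obtain ⟨c₁, hc₁, H₁⟩ := move R hRP rfl h fun x hx => hFmem.2 (by simpa [mul_assoc] using hx)
  obtain ⟨c₂, hc₂, H₂⟩ := move (R.map (MulAut.conj g).toMonoidHom)
    (by rintro _ ⟨x, hx, rfl⟩; exact hg x hx)
    (Subgroup.card_map_of_injective (MulAut.conj g).injective) (h * g⁻¹) (by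
      rintro _ ⟨x, hx, rfl⟩
      exact hFmem.2 (by simpa [mul_assoc] using hx))
  have hc : c₂ * c₁⁻¹ ∈ Subgroup.normalizer (F : Set G) := mul_mem hc₂ (inv_mem hc₁)
  have hF₁ : ∀ x ∈ R, c₁ * h * x * (c₁ * h)⁻¹ ∈ F := fun x hx => by
    have := (Subgroup.mem_normalizer_iff.1 hc₁ _).1
      (hFmem.2 (show h⁻¹ * (h * x * h⁻¹) * h ∈ R by simpa [mul_assoc] using hx))
    simpa [mul_assoc] using this
  -- the element normalizing the fully normalized conjugate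
  have HF : CongOn (P : Subgroup G) S F (c₂ * c₁⁻¹) := by
    generalize c₂ * c₁⁻¹ = c at hc
    let K : Subgroup G :=
      { carrier := {v | v ∈ Subgroup.normalizer (F : Set G) ∧ ∀ x ∈ F, x⁻¹ * (v * x * v⁻¹) ∈ S}
        one_mem' := ⟨one_mem _, fun x _ => by simp⟩
        mul_mem' := fun {a b} ha hb => ⟨mul_mem ha.1 hb.1, fun x hx => by
          have h1 := hb.2 x hx
          have h2 := ha.2 _ ((Subgroup.mem_normalizer_iff.1 hb.1 x).1 hx)
          have h3 := mul_mem h1 h2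
          rwa [show x⁻¹ * (b * x * b⁻¹) * ((b * x * b⁻¹)⁻¹ * (a * (b * x * b⁻¹) * a⁻¹)) =
            x⁻¹ * (a * b * x * (a * b)⁻¹) by group] at h3⟩
        inv_mem' := fun {a} ha => ⟨inv_mem ha.1, fun x hx => by
          have h1 := inv_mem (ha.2 _ ((Subgroup.mem_normalizer_iff.1 (inv_mem ha.1) x).1 hx))
          rwa [show ((a⁻¹ * x * a⁻¹⁻¹)⁻¹ * (a * (a⁻¹ * x * a⁻¹⁻¹) * a⁻¹))⁻¹ = x⁻¹ * (a⁻¹ * x * a⁻¹⁻¹)
            by group] at h1⟩ }
    have hKnorm : ∀ n ∈ Subgroup.normalizer (F : Set G), ∀ v ∈ K, n * v * n⁻¹ ∈ K := by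
      intro n hn v hv
      refine ⟨mul_mem (mul_mem hn hv.1) (inv_mem hn), fun x hx => ?_⟩
      have hy := (Subgroup.mem_normalizer_iff.1 (inv_mem hn) x).1 hx
      have hs := hv.2 _ hy
      have hsF : (n⁻¹ * x * n⁻¹⁻¹)⁻¹ * (v * (n⁻¹ * x * n⁻¹⁻¹) * v⁻¹) ∈ F :=
        mul_mem (inv_mem hy) ((Subgroup.mem_normalizer_iff.1 hv.1 _).1 hy)
      have h1 := hcl.2 _ hs n (hFP ((Subgroup.mem_normalizer_iff.1 hn _).1 hsF))
      rwa [show n * ((n⁻¹ * x * n⁻¹⁻¹)⁻¹ * (v * (n⁻¹ * x * n⁻¹⁻¹) * v⁻¹)) * n⁻¹ =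
        x⁻¹ * (n * v * n⁻¹ * x * (n * v * n⁻¹)⁻¹) by group] at h1
    have hSyl : IsTwoSylowIn (Q ⊓ K) K := by
      have h2 : IsPGroup 2 ↥(Q ⊓ K) := hQsyl.2.1.to_le inf_le_left
      obtain ⟨R₁, hle, hR₁⟩ := exists_twoSylowIn (inf_le_right : Q ⊓ K ≤ K) h2
      suffices R₁ = Q ⊓ K from this ▸ hR₁
      refine (Subgroup.eq_of_le_of_card_ge hle ?_).symm
      obtain ⟨v, hv, hvQ⟩ := hQsyl.2.2 R₁ (fun r hr => (hR₁.1 hr).1) hR₁.2.1
      exact Nat.card_le_card_of_injective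
        (fun r : R₁ => (⟨v * (r : G) * v⁻¹, hvQ r r.2, hKnorm v hv r (hR₁.1 r.2)⟩ : ↥(Q ⊓ K)))
        fun a b e => Subtype.ext (mul_left_cancel (mul_right_cancel (congrArg Subtype.val e :)))
    obtain ⟨κ, hκ, hκP⟩ := hSyl.2.2 ((Q ⊓ K).map (MulAut.conj c).toMonoidHom)
      (by rintro _ ⟨w, hw, rfl⟩; exact hKnorm c hc w hw.2) (hSyl.2.1.map _)
    have hn : κ * c ∈ Subgroup.normalizer (F : Set G) := mul_mem hκ.1 hc
    have hnP : ∀ x ∈ Q ⊓ K, κ * c * x * (κ * c)⁻¹ ∈ Q ⊓ K := fun x hx => by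
      have := hκP _ ⟨x, hx, rfl⟩
      simpa [mul_assoc] using this
    have hR₂P : F ⊔ (Q ⊓ K) ≤ (P : Subgroup G) :=
      sup_le hFP (inf_le_left.trans (hQ ▸ inf_le_left))
    have hlt : Nat.card R < Nat.card ↥(F ⊔ (Q ⊓ K)) := by
      rw [← hFcard]
      have hFS : F ≠ F ⊔ S := fun e => hSR <| by
        intro s hs
        have hsF : s ∈ F := e ▸ Subgroup.mem_sup_right hs
        have h1 : ∀ w ∈ S, h⁻¹ * w * h ∈ R := fun w hw => hFmem.1 (e ▸ Subgroup.mem_sup_right hw)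
        have hn : h⁻¹ ∈ Subgroup.normalizer (S : Set G) := mem_normalizer_of_conj_mem fun w hw =>
          hcl.2 w hw h⁻¹ (hRP (by simpa using h1 w hw))
        have := (Subgroup.mem_normalizer_iff.1 (inv_mem hn) s).1 hs
        have := h1 _ this
        simpa [mul_assoc] using this
      have h1 := card_lt_inf_normalizer (P.isPGroup'.to_le (sup_le hFP hST)) le_sup_left hFS
      obtain ⟨a, ha, haF⟩ : ∃ a ∈ (F ⊔ S) ⊓ Subgroup.normalizer (F : Set G), a ∉ F := by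
        by_contra hno
        push Not at hno
        exact absurd (Nat.le_of_dvd Nat.card_pos (Subgroup.card_dvd_of_le hno)) (not_le.2 h1)
      have hmul : a ∈ ((F : Set G) * (S : Set G)) := by
        rw [← Subgroup.coe_mul_of_left_le_normalizer_right F S (hFP.trans (le_normalizer_of_closed hcl))]
        exact ha.1
      obtain ⟨f, hf, s, hs, rfl⟩ := hmul
      have hsN : s ∈ Subgroup.normalizer (F : Set G) := by
        have := mul_mem (inv_mem (Subgroup.le_normalizer hf)) ha.2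
        rwa [inv_mul_cancel_left] at this
      have hsK : s ∈ K := ⟨hsN, fun x hx => by
        have := (Subgroup.mem_normalizer_iff.1 (le_normalizer_of_closed hcl (inv_mem (hFP hx))) s).1 hs
        have h2 := mul_mem this (inv_mem hs)
        rwa [inv_inv, mul_assoc (x⁻¹ * s) x, mul_assoc x⁻¹ s, ← mul_assoc s x] at h2⟩
      have hsnot : s ∉ F := fun hsF => haF (mul_mem hf hsF)
      refine lt_of_le_of_ne (Nat.le_of_dvd Nat.card_pos (Subgroup.card_dvd_of_le le_sup_left)) fun e => hsnot ?_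
      rw [Subgroup.eq_of_le_of_card_ge (le_sup_left : F ≤ F ⊔ (Q ⊓ K)) e.ge]
      exact Subgroup.mem_sup_right ⟨hQ ▸ ⟨hST hs, hsN⟩, hsK⟩
    have hn2 : ∀ x ∈ F ⊔ (Q ⊓ K), κ * c * x * (κ * c)⁻¹ ∈ (P : Subgroup G) := by
      intro x hx
      have hsub : F ⊔ (Q ⊓ K) ≤ (P : Subgroup G).comap (MulAut.conj (κ * c)).toMonoidHom :=
        sup_le (fun y hy => hFP ((Subgroup.mem_normalizer_iff.1 hn y).1 hy))
          fun y hy => hR₂P (Subgroup.mem_sup_right (hnP y hy))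
      exact hsub hx
    obtain ⟨k, hk, hkx⟩ := (hbig _ hR₂P hlt _ hn2).mono (le_sup_left : F ≤ F ⊔ (Q ⊓ K))
    refine ⟨k, hk, fun x hx => ⟨(hkx x hx).1, ?_⟩⟩
    have h2 := (inv_mem hκ : κ⁻¹ ∈ K).2 _ ((Subgroup.mem_normalizer_iff.1 hn x).1 hx)
    have h3 := mul_mem (hkx x hx).2 h2
    rwa [show (k * x * k⁻¹)⁻¹ * (κ * c * x * (κ * c)⁻¹) * ((κ * c * x * (κ * c)⁻¹)⁻¹ *
      (κ⁻¹ * (κ * c * x * (κ * c)⁻¹) * κ⁻¹⁻¹)) = (k * x * k⁻¹)⁻¹ * (c * x * c⁻¹) by group] at h3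
  have hF₂ : ∀ y ∈ F, (c₂ * (h * g⁻¹))⁻¹ * y * (c₂ * (h * g⁻¹)) ∈ R.map (MulAut.conj g).toMonoidHom := by
    intro y hy
    have h1 := hFmem.1 ((Subgroup.mem_normalizer_iff.1 (inv_mem hc₂) y).1 hy)
    exact ⟨_, h1, by simp [mul_assoc]⟩
  have H₃ := H₂.inv hST (by rintro _ ⟨x, hx, rfl⟩; exact hg x hx) hF₂
  have := (H₁.comp hST HF hF₁).comp hST H₃ fun x hx => by
    have h1 := (Subgroup.mem_normalizer_iff.1 hc _).1 (hF₁ x hx)
    simpa [mul_assoc] using h1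
  rwa [show (c₂ * (h * g⁻¹))⁻¹ * (c₂ * c₁⁻¹ * (c₁ * h)) = g by group] at this

/-- Fusion of a single element modulo a strongly closed subgroup. -/
theorem exists_cong_normalizer (P : Sylow 2 G) (hcl : Cfsg.IsStronglyClosed S (P : Subgroup G))
    {x g : G} (hx : x ∈ (P : Subgroup G)) (hg : g * x * g⁻¹ ∈ (P : Subgroup G)) :
    ∃ k ∈ Subgroup.normalizer (S : Set G), k * x * k⁻¹ ∈ (P : Subgroup G) ∧
      (k * x * k⁻¹)⁻¹ * (g * x * g⁻¹) ∈ S := by
  have hz : ∀ w ∈ Subgroup.zpowers x, g * w * g⁻¹ ∈ (P : Subgroup G) := by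
    rintro w ⟨i, rfl⟩
    rw [← conj_zpow]
    exact zpow_mem hg i
  obtain ⟨k, hk, h⟩ := congOn_of_conj P hcl _ (Subgroup.zpowers_le.2 hx) g hz
  exact ⟨k, hk, h x (Subgroup.mem_zpowers x)⟩

end Cfsg.Agent.Fus.ClosedPair
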