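import Mathlib
import Cfsg.Agent.Lib.Fus.ClosedPair.Base
import Cfsg.Agent.Lib.Char.GoldschmidtFunctor
import Cfsg.Agent.Lib.Grp.Components
import Cfsg.Agent.S0205
import Cfsg.Agent.S0217

/-!
# The signalizer functor of two commuting four-groups

For edges in the two classes commuting with each other the Goldschmidt functor is complete, and
the elements inverted by a vertex are read off the cores of centralizers.
-/

set_option autoImplicit false
set_option linter.unusedSectionVars false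
set_option linter.style.haveILetI false

namespace Cfsg.Agent.Fus.ClosedPair

open Subgroup
open scoped commutatorElement
open Cfsg.Agent.Invol (mul_self_of_orderOf_two inv_of_orderOf_two orderOf_two_iff)

universe u

variable {G : Type u} [Group G]

/-- The subgroup of a four-group. -/
abbrev four (p p' : G) : Subgroup G := Subgroup.closure ({p, p'} : Set G)

theorem left_mem_four (p p' : G) : p ∈ four p p' := Subgroup.subset_closure (Set.mem_insert _ _)

theorem right_mem_four (p p' : G) : p' ∈ four p p' :=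
  Subgroup.subset_closure (Set.mem_insert_of_mem _ rfl)

theorem Four.mem {p p' a : G} (h : Four p p' a) : a ∈ four p p' := by
  rcases h with rfl | rfl | rfl
  exacts [left_mem_four _ _, right_mem_four _ _, mul_mem (left_mem_four _ _) (right_mem_four _ _)]

variable {Z Y : Set G}

theorem mem_four (B : CommSets G Z Y) {p p' a : G} (e : Edge Z p p') (h : a ∈ four p p') :
    a = 1 ∨ Four p p' a := by
  have hp := mul_self_of_orderOf_two (B.inv₁ p e.left)
  have hp' := mul_self_of_orderOf_two (B.inv₁ p' e.right)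
  have hc : p' * p = p * p' := e.comm.symm.eq
  have hmul : ∀ {a : G}, (a = 1 ∨ Four p p' a) → (a * p = 1 ∨ Four p p' (a * p)) ∧
      (a * p' = 1 ∨ Four p p' (a * p')) := by
    rintro a (rfl | rfl | rfl | rfl)
    · exact ⟨Or.inr (Or.inl (one_mul _)), Or.inr (Or.inr (Or.inl (one_mul _)))⟩
    · exact ⟨Or.inl hp, Or.inr (Or.inr (Or.inr rfl))⟩
    · exact ⟨Or.inr (Or.inr (Or.inr hc)), Or.inl hp'⟩
    · refine ⟨Or.inr (Or.inr (Or.inl ?_)), Or.inr (Or.inl ?_)⟩
      · rw [mul_assoc, hc, ← mul_assoc, hp, one_mul]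
      · rw [mul_assoc, hp', mul_one]
  induction h using Subgroup.closure_induction_right with
  | one => exact Or.inl rfl
  | mul_right x _ s hs ih =>
    rcases hs with rfl | rfl
    exacts [(hmul ih).1, (hmul ih).2]
  | mul_inv_cancel x _ s hs ih =>
    rcases hs with rfl | rfl
    · rw [inv_of_orderOf_two (B.inv₁ _ e.left)]; exact (hmul ih).1
    · rw [inv_of_orderOf_two (B.inv₁ _ e.right)]; exact (hmul ih).2

/-- Two edges commuting with each other. -/
structure Quad (Z Y : Set G) (p p' y y' : G) : Prop where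
  ez : Edge Z p p'
  ey : Edge Y y y'
  c₁₁ : Commute p y
  c₁₂ : Commute p y'
  c₂₁ : Commute p' y
  c₂₂ : Commute p' y'

variable {p p' y y' : G}

theorem Quad.symm (q : Quad Z Y p p' y y') : Quad Y Z y y' p p' :=
  ⟨q.ey, q.ez, q.c₁₁.symm, q.c₂₁.symm, q.c₁₂.symm, q.c₂₂.symm⟩

theorem Quad.comm (q : Quad Z Y p p' y y') {a b : G} (ha : Four p p' a) (hb : Four y y' b) :
    Commute a b :=
  ha.commute ((hb.commute q.c₁₁.symm q.c₁₂.symm).symm) ((hb.commute q.c₂₁.symm q.c₂₂.symm).symm)

/-- The functor. -/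
def theta (p p' y y' a : G) : Subgroup G :=
  Char.Gold.phi (four p p') a ⊓ Char.Gold.phi (four y y') a

/-- The completion of the functor. -/
def sigW (p p' y y' : G) : Subgroup G :=
  ⨆ a : {a : G // a ∈ four p p' ⊔ four y y' ∧ a ≠ 1}, theta p p' y y' a

theorem sigW_symm (p p' y y' : G) : sigW y y' p p' = sigW p p' y y' := by
  have h : ∀ a : G, theta y y' p p' a = theta p p' y y' a := fun a => inf_comm _ _
  refine le_antisymm (iSup_le fun a => ?_) (iSup_le fun a => ?_)
  · rw [h]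
    exact le_iSup (fun b : {b : G // b ∈ four p p' ⊔ four y y' ∧ b ≠ 1} => theta p p' y y' b)
      ⟨a.1, by rw [sup_comm]; exact a.2.1, a.2.2⟩
  · rw [← h]
    exact le_iSup (fun b : {b : G // b ∈ four y y' ⊔ four p p' ∧ b ≠ 1} => theta y y' p p' b)
      ⟨a.1, by rw [sup_comm]; exact a.2.1, a.2.2⟩

/-- The elements inverted by `t` in the cores attached to `v`. -/
def Qd (v t : G) : Subgroup G :=
  Subgroup.closure {x | t * x * t⁻¹ = x⁻¹ ∧
    (x ∈ centralizerPPrimeCore 2 v ∨ x ∈ centralizerPPrimeCore 2 (v * t))}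

theorem core_conj [Finite G] {v x : G} (g : G) (hx : x ∈ centralizerPPrimeCore 2 v) :
    g * x * g⁻¹ ∈ centralizerPPrimeCore 2 (g * v * g⁻¹) := by
  obtain ⟨w, hw, rfl⟩ := hx
  have hmap : (centralizer ({v} : Set G)).map (MulAut.conj g).toMonoidHom
      = centralizer ({g * v * g⁻¹} : Set G) := by
    ext z
    simp only [Subgroup.mem_map, MulEquiv.coe_toMonoidHom, MulAut.conj_apply,
      Subgroup.mem_centralizer_singleton_iff]
    constructor
    · rintro ⟨u, hu, rfl⟩
      calc g * u * g⁻¹ * (g * v * g⁻¹) = g * (u * v) * g⁻¹ := by group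
        _ = _ := by rw [hu]; group
    · intro hz
      refine ⟨g⁻¹ * z * g, ?_, by group⟩
      calc g⁻¹ * z * g * v = g⁻¹ * (z * (g * v * g⁻¹)) * g := by group
        _ = _ := by rw [hz]; group
  let e : ↥(centralizer ({v} : Set G)) ≃* ↥(centralizer ({g * v * g⁻¹} : Set G)) :=
    ((centralizer ({v} : Set G)).equivMapOfInjective (MulAut.conj g).toMonoidHom
      (MulAut.conj g).injective).trans (MulEquiv.subgroupCongr hmap)
  refine ⟨e w, ?_, rfl⟩
  have hn : ((Cfsg.pPrimeCore 2 ↥(centralizer ({v} : Set G))).map e.toMonoidHom).Normal :=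
    (Grp.pPrimeCore_isNormal).map _ e.surjective
  refine Grp.le_pPrimeCore hn ?_ (Subgroup.mem_map_of_mem _ hw)
  rw [Subgroup.card_map_of_injective e.injective]
  exact Grp.pPrimeCore_coprime

theorem qd_conj_mem [Finite G] (g : G) {v t x : G} (hx : x ∈ Qd v t) :
    g * x * g⁻¹ ∈ Qd (g * v * g⁻¹) (g * t * g⁻¹) := by
  induction hx using Subgroup.closure_induction with
  | mem x hx =>
    refine Subgroup.subset_closure ⟨?_, hx.2.imp (core_conj g) fun h => ?_⟩
    · calc g * t * g⁻¹ * (g * x * g⁻¹) * (g * t * g⁻¹)⁻¹ = g * (t * x * t⁻¹) * g⁻¹ := by group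
        _ = _ := by rw [hx.1]; group
    · have h' := core_conj g h
      rwa [show g * (v * t) * g⁻¹ = g * v * g⁻¹ * (g * t * g⁻¹) by group] at h'
  | one => simp
  | mul a b _ _ ha hb => rw [show g * (a * b) * g⁻¹ = g * a * g⁻¹ * (g * b * g⁻¹) by group]; exact mul_mem ha hb
  | inv a _ ha => rw [← conj_inv]; exact inv_mem ha

theorem Four.symm_left {p p' a : G} (hc : Commute p p') (h : Four p p' a) : Four p' p a := by
  rcases h with rfl | rfl | rfl
  exacts [Or.inr (Or.inl rfl), Or.inl rfl, Or.inr (Or.inr hc.eq)]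

variable [Finite G]

theorem card_four (B : CommSets G Z Y) (e : Edge Z p p') : Nat.card (four p p') = 4 := by
  obtain ⟨f⟩ := Invol.nonempty_mulEquiv_dihedralGroup (B.inv₁ p e.left) (B.inv₁ p' e.right)
  rw [Nat.card_congr f.toEquiv, DihedralGroup.nat_card,
    show orderOf (p * p') = 2 from orderOf_two_iff.2
      ⟨Four.mul_self B e (Or.inr (Or.inr rfl)), Four.ne_one B e (Or.inr (Or.inr rfl))⟩]

theorem Quad.commute_all (q : Quad Z Y p p' y y') : ∀ a ∈ four p p' ⊔ four y y',
    ∀ c ∈ four p p' ⊔ four y y', a * c = c * a := by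
  have hle : four p p' ⊔ four y y' ≤ centralizer (({p, p', y, y'} : Set G)) := by
    refine sup_le ((Subgroup.closure_le _).2 ?_) ((Subgroup.closure_le _).2 ?_) <;>
      rintro s hs <;> refine Subgroup.mem_centralizer_iff.2 fun r hr => ?_ <;>
      simp only [Set.mem_insert_iff, Set.mem_singleton_iff] at hs hr <;>
      rcases hr with rfl | rfl | rfl | rfl <;> rcases hs with rfl | rfl
    exacts [rfl, q.ez.comm.eq, q.ez.comm.symm.eq, rfl, q.c₁₁.symm.eq, q.c₂₁.symm.eq, q.c₁₂.symm.eq,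
      q.c₂₂.symm.eq, q.c₁₁.eq, q.c₁₂.eq, q.c₂₁.eq, q.c₂₂.eq, rfl, q.ey.comm.eq, q.ey.comm.symm.eq, rfl]
  intro a ha c hc
  have h1 : centralizer (({p, p', y, y'} : Set G)) ≤ centralizer ({p, p', y, y'} : Set G) := le_rfl
  have hcl : four p p' ⊔ four y y' ≤ Subgroup.closure ({p, p', y, y'} : Set G) :=
    sup_le (Subgroup.closure_mono (by intro r hr; simp only [Set.mem_insert_iff, Set.mem_singleton_iff] at hr ⊢; tauto))
      (Subgroup.closure_mono (by intro r hr; simp only [Set.mem_insert_iff, Set.mem_singleton_iff] at hr ⊢; tauto))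
  have h2 : a ∈ centralizer ((Subgroup.closure ({p, p', y, y'} : Set G) : Subgroup G) : Set G) := by
    rw [Subgroup.centralizer_closure]; exact hle ha
  exact (Subgroup.mem_centralizer_iff.1 h2 c (hcl hc)).symm

theorem Quad.decomp (q : Quad Z Y p p' y y') {a : G} (ha : a ∈ four p p' ⊔ four y y') :
    ∃ s ∈ four p p', ∃ s' ∈ four y y', a = s * s' := by
  have : a ∈ ((four p p' ⊔ four y y' : Subgroup G) : Set G) := ha
  rw [Subgroup.coe_mul_of_left_le_normalizer_right (four p p') (four y y') (Char.Gold.comm_le_normalizer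
    fun r hr c hc => q.commute_all r (Subgroup.mem_sup_left hr) c (Subgroup.mem_sup_right hc))] at this
  obtain ⟨s, hs, s', hs', e⟩ := this
  exact ⟨s, hs, s', hs', e.symm⟩

theorem Quad.sq (B : CommSets G Z Y) (q : Quad Z Y p p' y y') :
    ∀ a ∈ four p p' ⊔ four y y', a * a = 1 := by
  intro a ha
  obtain ⟨s, hs, s', hs', rfl⟩ := q.decomp ha
  have h1 : s * s = 1 := by
    rcases mem_four B q.ez hs with rfl | h
    exacts [one_mul 1, h.mul_self B q.ez]
  have h2 : s' * s' = 1 := by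
    rcases mem_four B.symm q.ey hs' with rfl | h
    exacts [one_mul 1, h.mul_self B.symm q.ey]
  have hc := q.commute_all s' (Subgroup.mem_sup_right hs') s (Subgroup.mem_sup_left hs)
  rw [mul_assoc, ← mul_assoc s' s s', hc, mul_assoc s s' s', h2, mul_one, h1]

theorem Quad.card_le (B : CommSets G Z Y) (q : Quad Z Y p p' y y') :
    2 ^ 3 ≤ Nat.card ↥(four p p' ⊔ four y y') := by
  have h4 := card_four B q.ez
  obtain ⟨k, hk⟩ := Subgroup.card_dvd_of_le (le_sup_left : four p p' ≤ four p p' ⊔ four y y')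
  rw [h4] at hk
  by_contra hlt
  have hk1 : k = 1 := by
    have hpos := Nat.card_pos (α := ↥(four p p' ⊔ four y y'))
    omega
  have heq : four p p' = four p p' ⊔ four y y' :=
    Subgroup.eq_of_le_of_card_ge le_sup_left (by rw [h4, hk, hk1])
  have key : ∀ w ∈ four y y', w ∈ Y → w = p * p' := by
    intro w hw hwY
    rcases mem_four B q.ez (heq.ge (Subgroup.mem_sup_right hw)) with rfl | rfl | rfl | rfl
    · exact absurd rfl (orderOf_two_iff.1 (B.inv₂ _ hwY)).2
    · exact absurd hwY (B.disj _ q.ez.left)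
    · exact absurd hwY (B.disj _ q.ez.right)
    · rfl
  exact q.ey.ne ((key _ (left_mem_four _ _) q.ey.left).trans (key _ (right_mem_four _ _) q.ey.right).symm)

theorem Quad.pair (B : Base G Z Y) (q : Quad Z Y p p' y y') :
    Char.Gold.Pair (four p p' ⊔ four y y') (four p p') (four y y') := by
  refine ⟨le_sup_left, le_sup_right, rfl, q.commute_all, q.sq B.toCommSets,
    card_four B.toCommSets q.ez, fun b hb hb1 L hL => ?_⟩
  let S : Set G → Set (Char.Gold.CQ b) := fun X =>
    {l | ∃ x ∈ X, ∃ hx : x ∈ centralizer ({b} : Set G), l = ((⟨x, hx⟩ : ↥(centralizer ({b} : Set G))) : Char.Gold.CQ b)}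
  haveI : (Cfsg.pPrimeCore 2 ↥(centralizer ({b} : Set G))).Normal := Grp.pPrimeCore_isNormal
  have hn : ∀ X : Set G, (∀ g : G, ∀ x ∈ X, g * x * g⁻¹ ∈ X) → (Subgroup.closure (S X)).Normal := by
    intro X hX
    refine ⟨fun l hl g => ?_⟩
    induction hl using Subgroup.closure_induction with
    | mem l hl =>
      obtain ⟨x, hxX, hx, rfl⟩ := hl
      obtain ⟨c, rfl⟩ := QuotientGroup.mk_surjective g
      exact Subgroup.subset_closure ⟨(c : G) * x * (c : G)⁻¹, hX c x hxX,
        mul_mem (mul_mem c.2 hx) (inv_mem c.2), rfl⟩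
    | one => simp
    | mul a b _ _ ha hb =>
      rw [show g * (a * b) * g⁻¹ = g * a * g⁻¹ * (g * b * g⁻¹) by group]; exact mul_mem ha hb
    | inv a _ ha => rw [← conj_inv]; exact inv_mem ha
  have hcomm : ∀ l ∈ S Z, ∀ m ∈ S Y, l * m = m * l := by
    rintro _ ⟨x, hxZ, hx, rfl⟩ _ ⟨w, hwY, hw, rfl⟩
    obtain ⟨u, hu, huv⟩ := B.ind _ (centralizer_ne_top B hb1) x hxZ w hwY hx hw
    obtain ⟨x', hx'⟩ : ∃ x' : ↥(centralizer ({b} : Set G)), x' = ⟨x, hx⟩ := ⟨_, rfl⟩
    obtain ⟨w', hw'⟩ : ∃ w' : ↥(centralizer ({b} : Set G)), w' = ⟨w, hw⟩ := ⟨_, rfl⟩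
    rw [← hx', ← hw']
    have hinv : (x' * w')⁻¹ = w' * x' := by
      rw [hx', hw', _root_.mul_inv_rev]
      exact Subtype.ext (by simp [inv_of_orderOf_two (B.inv₁ x hxZ), inv_of_orderOf_two (B.inv₂ w hwY)])
    rw [← QuotientGroup.mk_mul, ← QuotientGroup.mk_mul]
    refine (QuotientGroup.eq.2 ?_).symm
    rw [← hinv, inv_inv]
    have hu' : u = x' * w' * x' * w' := Subtype.ext (by rw [hx', hw']; exact huv)
    rw [show x' * w' * (x' * w') = x' * w' * x' * w' by group, ← hu']
    exact hu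
  have hin : ∀ {X : Set G} {s : G}, s ∈ X → ∀ hs : s ∈ centralizer ({b} : Set G),
      ((⟨s, hs⟩ : ↥(centralizer ({b} : Set G))) : Char.Gold.CQ b) ∈ Subgroup.closure (S X) :=
    fun hs hs' => Subgroup.subset_closure ⟨_, hs, hs', rfl⟩
  have hbc : ∀ s ∈ four p p' ⊔ four y y', s ∈ centralizer ({b} : Set G) := fun s hs =>
    Subgroup.mem_centralizer_singleton_iff.2 (q.commute_all s hs b hb)
  rcases Grp.component_le_or_commute hL (hn Z B.conj₁).isSubnormal with h | h
  · right
    refine (Subgroup.closure_le _).2 fun s hs => ?_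
    have hsY : s ∈ Y := by rcases hs with rfl | rfl; exacts [q.ey.left, q.ey.right]
    have hsC := hbc s (Subgroup.mem_sup_right (Subgroup.subset_closure hs))
    refine (Char.Gold.mem_Cz hsC).2 fun l hl => ?_
    have h1 : l ∈ centralizer ((Subgroup.closure (S Y) : Subgroup (Char.Gold.CQ b)) : Set (Char.Gold.CQ b)) := by
      refine (h.trans ((Subgroup.closure_le _).2 ?_)) hl
      intro m hm
      rw [SetLike.mem_coe, Subgroup.centralizer_closure, Subgroup.mem_centralizer_iff]
      exact fun r hr => (hcomm m hm r hr).symm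
    exact Subgroup.mem_centralizer_iff.1 h1 _ (hin hsY hsC)
  · left
    refine (Subgroup.closure_le _).2 fun s hs => ?_
    have hsZ : s ∈ Z := by rcases hs with rfl | rfl; exacts [q.ez.left, q.ez.right]
    have hsC := hbc s (Subgroup.mem_sup_left (Subgroup.subset_closure hs))
    refine (Char.Gold.mem_Cz hsC).2 fun l hl => ?_
    exact Subgroup.mem_centralizer_iff.1 (Subgroup.commutator_eq_bot_iff_le_centralizer.1 h hl) _
      (hin hsZ hsC)

theorem Quad.pair' (B : Base G Z Y) (q : Quad Z Y p p' y y') :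
    Char.Gold.Pair (four p p' ⊔ four y y') (four y y') (four p p') :=
  (q.pair B).symm (card_four B.toCommSets.symm q.ey)

theorem Quad.sft (B : Base G Z Y) (q : Quad Z Y p p' y y') :
    Odd (Nat.card ↥(sigW p p' y y')) ∧ ∀ a ∈ four p p' ⊔ four y y', a ≠ 1 →
      sigW p p' y y' ⊓ centralizer {a} = theta p p' y y' a := by
  haveI : Fact (Nat.Prime 2) := ⟨Nat.prime_two⟩
  have hle : ∀ a ∈ four p p' ⊔ four y y', theta p p' y y' a ≤ centralizerPPrimeCore 2 a := fun a ha =>
    inf_le_left.trans (Char.Gold.phi_le (q.pair B) ha)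
  have hodd : ∀ a ∈ four p p' ⊔ four y y', Odd (Nat.card ↥(theta p p' y y' a)) := fun a ha =>
    (odd_core a).of_dvd_nat (Subgroup.card_dvd_of_le (hle a ha))
  obtain ⟨h1, h2⟩ := Cfsg.Agent.S0217.result (p := 2) (four p p' ⊔ four y y') q.commute_all
    (fun a ha => by rw [pow_two]; exact q.sq B.toCommSets a ha) (q.card_le B.toCommSets)
    (theta p p' y y')
    (fun a ha _ => (hle a ha).trans (Subgroup.map_subtype_le _))
    (fun a ha _ => (hodd a ha).not_two_dvd_nat)
    (fun a ha _ c hc x hx => ⟨Grp.mem_conj_normalizer (Char.Gold.le_normalizer_phi (q.pair B) ha hc) hx.1,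
      Grp.mem_conj_normalizer (Char.Gold.le_normalizer_phi (q.pair' B) ha hc) hx.2⟩)
    (fun a ha _ => Cfsg.Agent.S0205.result (hodd a ha))
    (fun a ha _ c hc hc1 => Char.Gold.inf_centralizer_le (q.pair B) (q.pair' B) ha hc hc1)
  exact ⟨Nat.odd_iff.2 (Nat.two_dvd_ne_zero.1 h1), h2⟩

theorem Quad.odd_W (B : Base G Z Y) (q : Quad Z Y p p' y y') :
    Odd (Nat.card ↥(sigW p p' y y')) := (q.sft B).1

theorem Quad.core_of_mem (B : Base G Z Y) (q : Quad Z Y p p' y y') {a w : G}
    (ha : a ∈ four p p' ⊔ four y y') (ha1 : a ≠ 1) (hw : w ∈ sigW p p' y y') (hwa : Commute w a) :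
    w ∈ centralizerPPrimeCore 2 a := by
  have h : w ∈ theta p p' y y' a := by
    rw [← (q.sft B).2 a ha ha1]
    exact ⟨hw, Subgroup.mem_centralizer_singleton_iff.2 hwa.eq⟩
  exact Char.Gold.phi_le (q.pair B) ha h.1

theorem Quad.conj_W (B : Base G Z Y) (q : Quad Z Y p p' y y') {c w : G}
    (hc : c ∈ four p p' ⊔ four y y') (hw : w ∈ sigW p p' y y') :
    c * w * c⁻¹ ∈ sigW p p' y y' := by
  have h : sigW p p' y y' ≤ (sigW p p' y y').comap (MulAut.conj c).toMonoidHom := by
    refine iSup_le fun a x hx => ?_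
    exact le_iSup (fun b : {b : G // b ∈ four p p' ⊔ four y y' ∧ b ≠ 1} => theta p p' y y' b) a
      ⟨Grp.mem_conj_normalizer (Char.Gold.le_normalizer_phi (q.pair B) a.2.1 hc) hx.1,
        Grp.mem_conj_normalizer (Char.Gold.le_normalizer_phi (q.pair' B) a.2.1 hc) hx.2⟩
  exact h hw

theorem mem_theta_of_inverted {p p' a t x : G} (ht : t ∈ four p p')
    (hodd : Odd (orderOf x)) (hx : x ∈ centralizerPPrimeCore 2 a) (htx : t * x * t⁻¹ = x⁻¹) :
    x ∈ Char.Gold.phi (four p p') a := by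
  refine Subgroup.mem_sup_left (Invol.mem_of_sq_mem hodd ?_)
  have h : ⁅x, t⁆ = x * x := by
    rw [commutatorElement_def, show x * t * x⁻¹ * t⁻¹ = x * (t * x * t⁻¹)⁻¹ by group, htx, inv_inv]
  exact h ▸ Subgroup.commutator_mem_commutator hx ht

/-- An element of the core of the centralizer of a vertex inverted by one of the other side. -/
theorem Quad.mem_W_vertex (B : Base G Z Y) (q : Quad Z Y p p' y y') {a t x : G} (ha : Four p p' a)
    (ht : Four y y' t) (hx : x ∈ centralizerPPrimeCore 2 a) (htx : t * x * t⁻¹ = x⁻¹) :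
    x ∈ sigW p p' y y' := by
  have haA : a ∈ four p p' ⊔ four y y' := Subgroup.mem_sup_left ha.mem
  have ha1 : a ≠ 1 := ha.ne_one B.toCommSets q.ez
  refine le_iSup (fun b : {b : G // b ∈ four p p' ⊔ four y y' ∧ b ≠ 1} => theta p p' y y' b)
    ⟨a, haA, ha1⟩ ⟨?_, mem_theta_of_inverted ht.mem (odd_orderOf_of_mem (odd_core a) hx) hx htx⟩
  have hle : centralizerPPrimeCore 2 a ≤ Char.Gold.phi (four p p') a := by
    have hP : four p p' ≤ Subgroup.normalizer (centralizerPPrimeCore 2 a : Set G) :=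
      le_sup_left.trans (Char.Gold.A_le_normalizer_core (q.pair B) haA)
    have hsolv : Group.IsSolvable (four p p') := Group.isSolvable_of_comm fun r c => Subtype.ext
      (q.commute_all r (Subgroup.mem_sup_left r.2) c (Subgroup.mem_sup_left c.2))
    refine (Grp.commutator_sup_fixed (four p p') (centralizerPPrimeCore 2 a) hP
      (Char.Gold.coprime_four (q.pair B) (a := a) le_rfl) (Or.inl hsolv)).ge.trans (sup_le_sup le_rfl ?_)
    refine le_inf inf_le_left ?_
    refine Char.Gold.le_coreC inf_le_right (fun g hg => ?_)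
      ((Char.Gold.core_coprime a).coprime_dvd_left (Subgroup.card_dvd_of_le inf_le_left))
    have hga : Commute g a := (Subgroup.mem_centralizer_iff.1 hg a ha.mem).symm
    refine Subgroup.mem_normalizer_iff.2 fun w => ⟨fun hw => ⟨core_mem_conj hga hw.1,
      Subgroup.mul_mem _ (Subgroup.mul_mem _ hg hw.2) (Subgroup.inv_mem _ hg)⟩, fun hw => ?_⟩
    have h := core_mem_conj (Commute.inv_left hga) hw.1
    have h' := Subgroup.mul_mem _ (Subgroup.mul_mem _ (Subgroup.inv_mem _ hg) hw.2) hg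
    rw [show g⁻¹ * (g * w * g⁻¹) * g⁻¹⁻¹ = w by group] at h
    rw [show g⁻¹ * (g * w * g⁻¹) * g = w by group] at h'
    exact ⟨h, h'⟩
  exact hle hx

/-- An element of the core of the centralizer of a product of vertices inverted by both. -/
theorem Quad.mem_W_mul (B : Base G Z Y) (q : Quad Z Y p p' y y') {v t x : G} (hv : Four p p' v)
    (ht : Four y y' t) (hne : v ≠ t) (hx : x ∈ centralizerPPrimeCore 2 (v * t))
    (htx : t * x * t⁻¹ = x⁻¹) : x ∈ sigW p p' y y' := by
  have haA : v * t ∈ four p p' ⊔ four y y' :=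
    mul_mem (Subgroup.mem_sup_left hv.mem) (Subgroup.mem_sup_right ht.mem)
  have htt := ht.mul_self B.toCommSets.symm q.ey
  have ha1 : v * t ≠ 1 := fun h => hne (mul_right_cancel (h.trans htt.symm))
  have hvx : v * x * v⁻¹ = x⁻¹ := by
    have e : (v * t) * x * (v * t)⁻¹ = x := by
      rw [← (commute_of_mem_core hx).eq, mul_inv_cancel_right]
    calc v * x * v⁻¹ = v * (t * x⁻¹ * t⁻¹) * v⁻¹ := by rw [← conj_inv, htx, inv_inv]
      _ = ((v * t) * x * (v * t)⁻¹)⁻¹ := by group
      _ = x⁻¹ := by rw [e]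
  exact le_iSup (fun b : {b : G // b ∈ four p p' ⊔ four y y' ∧ b ≠ 1} => theta p p' y y' b)
    ⟨v * t, haA, ha1⟩ ⟨mem_theta_of_inverted hv.mem (odd_orderOf_of_mem (odd_core _) hx) hx hvx,
      mem_theta_of_inverted ht.mem (odd_orderOf_of_mem (odd_core _) hx) hx htx⟩

/-- The inverted elements of the completion. -/
theorem Quad.qd_eq (B : Base G Z Y) (q : Quad Z Y p p' y y') {v t : G} (hv : Four p p' v)
    (ht : Four y y' t) (hne : v ≠ t) :
    Qd v t = Subgroup.closure {x | x ∈ sigW p p' y y' ∧ t * x * t⁻¹ = x⁻¹} := by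
  refine le_antisymm (Subgroup.closure_mono ?_) ((Subgroup.closure_le _).2 ?_)
  · rintro x ⟨hx, h | h⟩
    exacts [⟨q.mem_W_vertex B hv ht h hx, hx⟩, ⟨q.mem_W_mul B hv ht hne h hx, hx⟩]
  rintro a ⟨ha, hta⟩
  have hvA : v ∈ four p p' ⊔ four y y' := Subgroup.mem_sup_left hv.mem
  have htA : t ∈ four p p' ⊔ four y y' := Subgroup.mem_sup_right ht.mem
  have hvv := hv.mul_self B.toCommSets q.ez
  obtain ⟨c, b, hc, hvc, htc, hb, hvb, htb, rfl⟩ := split_inverted (q.odd_W B) hvv (q.comm hv ht)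
    (fun x hx => q.conj_W B hvA hx) (fun x hx => q.conj_W B htA hx) ha hta
  have hc' : c ∈ Qd v t := Subgroup.subset_closure ⟨htc, Or.inl
    (q.core_of_mem B hvA (hv.ne_one B.toCommSets q.ez) hc (mul_inv_eq_iff_eq_mul.1 hvc).symm)⟩
  have hvt1 : v * t ≠ 1 := fun h => hne (mul_right_cancel (h.trans (ht.mul_self B.toCommSets.symm q.ey).symm))
  exact mul_mem (mul_mem hc' (Subgroup.subset_closure ⟨htb, Or.inr
    (q.core_of_mem B (mul_mem hvA htA) hvt1 hb (mul_inv_eq_iff_eq_mul.1 hvb).symm)⟩)) hc'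

theorem Quad.qd_le (B : Base G Z Y) (q : Quad Z Y p p' y y') {v t : G} (hv : Four p p' v)
    (ht : Four y y' t) (hne : v ≠ t) : Qd v t ≤ sigW p p' y y' := by
  rw [q.qd_eq B hv ht hne]
  exact (Subgroup.closure_le _).2 fun x hx => hx.1

/-- Elements of the completion commuting with `t` keep the inverted elements. -/
theorem Quad.qd_conj (B : Base G Z Y) (q : Quad Z Y p p' y y') {v t c : G} (hv : Four p p' v)
    (ht : Four y y' t) (hne : v ≠ t) (hc : c ∈ sigW p p' y y') (hct : Commute c t) :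
    Qd (c * v * c⁻¹) t = Qd v t := by
  have key : ∀ d ∈ sigW p p' y y', Commute d t → ∀ x ∈ Qd v t, d * x * d⁻¹ ∈ Qd v t := by
    intro d hd hdt x hx
    rw [q.qd_eq B hv ht hne] at hx ⊢
    induction hx using Subgroup.closure_induction with
    | mem x hx =>
      refine Subgroup.subset_closure ⟨mul_mem (mul_mem hd hx.1) (inv_mem hd), ?_⟩
      calc t * (d * x * d⁻¹) * t⁻¹ = t * d * x * (t * d)⁻¹ := by group
        _ = d * (t * x * t⁻¹) * d⁻¹ := by rw [← hdt.eq]; group
        _ = _ := by rw [hx.2]; group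
    | one => simp
    | mul a b _ _ ha hb =>
      rw [show d * (a * b) * d⁻¹ = d * a * d⁻¹ * (d * b * d⁻¹) by group]; exact mul_mem ha hb
    | inv a _ ha => rw [← conj_inv]; exact inv_mem ha
  have htc : c * t * c⁻¹ = t := by rw [hct.eq, mul_inv_cancel_right]
  refine le_antisymm (fun x hx => ?_) fun x hx => ?_
  · have h := qd_conj_mem c⁻¹ hx
    rw [show c⁻¹ * (c * v * c⁻¹) * c⁻¹⁻¹ = v by group,
      show c⁻¹ * t * c⁻¹⁻¹ = t by rw [hct.inv_left.eq, mul_inv_cancel_right]] at h
    have h' := key c hc hct _ h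
    rwa [show c * (c⁻¹ * x * c⁻¹⁻¹) * c⁻¹ = x by group] at h'
  · have h := qd_conj_mem c (key c⁻¹ (inv_mem hc) hct.inv_left x hx)
    rwa [show c * (c⁻¹ * x * c⁻¹⁻¹) * c⁻¹ = x by group, htc] at h

end Cfsg.Agent.Fus.ClosedPair
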