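import Mathlib
import Cfsg.Agent.Lib.Fus.ClosedPair.Quad

/-!
# Moves inside odd cores

Conjugating involutions congruent modulo an odd core into each other, moving edges into the
centralizer of an edge of the other class, and global connectivity.
-/

set_option autoImplicit false
set_option linter.unusedSectionVars false
set_option linter.style.haveILetI false

namespace Cfsg.Agent.Fus.ClosedPair

open Subgroup
open Cfsg.Agent.Invol (mul_self_of_orderOf_two inv_of_orderOf_two orderOf_two_iff)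

universe u

variable {G : Type u} [Group G] {Z Y : Set G}

/-- Two involutions with product of odd order are conjugate by a power of the product. -/
theorem exists_conj_eq {a b : G} (ha : orderOf a = 2) (hb : orderOf b = 2)
    (hodd : Odd (orderOf (a * b))) :
    ∃ e : G, e ∈ zpowers (a * b) ∧ a * e * a⁻¹ = e⁻¹ ∧ b * e * b⁻¹ = e⁻¹ ∧ e * a * e⁻¹ = b := by
  obtain ⟨k, hk⟩ := hodd
  have haa := mul_self_of_orderOf_two ha
  have hbb := mul_self_of_orderOf_two hb
  have hpow : (a * b) ^ (2 * k + 1) = 1 := hk ▸ pow_orderOf_eq_one _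
  have e1 : a * (a * b) * a⁻¹ = (a * b)⁻¹ := by
    rw [_root_.mul_inv_rev, inv_of_orderOf_two ha, inv_of_orderOf_two hb, ← mul_assoc, haa, one_mul]
  have e2 : b * (a * b) * b⁻¹ = (a * b)⁻¹ := by
    rw [_root_.mul_inv_rev, inv_of_orderOf_two ha, inv_of_orderOf_two hb, mul_assoc, mul_assoc, hbb,
      mul_one]
  obtain ⟨e, he⟩ : ∃ e, e = (a * b) ^ k := ⟨_, rfl⟩
  have hae : a * e * a⁻¹ = e⁻¹ := by rw [he, ← conj_pow, e1, inv_pow]
  refine ⟨e, he ▸ Subgroup.npow_mem_zpowers _ _, hae, by rw [he, ← conj_pow, e2, inv_pow], ?_⟩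
  have h1 : a * e⁻¹ = e * a := by
    rw [← hae, inv_of_orderOf_two ha, ← mul_assoc, ← mul_assoc, haa, one_mul]
  calc e * a * e⁻¹ = e * (a * e⁻¹) := mul_assoc _ _ _
    _ = (a * b) ^ (2 * k) * a := by rw [h1, two_mul, pow_add, he, mul_assoc]
    _ = (a * b)⁻¹ * a := by
      rw [show (a * b) ^ (2 * k) = (a * b)⁻¹ from eq_inv_of_mul_eq_one_left (by rw [← pow_succ, hpow])]
    _ = b := by rw [_root_.mul_inv_rev, inv_mul_cancel_right, inv_of_orderOf_two hb]

/-- An involution is moved to one commuting with `a` inside the powers of the squared product. -/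
theorem exists_conj_commute {a b : G} (ha : orderOf a = 2) (hb : orderOf b = 2)
    (hodd : Odd (orderOf (a * b * a * b))) :
    ∃ e : G, e ∈ zpowers (a * b * a * b) ∧ Commute a (e * b * e⁻¹) := by
  obtain ⟨k, hk⟩ := hodd
  have haa := mul_self_of_orderOf_two ha
  have hbb := mul_self_of_orderOf_two hb
  obtain ⟨w, hw⟩ : ∃ w, w = a * b := ⟨_, rfl⟩
  have hm : a * b * a * b = w ^ (2 : ℤ) := by
    rw [hw, show (2 : ℤ) = ((2 : ℕ) : ℤ) from rfl, zpow_natCast, sq]; group
  have e1 : a * w * a⁻¹ = w⁻¹ := by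
    rw [hw, _root_.mul_inv_rev, inv_of_orderOf_two ha, inv_of_orderOf_two hb, ← mul_assoc, haa, one_mul]
  have e2 : b * w * b⁻¹ = w⁻¹ := by
    rw [hw, _root_.mul_inv_rev, inv_of_orderOf_two ha, inv_of_orderOf_two hb, mul_assoc, mul_assoc, hbb,
      mul_one]
  have hz : (w ^ (2 : ℤ)) ^ ((2 * k + 1 : ℕ) : ℤ) = 1 := by
    rw [zpow_natCast, ← hm, ← hk, pow_orderOf_eq_one]
  obtain ⟨j, hj⟩ : ∃ j : ℤ, j = ((k : ℤ) + 1) ^ 2 := ⟨_, rfl⟩
  refine ⟨(w ^ (2 : ℤ)) ^ j, hm ▸ Subgroup.zpow_mem_zpowers _ _, ?_⟩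
  have hbe : b * ((w ^ (2 : ℤ)) ^ j)⁻¹ = (w ^ (2 : ℤ)) ^ j * b := by
    have h : b * (w ^ (2 : ℤ)) ^ j * b⁻¹ = ((w ^ (2 : ℤ)) ^ j)⁻¹ := by
      rw [← conj_zpow, ← conj_zpow, e2]; simp only [inv_zpow']; simp [zpow_neg]
    rw [← h, inv_of_orderOf_two hb, ← mul_assoc, ← mul_assoc, hbb, one_mul]
  have hkey : (w ^ (2 : ℤ)) ^ j * b * ((w ^ (2 : ℤ)) ^ j)⁻¹ = w ^ (4 * j) * b := by
    rw [mul_assoc, hbe, ← mul_assoc, ← zpow_add, ← zpow_mul]
    congr 2; ring
  rw [hkey]
  -- the product is fixed by inversion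
  have hprod : a * (w ^ (4 * j) * b) = w ^ (1 - 4 * j) := by
    have h : a * w ^ (4 * j) * a⁻¹ = w ^ (-(4 * j)) := by rw [← conj_zpow, e1, inv_zpow, zpow_neg]
    calc a * (w ^ (4 * j) * b) = a * w ^ (4 * j) * a⁻¹ * (a * b) := by group
      _ = _ := by rw [h, ← hw, ← zpow_add_one]; congr 1; ring
  have hsq : a * (w ^ (4 * j) * b) * (a * (w ^ (4 * j) * b)) = 1 := by
    rw [hprod, ← zpow_add,
      show 1 - 4 * j + (1 - 4 * j) = 2 * (((2 * k + 1 : ℕ) : ℤ) * -(2 * (k : ℤ) + 3)) by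
        rw [hj]; push_cast; ring,
      zpow_mul, zpow_mul, hz, one_zpow]
  have hvv : w ^ (4 * j) * b * (w ^ (4 * j) * b) = 1 := by
    have h : b * w ^ (4 * j) * b⁻¹ = w ^ (-(4 * j)) := by rw [← conj_zpow, e2, inv_zpow, zpow_neg]
    calc w ^ (4 * j) * b * (w ^ (4 * j) * b) = w ^ (4 * j) * (b * w ^ (4 * j) * b⁻¹) * (b * b) := by group
      _ = 1 := by rw [h, hbb, mul_one, ← zpow_add, add_neg_cancel, zpow_zero]
  show a * (w ^ (4 * j) * b) = w ^ (4 * j) * b * a
  rw [eq_inv_of_mul_eq_one_left hsq, _root_.mul_inv_rev, inv_of_orderOf_two ha, inv_eq_of_mul_eq_one_right hvv]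

variable [Finite G]

theorem eq_bot_of_odd_normalized (hcore : Cfsg.pPrimeCore 2 G = ⊥) {K D : Subgroup G} [K.Normal]
    (hDK : D ≤ K) (hodd : Odd (Nat.card D)) (hn : ∀ k ∈ K, ∀ d ∈ D, k * d * k⁻¹ ∈ D) : D = ⊥ := by
  have hn' : (D.subgroupOf K).Normal := ⟨fun d hd k => hn _ k.2 _ hd⟩
  have h1 : D.subgroupOf K ≤ Cfsg.pPrimeCore 2 ↥K := Grp.le_pPrimeCore hn'
    (Nat.coprime_two_right.2 (by rwa [Nat.card_congr (Subgroup.subgroupOfEquivOfLe hDK).toEquiv]))
  haveI : (Cfsg.pPrimeCore 2 ↥K).Characteristic := inferInstance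
  have h2 : coreIn K ≤ Cfsg.pPrimeCore 2 G :=
    Grp.le_pPrimeCore (ConjAct.normal_of_characteristic_of_normal) (Nat.coprime_two_right.2 (odd_coreIn K))
  rw [hcore, le_bot_iff] at h2
  rw [Subgroup.eq_bot_iff_forall]
  intro d hd
  have : d ∈ coreIn K := ⟨⟨d, hDK hd⟩, h1 (Subgroup.mem_subgroupOf.2 hd), rfl⟩
  rwa [h2, Subgroup.mem_bot] at this

/-- A member of one class is a conjugate of one commuting with a given member of the other. -/
theorem Base.exists_rep (B : Base G Z Y) {x y : G} (hx : x ∈ Z) (hy : y ∈ Y) :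
    ∃ q d : G, q ∈ Z ∧ Commute q y ∧ d ∈ centralizerPPrimeCore 2 (q * y) ∧ y * d * y⁻¹ = d⁻¹ ∧
      x = d * q * d⁻¹ := by
  obtain ⟨d, hd, hyd, hdZ, hdc, hodd, hdcm⟩ := B.exists_conj hx hy
  obtain ⟨q, hq⟩ : ∃ q, q = d * x * d⁻¹ := ⟨_, rfl⟩
  rw [← hq] at hdZ hdc hdcm
  have hne : q * y ≠ 1 := fun h => B.disj q hdZ (by
    have : q = y⁻¹ := eq_inv_of_mul_eq_one_left h
    rw [this, inv_of_orderOf_two (B.inv₂ y hy)]; exact hy)
  have hxa : Commute x (q * y) := by
    have h := commute_conj ((Commute.refl q).mul_right hdc) d⁻¹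
    rw [hdcm.inv_left.eq, mul_inv_cancel_right, show d⁻¹ * q * d⁻¹⁻¹ = x by rw [hq]; group] at h
    exact h
  obtain ⟨i, hi⟩ := Subgroup.mem_zpowers_iff.1 hd
  have hO := B.ind _ (centralizer_ne_top B hne) x hx y hy
    (Subgroup.mem_centralizer_singleton_iff.2 hxa.eq)
    (Subgroup.mem_centralizer_singleton_iff.2 (hdc.symm.mul_right (Commute.refl y)).eq)
  refine ⟨q, d⁻¹, hdZ, hdc, inv_mem (Invol.mem_of_sq_mem hodd ?_), ?_, by rw [hq]; group⟩
  · rw [← hi, ← zpow_add, ← two_mul, zpow_mul, show ((2 : ℤ)) = ((2 : ℕ) : ℤ) from rfl, zpow_natCast,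
      sq, show x * y * (x * y) = x * y * x * y by group]
    exact Subgroup.zpow_mem _ hO i
  · rw [← conj_inv, hyd]

/-- Either the class is connected or the classes commute. -/
theorem Base.conn_top (B : Base G Z Y) :
    (∀ x ∈ Z, ∀ x' ∈ Z, Conn Z ⊤ x x') ∨ ∀ x ∈ Z, ∀ y ∈ Y, Commute x y := by
  rcases Z.eq_empty_or_nonempty with rfl | ⟨x0, hx0⟩
  · exact Or.inl fun x hx => absurd hx id
  have hfix : ∀ x ∈ Z, ∀ y ∈ Y, Conn Z ⊤ x (y * x * y⁻¹) := by
    intro x hx y hy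
    obtain ⟨q, d, hq, hqy, hd, hyd, he⟩ := B.exists_rep hx hy
    have h1 := B.conn_move hx hy ⟨d, hd, he⟩ hq hqy
    have h2 := B.conn_move (B.conj₁ y x hx) hy ⟨y * d * y⁻¹, by rw [hyd]; exact inv_mem hd, by
      rw [he, show y * (d * q * d⁻¹) * y⁻¹ = y * d * y⁻¹ * (y * q * y⁻¹) * (y * d * y⁻¹)⁻¹ by group,
        ← hqy.eq, mul_inv_cancel_right]⟩ hq hqy
    exact h1.symm.trans h2
  have htop : ∀ {g : G}, ∀ a ∈ (⊤ : Subgroup G), g * a * g⁻¹ ∈ (⊤ : Subgroup G) := fun _ _ => trivial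
  let M : Subgroup G :=
    { carrier := {g | Conn Z ⊤ x0 (g * x0 * g⁻¹)}
      one_mem' := by simpa using Conn.refl x0
      mul_mem' := fun {a b} ha hb => by
        have h := ha.trans (Conn.conj B.toCommSets (g := a) htop hb)
        rwa [show a * (b * x0 * b⁻¹) * a⁻¹ = a * b * x0 * (a * b)⁻¹ by group] at h
      inv_mem' := fun {a} ha => by
        have h := (Conn.conj B.toCommSets (g := a⁻¹) htop ha).symm
        rwa [show a⁻¹ * (a * x0 * a⁻¹) * a⁻¹⁻¹ = x0 by group] at h }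
  by_cases hM : M = ⊤
  · refine Or.inl fun x hx x' hx' => ?_
    have key : ∀ v ∈ Z, Conn Z ⊤ x0 v := fun v hv => by
      obtain ⟨g, rfl⟩ := B.tr₁ x0 hx0 v hv
      exact (hM ▸ Subgroup.mem_top g : g ∈ M)
    exact (key x hx).symm.trans (key x' hx')
  refine Or.inr fun x hx y hy => ?_
  obtain ⟨g, hg⟩ := B.tr₁ x0 hx0 x hx
  suffices h : ∀ w ∈ Y, Commute x0 w by
    have h' := commute_conj (h _ (B.conj₂ g⁻¹ y hy)) g
    rwa [hg, show g * (g⁻¹ * y * g⁻¹⁻¹) * g⁻¹ = y by group] at h'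
  intro w hw
  have hYM : Subgroup.closure Y ≤ M := (Subgroup.closure_le _).2 fun v hv => hfix x0 hx0 v hv
  have hx0M : x0 ∈ M := show Conn Z ⊤ x0 (x0 * x0 * x0⁻¹) by rw [mul_inv_cancel_right]; exact Conn.refl _
  have hn : (Subgroup.closure Y).Normal := ⟨fun v hv g => by
    induction hv using Subgroup.closure_induction with
    | mem v hv => exact Subgroup.subset_closure (B.conj₂ g v hv)
    | one => simp
    | mul a b _ _ ha hb => rw [show g * (a * b) * g⁻¹ = g * a * g⁻¹ * (g * b * g⁻¹) by group]; exact mul_mem ha hb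
    | inv a _ ha => rw [← conj_inv]; exact inv_mem ha⟩
  have hD := eq_bot_of_odd_normalized B.core_eq (K := Subgroup.closure Y) (D := coreIn M ⊓ Subgroup.closure Y)
    inf_le_right ((odd_coreIn M).of_dvd_nat (Subgroup.card_dvd_of_le inf_le_left)) fun k hk d hd => by
      obtain ⟨⟨u, hu, rfl⟩, hd2⟩ := hd
      exact ⟨⟨_, (Grp.pPrimeCore_isNormal).conj_mem u hu ⟨k, hYM hk⟩, rfl⟩,
        Subgroup.mul_mem _ (Subgroup.mul_mem _ hk hd2) (Subgroup.inv_mem _ hk)⟩
  have hmem : x0 * w * x0 * w ∈ coreIn M ⊓ Subgroup.closure Y := by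
    refine ⟨B.ind M hM x0 hx0 w hw hx0M (hYM (Subgroup.subset_closure hw)), ?_⟩
    have h := mul_mem (hn.conj_mem w (Subgroup.subset_closure hw) x0) (Subgroup.subset_closure hw)
    rwa [inv_of_orderOf_two (B.inv₁ x0 hx0)] at h
  rw [hD, Subgroup.mem_bot] at hmem
  have h1 : x0 * w = (x0 * w)⁻¹ := eq_inv_of_mul_eq_one_left (by rw [← hmem]; group)
  rwa [_root_.mul_inv_rev, inv_of_orderOf_two (B.inv₁ x0 hx0), inv_of_orderOf_two (B.inv₂ w hw)] at h1

theorem cen_pair {y y' a : G} :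
    a ∈ centralizer ({y, y'} : Set G) ↔ Commute a y ∧ Commute a y' := by
  constructor
  · intro h
    exact ⟨(Subgroup.mem_centralizer_iff.1 h y (Set.mem_insert _ _)).symm,
      (Subgroup.mem_centralizer_iff.1 h y' (Set.mem_insert_of_mem _ rfl)).symm⟩
  · rintro ⟨h1, h2⟩
    refine Subgroup.mem_centralizer_iff.2 ?_
    rintro r (rfl | rfl)
    exacts [h1.eq.symm, h2.eq.symm]

theorem pair_le_centralizer {y y' t : G} (ht : Four y y' t) :
    centralizer ({y, y'} : Set G) ≤ centralizer ({t} : Set G) := fun _ ha =>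
  Subgroup.mem_centralizer_singleton_iff.2
    (ht.commute (cen_pair.1 ha).1.symm (cen_pair.1 ha).2.symm).symm.eq

/-- Congruence modulo the odd core of the centralizer of `t`, for involutions. -/
def Cong (t a b : G) : Prop := a * b ∈ centralizerPPrimeCore 2 t

theorem Cong.symm {t a b : G} (ha : a * a = 1) (hb : b * b = 1) (h : Cong t a b) : Cong t b a := by
  have := inv_mem h
  rwa [_root_.mul_inv_rev, inv_eq_of_mul_eq_one_right ha, inv_eq_of_mul_eq_one_right hb] at this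

theorem Cong.trans {t a b c : G} (hb : b * b = 1) (h : Cong t a b) (h' : Cong t b c) : Cong t a c := by
  have := mul_mem h h'
  rwa [show a * b * (b * c) = a * (b * b) * c by group, hb, mul_one] at this

theorem cong_conj {t a e : G} (ha : a * a = 1) (hat : Commute a t)
    (he : e ∈ centralizerPPrimeCore 2 t) : Cong t (e * a * e⁻¹) a := by
  have h := core_mem_conj (show Commute a t from hat) (inv_mem he)
  show e * a * e⁻¹ * a ∈ _
  rw [show e * a * e⁻¹ * a = e * (a * e⁻¹ * a⁻¹) * (a * a) by group, ha, mul_one]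
  exact mul_mem he h

theorem Cong.eq_of_commute {t a b : G} (ha : a * a = 1) (hb : b * b = 1) (hc : Commute a b)
    (h : Cong t a b) : a = b := by
  have hodd := odd_orderOf_of_mem (odd_core t) h
  have hsq : (a * b) ^ 2 = 1 := by
    rw [sq, show a * b * (a * b) = a * (b * a) * b by group, ← hc.eq,
      show a * (a * b) * b = a * a * (b * b) by group, ha, hb, one_mul]
  have h1 : a * b = 1 := orderOf_eq_one_iff.1
    (Nat.dvd_one.1 ((Nat.coprime_two_right.2 hodd).dvd_of_dvd_mul_right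
      (by simpa using orderOf_dvd_of_pow_eq_one hsq)))
  rw [eq_inv_of_mul_eq_one_left h1, inv_eq_of_mul_eq_one_right hb]

theorem exists_conj_cong {t a b : G} (ha : orderOf a = 2) (hb : orderOf b = 2) (h : Cong t a b) :
    ∃ e ∈ centralizerPPrimeCore 2 t, e ∈ zpowers (a * b) ∧ a * e * a⁻¹ = e⁻¹ ∧
      b * e * b⁻¹ = e⁻¹ ∧ e * a * e⁻¹ = b := by
  obtain ⟨e, he, h1, h2, h3⟩ := exists_conj_eq ha hb (odd_orderOf_of_mem (odd_core t) h)
  exact ⟨e, Subgroup.zpowers_le.2 h he, he, h1, h2, h3⟩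

/-- A member centralizing `t` moves into the centralizer of an edge containing `t`. -/
theorem Base.exists_lift_cent (B : Base G Z Y) {y y' t p : G} (ey : Edge Y y y') (ht : Four y y' t)
    (hp : p ∈ Z) (hpt : Commute p t) :
    ∃ r ∈ Z, r ∈ centralizer ({y, y'} : Set G) ∧ Cong t r p := by
  have ht1 := ht.ne_one B.toCommSets.symm ey
  have hyt : Commute y t := (ht.commute (Commute.refl y) ey.comm.symm).symm
  have hy't : Commute y' t := (ht.commute ey.comm (Commute.refl y')).symm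
  obtain ⟨d, hd, -, -, -, h1, h1c⟩ := B.exists_move ht1 hp ey.left hpt hyt
  have hp1t : Commute (d * p * d⁻¹) t :=
    ((commute_of_mem_core hd).mul_left hpt).mul_left (commute_of_mem_core hd).inv_left
  obtain ⟨d', hd', hd'z, -, -, h2, h2c⟩ := B.exists_move ht1 h1 ey.right hp1t hy't
  have hd'y : Commute d' y := by
    obtain ⟨i, rfl⟩ := Subgroup.mem_zpowers_iff.1 hd'z
    exact (h1c.mul_left ey.comm.symm).zpow_left i
  have hc := cong_conj (mul_self_of_orderOf_two (B.inv₁ _ h1)) hp1t hd'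
  refine ⟨_, h2, cen_pair.2 ⟨(hd'y.mul_left h1c).mul_left hd'y.inv_left, h2c⟩,
    hc.trans (mul_self_of_orderOf_two (B.inv₁ _ h1)) ?_⟩
  exact cong_conj (mul_self_of_orderOf_two (B.inv₁ p hp)) hpt hd

/-- An edge centralizing `t` moves into the centralizer of an edge containing `t`. -/
theorem Base.exists_edge_lift (B : Base G Z Y) {y y' t p p' : G} (ey : Edge Y y y') (ht : Four y y' t)
    (e : Edge Z p p') (hpt : Commute p t) (hp't : Commute p' t) :
    ∃ r r', Edge Z r r' ∧ r ∈ centralizer ({y, y'} : Set G) ∧ r' ∈ centralizer ({y, y'} : Set G) ∧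
      Cong t r p ∧ Cong t r' p' := by
  obtain ⟨r, hr, hrC, hrp⟩ := B.exists_lift_cent ey ht e.left hpt
  obtain ⟨s, hs, hsC, hsp⟩ := B.exists_lift_cent ey ht e.right hp't
  have hr2 := mul_self_of_orderOf_two (B.inv₁ r hr)
  have hs2 := mul_self_of_orderOf_two (B.inv₁ s hs)
  have hp2 := mul_self_of_orderOf_two (B.inv₁ p e.left)
  have hp2' := mul_self_of_orderOf_two (B.inv₁ p' e.right)
  have hct : ∀ {a : G}, a ∈ centralizer ({y, y'} : Set G) → Commute a t := fun ha =>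
    Subgroup.mem_centralizer_singleton_iff.1 (pair_le_centralizer ht ha)
  have hm : r * s * r * s ∈ centralizerPPrimeCore 2 t := by
    have u1 : r * p ∈ centralizerPPrimeCore 2 t := hrp
    have u2 : s * p' ∈ centralizerPPrimeCore 2 t := hsp
    have c1 := core_mem_conj hpt u2
    have c2 := core_mem_conj (hpt.mul_left hp't) u1
    have c3 := core_mem_conj ((hpt.mul_left hp't).mul_left hpt) u2
    have h := mul_mem (mul_mem (mul_mem u1 c1) c2) c3
    have hpp : p * p' * (p * p') = 1 := Four.mul_self B.toCommSets e (Or.inr (Or.inr rfl))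
    have hr' : r = r * p * p := by rw [mul_assoc, hp2, mul_one]
    have hs' : s = s * p' * p' := by rw [mul_assoc, hp2', mul_one]
    have key : r * s * r * s = r * p * (p * (s * p') * p⁻¹) * ((p * p') * (r * p) * (p * p')⁻¹) *
        ((p * p' * p) * (s * p') * (p * p' * p)⁻¹) * (p * p' * (p * p')) := by
      calc r * s * r * s = (r * p * p) * (s * p' * p') * (r * p * p) * (s * p' * p') := by
            rw [← hr', ← hs']
        _ = _ := by group
    rw [key, hpp, mul_one]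
    exact h
  obtain ⟨e', he', hc⟩ := exists_conj_commute (B.inv₁ r hr) (B.inv₁ s hs)
    (odd_orderOf_of_mem (odd_core t) hm)
  have heO : e' ∈ centralizerPPrimeCore 2 t := Subgroup.zpowers_le.2 hm he'
  have heC : e' ∈ centralizer ({y, y'} : Set G) :=
    Subgroup.zpowers_le.2 (mul_mem (mul_mem (mul_mem hrC hsC) hrC) hsC) he'
  have hcong : Cong t (e' * s * e'⁻¹) p' := (cong_conj hs2 (hct hsC) heO).trans hs2 hsp
  have hr'Z := B.conj₁ e' s hs
  refine ⟨r, e' * s * e'⁻¹, ⟨hr, hr'Z, fun h => ?_, hc⟩, hrC,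
    mul_mem (mul_mem heC hsC) (inv_mem heC), hrp, hcong⟩
  exact e.ne (((hrp.symm hr2 hp2).trans hr2 (h ▸ hcong)).eq_of_commute hp2 hp2' e.comm)

/-- The four-group elements of congruent edges are congruent. -/
theorem Base.cong_four (B : Base G Z Y) {t p p' r r' v : G} (e : Edge Z p p') (e' : Edge Z r r')
    (hpt : Commute p t) (h : Cong t r p) (h' : Cong t r' p') (hv : Four p p' v) :
    ∃ v', Four r r' v' ∧ Cong t v' v := by
  rcases hv with rfl | rfl | rfl
  · exact ⟨r, Or.inl rfl, h⟩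
  · exact ⟨r', Or.inr (Or.inl rfl), h'⟩
  · refine ⟨r * r', Or.inr (Or.inr rfl), ?_⟩
    have hpp := mul_self_of_orderOf_two (B.inv₁ p e.left)
    have hc := core_mem_conj hpt h'
    have h2 := mul_mem (show r * p ∈ centralizerPPrimeCore 2 t from h) hc
    rw [show r * p * (p * (r' * p') * p⁻¹) = r * (p * p) * (r' * p' * p⁻¹) by group, hpp, mul_one,
      inv_of_orderOf_two (B.inv₁ p e.left)] at h2
    show r * r' * (p * p') ∈ _
    rwa [e.comm.eq, show r * r' * (p' * p) = r * (r' * p' * p) by group]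

end Cfsg.Agent.Fus.ClosedPair
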