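import Mathlib
import Cfsg.Agent.Lib.Fus.ClosedPair.Moves

/-!
# The two classes commute

In the minimal situation the four-groups in the centralizer of a member of the second class are
connected, so the inverted elements generate one odd subgroup, which must be trivial.
-/

set_option autoImplicit false
set_option linter.unusedSectionVars false
set_option linter.unusedVariables false
set_option linter.style.haveILetI false

namespace Cfsg.Agent.Fus.ClosedPair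

open Subgroup
open Cfsg.Agent.Invol (mul_self_of_orderOf_two inv_of_orderOf_two orderOf_two_iff)
open Cfsg.Agent.Invol.SmallCent (sqr sqr_mem sqr_mul_self eq_sqr conj_sqr)

universe u

variable {G : Type u} [Group G] {Z Y : Set G}

/-- The minimal situation, the products of edges avoiding the second class. -/
structure Red (G : Type u) [Group G] (Z Y : Set G) : Prop extends Base G Z Y where
  sep : ∀ p p' : G, Edge Z p p' → p * p' ∉ Y

theorem Red.ne (B : Red G Z Y) {p p' v y : G} (e : Edge Z p p') (hv : Four p p' v) (hy : y ∈ Y) :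
    v ≠ y := by
  rintro rfl
  rcases hv with rfl | rfl | rfl
  exacts [B.disj _ e.left hy, B.disj _ e.right hy, B.sep p p' e hy]

/-- A representative of `x` centralizing `y`. -/
def Rep (Z : Set G) (y x q : G) : Prop :=
  q ∈ Z ∧ Commute q y ∧ ∃ w ∈ Qd q y, x = w * q * w⁻¹

/-- A representative of `x` centralizing an edge of the second class. -/
def RepP (Z Y : Set G) (y y' x q : G) : Prop :=
  ∃ q', Quad Z Y q q' y y' ∧ ∃ w ∈ sigW q q' y y', x = w * q * w⁻¹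

/-- Two members have connected representatives. -/
def Rel (Z : Set G) (y x₁ x₂ : G) : Prop :=
  ∃ q₁ q₂, Rep Z y x₁ q₁ ∧ Rep Z y x₂ q₂ ∧ Conn Z (centralizer {y}) q₁ q₂

variable [Finite G]

theorem Base.exists_quad (B : Base G Z Y) {q y : G} (hq : q ∈ Z) (hy : y ∈ Y) (hc : Commute q y) :
    ∃ q' y', Quad Z Y q q' y y' := by
  obtain ⟨q', e, h, -⟩ := B.mate_le hq hy hy hc hc (Commute.refl y)
  obtain ⟨y', e', h1, h2⟩ := B.symm.mate_le hy hq e.right hc.symm h.symm e.comm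
  exact ⟨q', y', e, e', hc, h1.symm, h, h2.symm⟩

theorem Base.exists_quad_pair (B : Base G Z Y) {q y y' : G} (hq : q ∈ Z) (ey : Edge Y y y')
    (hc : Commute q y) (hc' : Commute q y') : ∃ q', Quad Z Y q q' y y' := by
  obtain ⟨q', e, h, h'⟩ := B.mate_le hq ey.left ey.right hc hc' ey.comm
  exact ⟨q', e, ey, hc, hc', h, h'⟩

theorem mem_centralizer_single {t a : G} : a ∈ centralizer ({t} : Set G) ↔ Commute a t :=
  Subgroup.mem_centralizer_singleton_iff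

/-- Congruent vertices centralizing an edge are connected there. -/
theorem Base.conn_of_cong (B : Base G Z Y) {y y' t r r' v v' : G} (ey : Edge Y y y')
    (ht : Four y y' t) (e : Edge Z r r') (hr : r ∈ centralizer ({y, y'} : Set G))
    (hr' : r' ∈ centralizer ({y, y'} : Set G)) (hv : Four r r' v) (hv' : orderOf v' = 2)
    (hv'C : v' ∈ centralizer ({y, y'} : Set G)) (h : Cong t v v') :
    Conn Z (centralizer ({y, y'} : Set G)) v v' := by
  have hv2 : orderOf v = 2 := orderOf_two_iff.2 ⟨hv.mul_self B.toCommSets e, hv.ne_one B.toCommSets e⟩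
  have hvC : v ∈ centralizer ({y, y'} : Set G) := by
    rcases hv with rfl | rfl | rfl
    exacts [hr, hr', mul_mem hr hr']
  obtain ⟨d, hd, hdz, -, -, rfl⟩ := exists_conj_cong hv2 hv' h
  have hdC : d ∈ centralizer ({y, y'} : Set G) := Subgroup.zpowers_le.2 (mul_mem hvC hv'C) hdz
  have hn : ∀ g ∈ centralizer ({y, y'} : Set G),
      ∀ a ∈ centralizerPPrimeCore 2 t ⊓ centralizer ({y, y'} : Set G),
      g * a * g⁻¹ ∈ centralizerPPrimeCore 2 t ⊓ centralizer ({y, y'} : Set G) := fun g hg a ha =>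
    ⟨core_mem_conj (mem_centralizer_single.1 (pair_le_centralizer ht hg)) ha.1,
      Subgroup.mul_mem _ (Subgroup.mul_mem _ hg ha.2) (Subgroup.inv_mem _ hg)⟩
  exact conn_conj B.toCommSets e hr hr'
    (inf_le_right : centralizerPPrimeCore 2 t ⊓ centralizer ({y, y'} : Set G) ≤ _)
    ((odd_core t).of_dvd_nat (Subgroup.card_dvd_of_le inf_le_left)) (hn r hr) (hn r' hr') ⟨hd, hdC⟩ hv

/-- Connected in the centralizer of a vertex, connected in the centralizer of the edge. -/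
theorem Base.conn_lift (B : Base G Z Y) {y y' t q q₁ : G} (ey : Edge Y y y') (ht : Four y y' t)
    (hq : q ∈ Z) (hqC : q ∈ centralizer ({y, y'} : Set G)) (hq₁ : q₁ ∈ Z)
    (hq₁C : q₁ ∈ centralizer ({y, y'} : Set G)) (h : Conn Z (centralizer {t}) q q₁) :
    Conn Z (centralizer ({y, y'} : Set G)) q q₁ := by
  have key : ∀ {w : G}, Conn Z (centralizer {t}) q w → ∀ v', orderOf v' = 2 →
      v' ∈ centralizer ({y, y'} : Set G) → Cong t v' w →
        Conn Z (centralizer ({y, y'} : Set G)) q v' := by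
    intro w hw
    induction hw with
    | refl =>
      intro v' hv' hv'C hc
      obtain ⟨m, qm⟩ := B.exists_quad_pair hq ey (cen_pair.1 hqC).1 (cen_pair.1 hqC).2
      exact B.conn_of_cong ey ht qm.ez hqC (cen_pair.2 ⟨qm.c₂₁, qm.c₂₂⟩) (Or.inl rfl) hv' hv'C
        (hc.symm (mul_self_of_orderOf_two hv') (mul_self_of_orderOf_two (B.inv₁ q hq)))
    | tail _ hstep ih =>
      intro v' hv' hv'C hc
      obtain ⟨p, p', e, hp, hp', ha, hb⟩ := hstep
      have hpt := mem_centralizer_single.1 hp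
      obtain ⟨r, r', e', hr, hr', h1, h2⟩ :=
        B.exists_edge_lift ey ht e hpt (mem_centralizer_single.1 hp')
      obtain ⟨a', ha', hca⟩ := B.cong_four e e' hpt h1 h2 ha
      obtain ⟨b', hb', hcb⟩ := B.cong_four e e' hpt h1 h2 hb
      have ha'2 : orderOf a' = 2 :=
        orderOf_two_iff.2 ⟨ha'.mul_self B.toCommSets e', ha'.ne_one B.toCommSets e'⟩
      have ha'C : a' ∈ centralizer ({y, y'} : Set G) := by
        rcases ha' with rfl | rfl | rfl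
        exacts [hr, hr', mul_mem hr hr']
      refine ((ih a' ha'2 ha'C hca).trans (e'.conn hr hr' ha' hb')).trans
        (B.conn_of_cong ey ht e' hr hr' hb' hv' hv'C ?_)
      exact hcb.trans (hb.mul_self B.toCommSets e)
        (hc.symm (mul_self_of_orderOf_two hv') (hb.mul_self B.toCommSets e))
  exact key h q₁ (B.inv₁ q₁ hq₁) hq₁C (show q₁ * q₁ ∈ centralizerPPrimeCore 2 t by
    rw [mul_self_of_orderOf_two (B.inv₁ q₁ hq₁)]; exact one_mem _)

/-- An element of the completion carrying a vertex to a fixed point may be taken fixed. -/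
theorem exists_fixed_conj {W : Subgroup G} (hW : Odd (Nat.card W)) {q y u : G} (hq : q * q = 1)
    (hy : y * y = 1) (hqy : Commute q y) (hnq : ∀ x ∈ W, q * x * q⁻¹ ∈ W)
    (hny : ∀ x ∈ W, y * x * y⁻¹ ∈ W) (hu : u ∈ W) (hf : Commute (u * q * u⁻¹) y) :
    ∃ c ∈ W, Commute c y ∧ u * q * u⁻¹ = c * q * c⁻¹ := by
  obtain ⟨k, hk⟩ : ∃ k, k = u⁻¹ * (y * u * y⁻¹) := ⟨_, rfl⟩
  have hkW : k ∈ W := hk ▸ mul_mem (inv_mem hu) (hny u hu)
  have hq1 : q⁻¹ = q := inv_eq_of_mul_eq_one_right hq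
  have hy1 : y⁻¹ = y := inv_eq_of_mul_eq_one_right hy
  have hkq : q * k * q⁻¹ = k := by
    have h1 : y * (u * q * u⁻¹) * y⁻¹ = u * q * u⁻¹ := by rw [← hf.eq, mul_inv_cancel_right]
    have h2 : y * u * y⁻¹ * q * (y * u * y⁻¹)⁻¹ = u * q * u⁻¹ := by
      rw [← h1]
      calc y * u * y⁻¹ * q * (y * u * y⁻¹)⁻¹ = y * u * (y⁻¹ * q * y) * u⁻¹ * y⁻¹ := by group
        _ = _ := by rw [mul_assoc y⁻¹ q y, hqy.eq, inv_mul_cancel_left]; group
    have h3 : k * q * k⁻¹ = q := by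
      rw [hk, show u⁻¹ * (y * u * y⁻¹) * q * (u⁻¹ * (y * u * y⁻¹))⁻¹ =
        u⁻¹ * (y * u * y⁻¹ * q * (y * u * y⁻¹)⁻¹) * u by group, h2]
      group
    calc q * k * q⁻¹ = q * k * q⁻¹ * 1 := (mul_one _).symm
      _ = k * q * k⁻¹ * k * q⁻¹ := by rw [h3]; group
      _ = _ := by group
  have hky : y * k * y⁻¹ = k⁻¹ := by
    rw [hk, hy1]
    calc y * (u⁻¹ * (y * u * y)) * y = y * u⁻¹ * y * u * (y * y) := by group
      _ = (u⁻¹ * (y⁻¹⁻¹ * u * y⁻¹))⁻¹ := by rw [hy, mul_one, inv_inv, hy1]; simp [mul_assoc, hy1]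
      _ = _ := by rw [inv_inv, hy1]
  obtain ⟨l, hl⟩ : ∃ l, l = sqr W k := ⟨_, rfl⟩
  have hlW : l ∈ W := hl ▸ sqr_mem hkW
  have hll : l * l = k := hl ▸ sqr_mul_self hW hkW
  have hlq : q * l * q⁻¹ = l := by rw [hl, conj_sqr, hkq]
  have hly : y * l * y⁻¹ = l⁻¹ := by
    rw [hl, conj_sqr, hky]
    exact (eq_sqr hW (inv_mem (sqr_mem hkW)) (by rw [← _root_.mul_inv_rev, sqr_mul_self hW hkW])).symm
  refine ⟨u * l, mul_mem hu hlW, ?_, ?_⟩
  · have h : y * (u * l) * y⁻¹ = u * l := by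
      calc y * (u * l) * y⁻¹ = u * (u⁻¹ * (y * u * y⁻¹)) * (y * l * y⁻¹) := by group
        _ = _ := by rw [← hk, hly, ← hll]; group
    exact (mul_inv_eq_iff_eq_mul.1 h).symm
  · rw [show u * l * q * (u * l)⁻¹ = u * (l * q * l⁻¹) * u⁻¹ by group,
      show l * q * l⁻¹ = q by rw [← (mul_inv_eq_iff_eq_mul.1 hlq), mul_inv_cancel_right]]

theorem Quad.conn_fixed (B : Base G Z Y) {p p' y y' t c : G} (q : Quad Z Y p p' y y')
    (ht : Four y y' t) (hc : c ∈ sigW p p' y y') (hct : Commute c t) :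
    Conn Z (centralizer {t}) p (c * p * c⁻¹) := by
  have hpt : Commute p t := q.comm (Or.inl rfl) ht
  have hp't : Commute p' t := q.comm (Or.inr (Or.inl rfl)) ht
  have hn : ∀ g : G, g ∈ four p p' ⊔ four y y' → Commute g t →
      ∀ a ∈ sigW p p' y y' ⊓ centralizer {t}, g * a * g⁻¹ ∈ sigW p p' y y' ⊓ centralizer {t} :=
    fun g hg hgt a ha => ⟨q.conj_W B hg ha.1, mem_centralizer_single.2
      ((hgt.mul_left (mem_centralizer_single.1 ha.2)).mul_left hgt.inv_left)⟩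
  exact conn_conj B.toCommSets q.ez (mem_centralizer_single.2 hpt) (mem_centralizer_single.2 hp't)
    (inf_le_right : sigW p p' y y' ⊓ centralizer {t} ≤ _)
    ((q.odd_W B).of_dvd_nat (Subgroup.card_dvd_of_le inf_le_left))
    (hn p (Subgroup.mem_sup_left (left_mem_four _ _)) hpt)
    (hn p' (Subgroup.mem_sup_left (right_mem_four _ _)) hp't)
    ⟨hc, mem_centralizer_single.2 hct⟩ (Or.inl rfl)

theorem Quad.qd_normal {q y x : G} (hqy : Commute q y) (hx : x ∈ Qd q y) :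
    q * x * q⁻¹ ∈ Qd q y ∧ y * x * y⁻¹ ∈ Qd q y := by
  have h1 := qd_conj_mem q hx
  have h2 := qd_conj_mem y hx
  rw [mul_inv_cancel_right, hqy.eq, mul_inv_cancel_right] at h1
  rw [mul_inv_cancel_right, ← hqy.eq, mul_inv_cancel_right] at h2
  exact ⟨h1, h2⟩

theorem rep_commutator_mem {q y w : G} {W : Subgroup G} (hq : q * q = 1) (hy : y * y = 1)
    (hqy : Commute q y) (hnq : ∀ x ∈ W, q * x * q⁻¹ ∈ W) (hny : ∀ x ∈ W, y * x * y⁻¹ ∈ W)
    (hw : w ∈ W) : w * q * w⁻¹ * y * (w * q * w⁻¹) * y ∈ W := by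
  have hq1 : q⁻¹ = q := inv_eq_of_mul_eq_one_right hq
  have hy1 : y⁻¹ = y := inv_eq_of_mul_eq_one_right hy
  have h := mul_mem (mul_mem (mul_mem hw (hnq _ (inv_mem hw))) (hnq _ (hny _ hw))) (hny _ (inv_mem hw))
  have e : w * q * w⁻¹ * y * (w * q * w⁻¹) * y =
      w * (q * w⁻¹ * q⁻¹) * (q * (y * w * y⁻¹) * q⁻¹) * (y * w⁻¹ * y⁻¹) := by
    calc w * q * w⁻¹ * y * (w * q * w⁻¹) * y = w * q * w⁻¹ * y * w * (q * y) * (y⁻¹ * w⁻¹ * y) := by group
      _ = w * q * w⁻¹ * y * w * (y * q) * (y⁻¹ * w⁻¹ * y) := by rw [hqy.eq]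
      _ = _ := by
        have hqc : ∀ a : G, q * (q * a) = a := fun a => by rw [← mul_assoc, hq, one_mul]
        simp [mul_assoc, hq1, hy1, hqc]
  rw [e]; exact h

theorem Red.exists_rep' (B : Red G Z Y) {x y : G} (hx : x ∈ Z) (hy : y ∈ Y) :
    ∃ q, Rep Z y x q := by
  obtain ⟨q, d, hq, hqy, hd, hyd, rfl⟩ := B.toBase.exists_rep hx hy
  exact ⟨q, hq, hqy, d, Subgroup.subset_closure ⟨hyd, Or.inr hd⟩, rfl⟩

theorem Rep.refl {y q : G} (hq : q ∈ Z) (hqy : Commute q y) : Rep Z y q q :=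
  ⟨hq, hqy, 1, one_mem _, by group⟩

/-- Representatives at `y` are connected. -/
theorem Red.rep_unique (B : Red G Z Y) {x y q₁ q₂ : G} (hy : y ∈ Y) (h₁ : Rep Z y x q₁)
    (h₂ : Rep Z y x q₂) : Conn Z (centralizer {y}) q₁ q₂ := by
  have data : ∀ {q : G}, Rep Z y x q → ∃ q' y' w, Quad Z Y q q' y y' ∧ w ∈ sigW q q' y y' ∧
      x = w * q * w⁻¹ := by
    rintro q ⟨hq, hqy, w, hw, rfl⟩
    obtain ⟨q', y', qu⟩ := B.toBase.exists_quad hq hy hqy
    exact ⟨q', y', w, qu, qu.qd_le B.toBase (Or.inl rfl) (Or.inl rfl) (B.ne qu.ez (Or.inl rfl) hy) hw, rfl⟩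
  have hx : x ∈ Z := by
    obtain ⟨hq, -, w, -, rfl⟩ := h₁
    exact B.conj₁ w q₁ hq
  have hx2 := B.inv₁ x hx
  have hy2 := B.inv₂ y hy
  have hyy := mul_self_of_orderOf_two hy2
  -- the canonical conjugate commuting with `y`
  have hm : ∀ {q : G}, Rep Z y x q → ∃ q' y', ∃ _ : Quad Z Y q q' y y',
      (y * x * y * x ∈ sigW q q' y y') ∧
      ∀ l ∈ zpowers (y * x * y * x), Commute y (l * x * l⁻¹) →
        Conn Z (centralizer {y}) q (l * x * l⁻¹) := by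
    intro q hq
    obtain ⟨q', y', w, qu, hw, rfl⟩ := data hq
    have hqq := mul_self_of_orderOf_two (B.inv₁ q qu.ez.left)
    have hqA : q ∈ four q q' ⊔ four y y' := Subgroup.mem_sup_left (left_mem_four _ _)
    have hyA : y ∈ four q q' ⊔ four y y' := Subgroup.mem_sup_right (left_mem_four _ _)
    have hmem := rep_commutator_mem hqq hyy qu.c₁₁ (fun a ha => qu.conj_W B.toBase hqA ha)
      (fun a ha => qu.conj_W B.toBase hyA ha) hw
    have hmem' : y * (w * q * w⁻¹) * y * (w * q * w⁻¹) ∈ sigW q q' y y' := by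
      have h := inv_mem hmem
      rwa [show (w * q * w⁻¹ * y * (w * q * w⁻¹) * y)⁻¹ = y⁻¹ * (w * q * w⁻¹)⁻¹ * y⁻¹ * (w * q * w⁻¹)⁻¹
        by group, inv_of_orderOf_two hy2, inv_of_orderOf_two hx2] at h
    refine ⟨q', y', qu, hmem', fun l hl hc => ?_⟩
    have hlW := Subgroup.zpowers_le.2 hmem' hl
    have hf : Commute (l * w * q * (l * w)⁻¹) y := by
      rw [show l * w * q * (l * w)⁻¹ = l * (w * q * w⁻¹) * l⁻¹ by group]; exact hc.symm
    obtain ⟨c, hcW, hcy, he⟩ := exists_fixed_conj (qu.odd_W B.toBase) hqq hyy qu.c₁₁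
      (fun a ha => qu.conj_W B.toBase hqA ha) (fun a ha => qu.conj_W B.toBase hyA ha)
      (mul_mem hlW hw) hf
    rw [show l * (w * q * w⁻¹) * l⁻¹ = l * w * q * (l * w)⁻¹ by group, he]
    exact qu.conn_fixed B.toBase (Or.inl rfl) hcW hcy
  obtain ⟨a₁, b₁, qu₁, hm₁, hc₁⟩ := hm h₁
  obtain ⟨a₂, b₂, -, -, hc₂⟩ := hm h₂
  obtain ⟨l, hl, hlc⟩ := exists_conj_commute hy2 hx2
    (odd_orderOf_of_mem (qu₁.odd_W B.toBase) hm₁)
  exact (hc₁ l hl hlc).trans (hc₂ l hl hlc).symm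

theorem Red.repP_of_rep (B : Red G Z Y) {x y y' q : G} (ey : Edge Y y y') (h : Rep Z y x q) :
    ∃ q₀, RepP Z Y y y' x q₀ ∧ Conn Z (centralizer {y}) q q₀ := by
  obtain ⟨hq, hqy, w, hw, rfl⟩ := h
  have ht : Four y y' y := Or.inl rfl
  obtain ⟨r, hr, hrC, hc⟩ := B.toBase.exists_lift_cent ey ht hq hqy
  obtain ⟨r', qu⟩ := B.toBase.exists_quad_pair hr ey (cen_pair.1 hrC).1 (cen_pair.1 hrC).2
  obtain ⟨e, he, -, hre, -, rfl⟩ := exists_conj_cong (B.inv₁ r hr) (B.inv₁ q hq) hc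
  have heW : e ∈ sigW r r' y y' := by
    rw [← sigW_symm]
    exact qu.symm.mem_W_vertex B.toBase.symm ht (Or.inl rfl) he hre
  have hne := B.ne qu.ez (Or.inl rfl) ey.left
  rw [qu.qd_conj B.toBase (Or.inl rfl) ht hne heW (commute_of_mem_core he)] at hw
  refine ⟨r, ⟨r', qu, w * e, mul_mem (qu.qd_le B.toBase (Or.inl rfl) ht hne hw) heW, by group⟩, ?_⟩
  exact (qu.conn_fixed B.toBase ht heW (commute_of_mem_core he)).symm

theorem Red.rep_of_repP (B : Red G Z Y) {x y y' q₀ : G} (h : RepP Z Y y y' x q₀) :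
    ∃ q, Rep Z y x q ∧ Conn Z (centralizer {y}) q₀ q := by
  obtain ⟨q', qu, w, hw, rfl⟩ := h
  have ht : Four y y' y := Or.inl rfl
  have hyy := mul_self_of_orderOf_two (B.inv₂ y qu.ey.left)
  obtain ⟨i, c, hi, hyi, hc, hyc, rfl⟩ := split_fixed (qu.odd_W B.toBase) hyy
    (fun a ha => qu.conj_W B.toBase (Subgroup.mem_sup_right (left_mem_four _ _)) ha) hw
  have hcy : Commute c y := (mul_inv_eq_iff_eq_mul.1 hyc).symm
  have hne := B.ne qu.ez (Or.inl rfl) qu.ey.left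
  refine ⟨c * q₀ * c⁻¹, ⟨B.conj₁ c q₀ qu.ez.left,
    (hcy.mul_left qu.c₁₁).mul_left hcy.inv_left, i, ?_, by group⟩, qu.conn_fixed B.toBase ht hc hcy⟩
  rw [qu.qd_conj B.toBase (Or.inl rfl) ht hne hc hcy, qu.qd_eq B.toBase (Or.inl rfl) ht hne]
  exact Subgroup.subset_closure ⟨hi, hyi⟩

/-- Representatives pass between edges sharing an element. -/
theorem Red.repP_link (B : Red G Z Y) {x y y' u u' t q₀ : G} (eu : Edge Y u u')
    (ht : Four y y' t) (hu : Four u u' t) (h : RepP Z Y y y' x q₀) :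
    ∃ q₁, RepP Z Y u u' x q₁ ∧ Conn Z (centralizer {t}) q₀ q₁ := by
  obtain ⟨p, qu, w, hw, rfl⟩ := h
  have hq₀t : Commute q₀ t := qu.comm (Or.inl rfl) ht
  have hpt : Commute p t := qu.comm (Or.inr (Or.inl rfl)) ht
  obtain ⟨r, r', e, hr, hr', hcr, hcr'⟩ := B.toBase.exists_edge_lift eu hu qu.ez hq₀t hpt
  have qv : Quad Z Y r r' u u' :=
    ⟨e, eu, (cen_pair.1 hr).1, (cen_pair.1 hr).2, (cen_pair.1 hr').1, (cen_pair.1 hr').2⟩
  obtain ⟨i, c, hi, hti, hc, htc, rfl⟩ := split_fixed (qu.odd_W B.toBase)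
    (ht.mul_self B.toBase.toCommSets.symm qu.ey)
    (fun a ha => qu.conj_W B.toBase (Subgroup.mem_sup_right ht.mem) ha) hw
  have hct : Commute c t := (mul_inv_eq_iff_eq_mul.1 htc).symm
  have ht1 := ht.ne_one B.toBase.toCommSets.symm qu.ey
  have hcO := qu.core_of_mem B.toBase (Subgroup.mem_sup_right ht.mem) ht1 hc hct
  have hqq := mul_self_of_orderOf_two (B.inv₁ q₀ qu.ez.left)
  have hcc : Cong t r (c * q₀ * c⁻¹) := by
    refine hcr.trans hqq ?_
    exact (cong_conj hqq hq₀t hcO).symm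
      (by rw [show c * q₀ * c⁻¹ * (c * q₀ * c⁻¹) = c * (q₀ * q₀) * c⁻¹ by group, hqq]; group) hqq
  obtain ⟨d, hd, -, hrd, -, hdr⟩ :=
    exists_conj_cong (B.inv₁ r e.left) (B.inv₁ _ (B.conj₁ c q₀ qu.ez.left)) hcc
  have hdW : d ∈ sigW r r' u u' := by
    rw [← sigW_symm]
    exact qv.symm.mem_W_vertex B.toBase.symm hu (Or.inl rfl) hd hrd
  -- the inverted part lies in both completions
  obtain ⟨v, v', hv, hv', hvZ, hv'Z, hcv, hvt, hvne⟩ : ∃ v v', Four q₀ p v ∧ Four r r' v' ∧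
      v ∈ Z ∧ v' ∈ Z ∧ Cong t v' v ∧ Commute v t ∧ v ≠ t := by
    by_cases h : q₀ = t
    · exact ⟨p, r', Or.inr (Or.inl rfl), Or.inr (Or.inl rfl), qu.ez.right, e.right, hcr', hpt,
        fun h' => qu.ez.ne (h.trans h'.symm)⟩
    · exact ⟨q₀, r, Or.inl rfl, Or.inl rfl, qu.ez.left, e.left, hcr, hq₀t, h⟩
  obtain ⟨f, hf, -, hvf, -, hfv⟩ := exists_conj_cong (B.inv₁ v hvZ) (B.inv₁ v' hv'Z)
    (hcv.symm (mul_self_of_orderOf_two (B.inv₁ v' hv'Z)) (mul_self_of_orderOf_two (B.inv₁ v hvZ)))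
  have hfW : f ∈ sigW q₀ p y y' := by
    rw [← sigW_symm]
    exact qu.symm.mem_W_vertex B.toBase.symm ht hv hf hvf
  have hv'ne : v' ≠ t := by
    intro h
    have hvv := mul_self_of_orderOf_two (B.inv₁ v hvZ)
    have htt := ht.mul_self B.toBase.toCommSets.symm qu.ey
    rw [h] at hcv
    exact hvne (hcv.eq_of_commute htt hvv hvt.symm).symm
  have hiW : i ∈ sigW r r' u u' := by
    refine qv.qd_le B.toBase hv' hu hv'ne ?_
    rw [← hfv, qu.qd_conj B.toBase hv ht hvne hfW (commute_of_mem_core hf),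
      qu.qd_eq B.toBase hv ht hvne]
    exact Subgroup.subset_closure ⟨hi, hti⟩
  refine ⟨r, ⟨r', qv, i * d, mul_mem hiW hdW, ?_⟩, ?_⟩
  · calc i * c * q₀ * (i * c)⁻¹ = i * (c * q₀ * c⁻¹) * i⁻¹ := by group
      _ = _ := by rw [← hdr]; group
  · refine (qu.conn_fixed B.toBase ht hc hct).trans ?_
    rw [← hdr]
    exact (qv.conn_fixed B.toBase hu hdW (commute_of_mem_core hd)).symm

theorem repP_mem {x y y' q : G} (h : RepP Z Y y y' x q) :
    q ∈ Z ∧ q ∈ centralizer ({y, y'} : Set G) := by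
  obtain ⟨q', qu, -⟩ := h
  exact ⟨qu.ez.left, cen_pair.2 ⟨qu.c₁₁, qu.c₁₂⟩⟩

theorem Red.rel_transfer (B : Red G Z Y) {y y' u u' t x₁ x₂ : G} (ey : Edge Y y y')
    (eu : Edge Y u u') (ht : Four y y' t) (hu : Four u u' t) (h : Rel Z y x₁ x₂) :
    Rel Z u x₁ x₂ := by
  obtain ⟨q₁, q₂, h₁, h₂, hc⟩ := h
  obtain ⟨a₁, ha₁, c₁⟩ := B.repP_of_rep ey h₁
  obtain ⟨a₂, ha₂, c₂⟩ := B.repP_of_rep ey h₂
  have hA := B.toBase.conn_lift ey (t := y) (Or.inl rfl) (repP_mem ha₁).1 (repP_mem ha₁).2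
    (repP_mem ha₂).1 (repP_mem ha₂).2 ((c₁.symm.trans hc).trans c₂)
  obtain ⟨b₁, hb₁, d₁⟩ := B.repP_link eu ht hu ha₁
  obtain ⟨b₂, hb₂, d₂⟩ := B.repP_link eu ht hu ha₂
  have hB := B.toBase.conn_lift eu hu (repP_mem hb₁).1 (repP_mem hb₁).2 (repP_mem hb₂).1
    (repP_mem hb₂).2 ((d₁.symm.trans (hA.mono (pair_le_centralizer ht))).trans d₂)
  obtain ⟨e₁, he₁, f₁⟩ := B.rep_of_repP hb₁
  obtain ⟨e₂, he₂, f₂⟩ := B.rep_of_repP hb₂
  exact ⟨e₁, e₂, he₁, he₂, (f₁.symm.trans (hB.mono (pair_le_centralizer (Or.inl rfl)))).trans f₂⟩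

theorem Rel.symm {y x₁ x₂ : G} (h : Rel Z y x₁ x₂) : Rel Z y x₂ x₁ := by
  obtain ⟨q₁, q₂, h₁, h₂, hc⟩ := h
  exact ⟨q₂, q₁, h₂, h₁, hc.symm⟩

theorem Red.rel_trans (B : Red G Z Y) {y x₁ x₂ x₃ : G} (hy : y ∈ Y) (h : Rel Z y x₁ x₂)
    (h' : Rel Z y x₂ x₃) : Rel Z y x₁ x₃ := by
  obtain ⟨q₁, q₂, h₁, h₂, hc⟩ := h
  obtain ⟨r₂, r₃, k₂, k₃, hc'⟩ := h'
  exact ⟨q₁, r₃, h₁, k₃, (hc.trans (B.rep_unique hy h₂ k₂)).trans hc'⟩

theorem Red.rel_indep (B : Red G Z Y) (hY : ∀ a ∈ Y, ∀ b ∈ Y, Conn Y ⊤ a b) {y u x₁ x₂ : G}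
    (hy : y ∈ Y) (hu : u ∈ Y) (h : Rel Z y x₁ x₂) : Rel Z u x₁ x₂ := by
  have key : ∀ {v : G}, Conn Y ⊤ y v → ∀ a b, Edge Y a b → Four a b v → Rel Z a x₁ x₂ := by
    intro v hv
    induction hv with
    | refl =>
      intro a b e hab
      obtain ⟨m, hm, hne, hc⟩ := B.mate₂ y hy
      exact B.rel_transfer ⟨hy, hm, hne.symm, hc⟩ e (Or.inl rfl) hab h
    | tail _ hstep ih =>
      intro a b e hab
      obtain ⟨p, p', ep, -, -, hp, hp'⟩ := hstep
      exact B.rel_transfer ep e hp' hab (ih p p' ep hp)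
  obtain ⟨m, hm, hne, hc⟩ := B.mate₂ u hu
  exact key (hY y hy u hu) u m ⟨hu, hm, hne.symm, hc⟩ (Or.inl rfl)

theorem Red.exists_commuting (B : Red G Z Y) (hne : Y.Nonempty) {p p' : G} (e : Edge Z p p') :
    ∃ y ∈ Y, Commute p y ∧ Commute p' y := by
  obtain ⟨y₀, hy₀⟩ := hne
  have hP : IsPGroup 2 (four p p') := IsPGroup.of_card (n := 2)
    (by rw [card_four B.toBase.toCommSets e]; norm_num)
  obtain ⟨c, -, R, hR, hPR, hc⟩ := exists_conj_into (C := (⊤ : Subgroup G)) hP le_top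
    (isPGroup_zpowers_of_two (B.inv₂ y₀ hy₀)) le_top
  exact ⟨_, B.conj₂ c y₀ hy₀,
    B.comm R hR p e.left (hPR (left_mem_four _ _)) _ (B.conj₂ c y₀ hy₀) (hc y₀ (Subgroup.mem_zpowers _)),
    B.comm R hR p' e.right (hPR (right_mem_four _ _)) _ (B.conj₂ c y₀ hy₀)
      (hc y₀ (Subgroup.mem_zpowers _))⟩

/-- Members of edges sharing an element are related. -/
theorem Red.rel_share (B : Red G Z Y) (hY : ∀ a ∈ Y, ∀ b ∈ Y, Conn Y ⊤ a b) {u p p' q q' r x₁ x₂ : G}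
    (hu : u ∈ Y) (e : Edge Z p p') (e' : Edge Z q q') (hr : Four p p' r) (hr' : Four q q' r)
    (h₁ : x₁ = p ∨ x₁ = p') (h₂ : x₂ = q ∨ x₂ = q') : Rel Z u x₁ x₂ := by
  obtain ⟨y, hy, hpy, hp'y⟩ := B.exists_commuting ⟨u, hu⟩ e
  have hry : Commute r y := hr.commute hpy hp'y
  refine B.rel_indep hY hy hu ?_
  have hr1 := hr.ne_one B.toBase.toCommSets e
  have hqr : Commute q r := (hr'.commute (Commute.refl q) e'.comm.symm).symm
  have hq'r : Commute q' r := (hr'.commute e'.comm (Commute.refl q')).symm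
  -- move the second edge into the centralizer of `y`
  obtain ⟨d, hd, hyd, hdq, hdq'⟩ : ∃ d ∈ centralizerPPrimeCore 2 r, y * d * y⁻¹ = d⁻¹ ∧
      Commute (d * q * d⁻¹) y ∧ Commute (d * q' * d⁻¹) y := by
    have hdr : ∀ {d : G}, d ∈ centralizerPPrimeCore 2 r → d * r * d⁻¹ = r := fun hd => by
      rw [(commute_of_mem_core hd).eq, mul_inv_cancel_right]
    rcases eq_or_ne r q with rfl | hne
    · obtain ⟨d, hd, -, -, hyd, -, hc⟩ := B.toBase.exists_move hr1 e'.right hy hq'r hry.symm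
      exact ⟨d, hd, hyd, by rw [hdr hd]; exact hry, hc⟩
    · obtain ⟨d, hd, -, -, hyd, -, hc⟩ := B.toBase.exists_move hr1 e'.left hy hqr hry.symm
      refine ⟨d, hd, hyd, hc, ?_⟩
      rcases hr' with h | h | h
      · exact absurd h hne
      · rw [← h, hdr hd]; exact hry
      · have hqq := mul_self_of_orderOf_two (B.inv₁ q e'.left)
        have hq' : q' = q * r := by rw [h, ← mul_assoc, hqq, one_mul]
        rw [hq', show d * (q * r) * d⁻¹ = d * q * d⁻¹ * (d * r * d⁻¹) by group, hdr hd]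
        exact hc.mul_left hry
  obtain ⟨m, em, hm1, hm2⟩ := B.toBase.symm.mate_le hy e.left e.right hpy.symm hp'y.symm e.comm
  have qu : Quad Z Y p p' y m := ⟨e, em, hpy, hm1.symm, hp'y, hm2.symm⟩
  have e₁ := e'.conj B.toBase.toCommSets d
  have hdr : d * r * d⁻¹ = r := by rw [(commute_of_mem_core hd).eq, mul_inv_cancel_right]
  have hr₁ : Four (d * q * d⁻¹) (d * q' * d⁻¹) r := hdr ▸ hr'.conj d
  obtain ⟨m', em', hm1', hm2'⟩ :=
    B.toBase.symm.mate_le hy e₁.left e₁.right hdq.symm hdq'.symm e₁.comm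
  have qv : Quad Z Y (d * q * d⁻¹) (d * q' * d⁻¹) y m' := ⟨e₁, em', hdq, hm1'.symm, hdq', hm2'.symm⟩
  obtain ⟨z, hz, hzy, hx₂, hz4⟩ : ∃ z ∈ Z, Commute z y ∧ x₂ = d⁻¹ * z * d⁻¹⁻¹ ∧
      Four (d * q * d⁻¹) (d * q' * d⁻¹) z := by
    rcases h₂ with rfl | rfl
    · exact ⟨_, e₁.left, hdq, by group, Or.inl rfl⟩
    · exact ⟨_, e₁.right, hdq', by group, Or.inr (Or.inl rfl)⟩
  obtain ⟨v, hv, hvy, hx₁, hv4⟩ : ∃ v ∈ Z, Commute v y ∧ x₁ = v ∧ Four p p' v := by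
    rcases h₁ with rfl | rfl
    exacts [⟨_, e.left, hpy, rfl, Or.inl rfl⟩, ⟨_, e.right, hp'y, rfl, Or.inr (Or.inl rfl)⟩]
  refine ⟨v, z, by rw [hx₁]; exact Rep.refl hv hvy, ⟨hz, hzy, d⁻¹, inv_mem ?_, hx₂⟩, ?_⟩
  · rw [qv.qd_eq B.toBase hz4 (Or.inl rfl) (B.ne e₁ hz4 hy),
      ← qv.qd_eq B.toBase hr₁ (Or.inl rfl) (B.ne e₁ hr₁ hy)]
    exact Subgroup.subset_closure ⟨hyd, Or.inl hd⟩
  · exact (e.conn (mem_centralizer_single.2 hpy) (mem_centralizer_single.2 hp'y) hv4 hr).trans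
      (e₁.conn (mem_centralizer_single.2 hdq) (mem_centralizer_single.2 hdq') hr₁ hz4)

theorem Red.rel_all (B : Red G Z Y) (hZ : ∀ a ∈ Z, ∀ b ∈ Z, Conn Z ⊤ a b)
    (hY : ∀ a ∈ Y, ∀ b ∈ Y, Conn Y ⊤ a b) {y x₁ x₂ : G} (hy : y ∈ Y) (hx₁ : x₁ ∈ Z) (hx₂ : x₂ ∈ Z) :
    Rel Z y x₁ x₂ := by
  have key : ∀ {v : G}, Conn Z ⊤ x₁ v → ∀ a b, Edge Z a b → Four a b v → Rel Z y x₁ a := by
    intro v hv
    induction hv with
    | refl =>
      intro a b e hab
      obtain ⟨m, hm, hne, hc⟩ := B.mate₁ x₁ hx₁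
      exact B.rel_share hY hy ⟨hx₁, hm, hne.symm, hc⟩ e (Or.inl rfl) hab (Or.inl rfl) (Or.inl rfl)
    | tail _ hstep ih =>
      intro a b e hab
      obtain ⟨p, p', ep, -, -, hp, hp'⟩ := hstep
      exact B.rel_trans hy (ih p p' ep hp)
        (B.rel_share hY hy ep e hp' hab (Or.inl rfl) (Or.inl rfl))
  obtain ⟨m, hm, hne, hc⟩ := B.mate₁ x₂ hx₂
  exact key (hZ x₁ hx₁ x₂ hx₂) x₂ m ⟨hx₂, hm, hne.symm, hc⟩ (Or.inl rfl)

/-- The two classes commute. -/
theorem Red.commute (B : Red G Z Y) {x y : G} (hx : x ∈ Z) (hy : y ∈ Y) : Commute x y := by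
  rcases B.toBase.conn_top with hZ | h
  swap
  · exact h x hx y hy
  rcases B.toBase.symm.conn_top with hY | h
  swap
  · exact (h y hy x hx).symm
  have hy2 := B.inv₂ y hy
  have hyy := mul_self_of_orderOf_two hy2
  have hy1 := inv_of_orderOf_two hy2
  obtain ⟨q₀, d₀, hq₀, hq₀y, -, -, -⟩ := B.toBase.exists_rep hx hy
  obtain ⟨q', y', qu⟩ := B.toBase.exists_quad hq₀ hy hq₀y
  have hQodd : Odd (Nat.card (Qd q₀ y)) := (qu.odd_W B.toBase).of_dvd_nat
    (Subgroup.card_dvd_of_le (qu.qd_le B.toBase (Or.inl rfl) (Or.inl rfl) (B.ne qu.ez (Or.inl rfl) hy)))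
  have hconst : ∀ {v : G}, Conn Z (centralizer {y}) q₀ v → Qd v y = Qd q₀ y := by
    intro v hv
    induction hv with
    | refl => rfl
    | tail _ hstep ih =>
      obtain ⟨p, p', ep, hp, hp', ha, hb⟩ := hstep
      obtain ⟨m, em, h1, h2⟩ := B.toBase.symm.mate_le hy ep.left ep.right
        (mem_centralizer_single.1 hp).symm (mem_centralizer_single.1 hp').symm ep.comm
      have qa : Quad Z Y p p' y m :=
        ⟨ep, em, mem_centralizer_single.1 hp, h1.symm, mem_centralizer_single.1 hp', h2.symm⟩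
      rw [qa.qd_eq B.toBase hb (Or.inl rfl) (B.ne ep hb hy),
        ← qa.qd_eq B.toBase ha (Or.inl rfl) (B.ne ep ha hy), ih]
  -- every member of the first class normalizes the subgroup and is congruent modulo it
  have hgen : ∀ z ∈ Z, (∀ a ∈ Qd q₀ y, z * a * z⁻¹ ∈ Qd q₀ y) ∧ z * y * z⁻¹ * y ∈ Qd q₀ y := by
    intro z hz
    obtain ⟨q₁, q₂, h₁, ⟨hq, hqy, w, hw, rfl⟩, hc⟩ := B.rel_all hZ hY hy hq₀ hz
    rw [hconst ((B.rep_unique hy (Rep.refl hq₀ hq₀y) h₁).trans hc)] at hw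
    have hQ : Qd q₂ y = Qd q₀ y := hconst ((B.rep_unique hy (Rep.refl hq₀ hq₀y) h₁).trans hc)
    have hn : ∀ a ∈ Qd q₀ y, q₂ * a * q₂⁻¹ ∈ Qd q₀ y ∧ y * a * y⁻¹ ∈ Qd q₀ y := by
      intro a ha
      rw [← hQ] at ha ⊢
      exact Quad.qd_normal hqy ha
    constructor
    · intro a ha
      have h := mul_mem (mul_mem hw (hn _ (mul_mem (mul_mem (inv_mem hw) ha) hw)).1) (inv_mem hw)
      rwa [show w * (q₂ * (w⁻¹ * a * w) * q₂⁻¹) * w⁻¹ = w * q₂ * w⁻¹ * a * (w * q₂ * w⁻¹)⁻¹ by group] at h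
    · rw [inv_of_orderOf_two (B.inv₁ _ hz)]
      exact rep_commutator_mem (mul_self_of_orderOf_two (B.inv₁ q₂ hq)) hyy hqy
        (fun a ha => (hn a ha).1) (fun a ha => (hn a ha).2) hw
  obtain ⟨K, hK⟩ : ∃ K, K = Subgroup.closure Z := ⟨_, rfl⟩
  have hKn : K.Normal := hK ▸ ⟨fun v hv g => by
    induction hv using Subgroup.closure_induction with
    | mem v hv => exact Subgroup.subset_closure (B.conj₁ g v hv)
    | one => simp
    | mul a b _ _ ha hb => rw [show g * (a * b) * g⁻¹ = g * a * g⁻¹ * (g * b * g⁻¹) by group]; exact mul_mem ha hb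
    | inv a _ ha => rw [← conj_inv]; exact inv_mem ha⟩
  have hall : ∀ g ∈ K, (∀ a ∈ Qd q₀ y, g * a * g⁻¹ ∈ Qd q₀ y) ∧ g * y * g⁻¹ * y ∈ Qd q₀ y := by
    intro g hg
    rw [hK] at hg
    induction hg using Subgroup.closure_induction_right with
    | one => exact ⟨fun a ha => by simpa using ha, by simp [hyy]⟩
    | mul_right a _ b hb ih =>
      obtain ⟨h1, h2⟩ := hgen b hb
      refine ⟨fun v hv => ?_, ?_⟩
      · rw [show a * b * v * (a * b)⁻¹ = a * (b * v * b⁻¹) * a⁻¹ by group]; exact ih.1 _ (h1 v hv)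
      · have h := mul_mem (ih.1 _ h2) ih.2
        rwa [show a * (b * y * b⁻¹ * y) * a⁻¹ * (a * y * a⁻¹ * y) =
          a * b * y * (a * b)⁻¹ * (a * (y * y) * a⁻¹) * y by group, hyy, mul_one, mul_inv_cancel,
          mul_one] at h
    | mul_inv_cancel a _ b hb ih =>
      obtain ⟨h1, h2⟩ := hgen b hb
      rw [inv_of_orderOf_two (B.inv₁ b hb)]
      refine ⟨fun v hv => ?_, ?_⟩
      · rw [show a * b * v * (a * b)⁻¹ = a * (b * v * b⁻¹) * a⁻¹ by group]; exact ih.1 _ (h1 v hv)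
      · have h := mul_mem (ih.1 _ h2) ih.2
        rwa [show a * (b * y * b⁻¹ * y) * a⁻¹ * (a * y * a⁻¹ * y) =
          a * b * y * (a * b)⁻¹ * (a * (y * y) * a⁻¹) * y by group, hyy, mul_one, mul_inv_cancel,
          mul_one] at h
  obtain ⟨D, hD⟩ : ∃ D, D = Subgroup.closure ((fun g => g * y * g⁻¹ * y) '' (K : Set G)) := ⟨_, rfl⟩
  have hDQ : D ≤ Qd q₀ y := hD ▸ (Subgroup.closure_le _).2 (by rintro _ ⟨g, hg, rfl⟩; exact (hall g hg).2)
  have hDK : D ≤ K := hD ▸ (Subgroup.closure_le _).2 (by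
    rintro _ ⟨g, hg, rfl⟩
    show g * y * g⁻¹ * y ∈ K
    rw [mul_assoc g y g⁻¹, mul_assoc g (y * g⁻¹) y]
    refine mul_mem hg ?_
    have h := hKn.conj_mem g⁻¹ (inv_mem hg) y
    rwa [hy1] at h)
  have hbot := eq_bot_of_odd_normalized B.core_eq (K := K) hDK
    (hQodd.of_dvd_nat (Subgroup.card_dvd_of_le hDQ)) fun k hk d hd => by
      rw [hD] at hd ⊢
      induction hd using Subgroup.closure_induction with
      | mem d hd =>
        obtain ⟨g, hg, rfl⟩ := hd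
        rw [show k * (g * y * g⁻¹ * y) * k⁻¹ = (k * g * y * (k * g)⁻¹ * y) * (k * y * k⁻¹ * y)⁻¹ by
          have hyc : ∀ a : G, y * (y * a) = a := fun a => by rw [← mul_assoc, hyy, one_mul]
          simp [mul_assoc, hy1, hyc]]
        exact mul_mem (Subgroup.subset_closure ⟨k * g, mul_mem hk hg, rfl⟩)
          (inv_mem (Subgroup.subset_closure ⟨k, hk, rfl⟩))
      | one => simp
      | mul a b _ _ ha hb =>
        rw [show k * (a * b) * k⁻¹ = k * a * k⁻¹ * (k * b * k⁻¹) by group]; exact mul_mem ha hb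
      | inv a _ ha => rw [← conj_inv]; exact inv_mem ha
  have hmem : x * y * x⁻¹ * y ∈ D :=
    hD ▸ Subgroup.subset_closure ⟨x, hK ▸ Subgroup.subset_closure hx, rfl⟩
  rw [hbot, Subgroup.mem_bot] at hmem
  exact mul_inv_eq_iff_eq_mul.1 ((eq_inv_of_mul_eq_one_left hmem).trans hy1)

end Cfsg.Agent.Fus.ClosedPair
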