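import Mathlib
import Cfsg.Agent.Lib.Fus.ClosedPair.Graph
import Cfsg.Agent.Lib.Grp.PComponents

/-!
# Two commuting closed sets of involutions commute modulo the odd core

Reduction to the minimal situation, modulo the centralizer of the subgroup generated by the
elements of odd order.
-/

set_option autoImplicit false
set_option linter.unusedSectionVars false
set_option linter.style.haveILetI false

namespace Cfsg.Agent.Fus.ClosedPair

open Subgroup
open Cfsg.Agent.Invol (mul_self_of_orderOf_two inv_of_orderOf_two orderOf_two_iff)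

universe u

variable {G : Type u} [Group G] {K Y : Set G}

/-- The subgroup generated by the elements of odd order. -/
def oddGen (G : Type u) [Group G] : Subgroup G := Subgroup.closure {g | Odd (orderOf g)}

theorem oddGen_normal : (oddGen G).Normal :=
  ⟨fun v hv g => by
    induction hv using Subgroup.closure_induction with
    | mem v hv => exact Subgroup.subset_closure (by simpa [Invol.orderOf_conj_eq] using hv)
    | one => simp
    | mul a b _ _ ha hb =>
      rw [show g * (a * b) * g⁻¹ = g * a * g⁻¹ * (g * b * g⁻¹) by group]; exact mul_mem ha hb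
    | inv a _ ha => rw [← conj_inv]; exact inv_mem ha⟩

theorem odd_mem_oddGen {g : G} (h : Odd (orderOf g)) : g ∈ oddGen G := Subgroup.subset_closure h

theorem PairSets.pow_mem (H : PairSets G K Y) {r : G} (hr : r ∈ K) :
    ∀ n : ℕ, r ^ n = 1 ∨ r ^ n ∈ K := by
  obtain ⟨k, hk⟩ := (H.two r hr).2
  haveI : Fact (Nat.Prime 2) := ⟨Nat.prime_two⟩
  have hP : IsPGroup 2 (zpowers r) := Invol.isPGroup_zpowers hk
  intro n
  induction n with
  | zero => exact Or.inl (pow_zero r)
  | succ n ih =>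
    rw [pow_succ]
    rcases ih with h | h
    · rw [h, one_mul]; exact Or.inr hr
    · by_cases h1 : r ^ n * r = 1
      · exact Or.inl h1
      · exact Or.inr (H.mulK _ hP _ h (Subgroup.npow_mem_zpowers r n) r hr (Subgroup.mem_zpowers r) h1)

variable [Finite G]

theorem PairSets.inv_memK (H : PairSets G K Y) {r : G} (hr : r ∈ K) : r⁻¹ ∈ K := by
  have h : r⁻¹ = r ^ (orderOf r - 1) := inv_eq_of_mul_eq_one_right (by
    rw [← pow_succ', Nat.sub_add_cancel (orderOf_pos r), pow_orderOf_eq_one])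
  rcases H.pow_mem hr (orderOf r - 1) with h1 | h1
  · exact absurd (inv_eq_one.1 (h.trans h1)) (H.two r hr).1
  · rwa [h]

theorem eq_one_of_odd_two {x : G} {k : ℕ} (ho : Odd (orderOf x)) (h : x ^ 2 ^ k = 1) : x = 1 :=
  orderOf_eq_one_iff.1 (Nat.dvd_one.1 ((Nat.Coprime.pow_right k
    (Nat.coprime_two_right.2 ho)).dvd_of_dvd_mul_right (by simpa using orderOf_dvd_of_pow_eq_one h)))

theorem odd_card_of_forall {A : Subgroup G} (h : ∀ a ∈ A, Odd (orderOf a)) : Odd (Nat.card A) := by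
  by_contra hne
  obtain ⟨t, ht, ht2⟩ := Invol.exists_orderOf_two_mem (Nat.not_odd_iff_even.1 hne)
  exact absurd (h t ht) (by rw [ht2]; decide)

/-- The centralizer of the odd elements is a 2-group in a group with trivial core. -/
theorem centralizer_oddGen_two (hcore : Cfsg.pPrimeCore 2 G = ⊥) :
    IsPGroup 2 (centralizer (oddGen G : Set G)) := by
  have key : ∀ v ∈ centralizer (oddGen G : Set G), Odd (orderOf v) → v = 1 := by
    let A : Subgroup G :=
      { carrier := {v | v ∈ centralizer (oddGen G : Set G) ∧ Odd (orderOf v)}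
        one_mem' := ⟨one_mem _, by simp⟩
        mul_mem' := fun {a b} ha hb => ⟨mul_mem ha.1 hb.1, by
          have hc : Commute a b := (Subgroup.mem_centralizer_iff.1 ha.1 b (odd_mem_oddGen hb.2)).symm
          exact Odd.of_dvd_nat (ha.2.mul hb.2) (hc.orderOf_mul_dvd_mul_orderOf)⟩
        inv_mem' := fun {a} ha => ⟨inv_mem ha.1, by rw [orderOf_inv]; exact ha.2⟩ }
    have hn : A.Normal := ⟨fun v hv g => by
      haveI : (oddGen G).Normal := oddGen_normal
      exact ⟨(inferInstance : (centralizer (oddGen G : Set G)).Normal).conj_mem v hv.1 g,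
        by rw [Invol.orderOf_conj_eq]; exact hv.2⟩⟩
    have hA : A ≤ Cfsg.pPrimeCore 2 G :=
      Grp.le_pPrimeCore hn (Nat.coprime_two_right.2 (odd_card_of_forall fun a ha => ha.2))
    rw [hcore] at hA
    exact fun v hv ho => Subgroup.mem_bot.1 (hA ⟨hv, ho⟩)
  intro v
  obtain ⟨a, b, hb, hab⟩ := Nat.exists_eq_two_pow_mul_odd (orderOf_pos (v : G)).ne'
  refine ⟨a, Subtype.ext ?_⟩
  refine key _ (Subgroup.pow_mem _ v.2 _) ?_
  show Odd (orderOf ((v : G) ^ 2 ^ a))
  rw [orderOf_pow_of_dvd (by positivity) (hab ▸ dvd_mul_right _ _), hab, Nat.mul_div_cancel_left _ (by positivity)]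
  exact hb

/-- Modulo that centralizer the centre and the core are trivial. -/
theorem center_quotient_oddGen (hcore : Cfsg.pPrimeCore 2 G = ⊥) {g : G}
    (hg : ∀ e : G, g * e * g⁻¹ * e⁻¹ ∈ centralizer (oddGen G : Set G)) :
    g ∈ centralizer (oddGen G : Set G) := by
  have h2 := centralizer_oddGen_two hcore
  have key : oddGen G ≤ centralizer ({g} : Set G) := (Subgroup.closure_le _).2 fun e he => by
    obtain ⟨c, hc⟩ : ∃ c, c = g * e * g⁻¹ * e⁻¹ := ⟨_, rfl⟩
    have hcU : c ∈ centralizer (oddGen G : Set G) := hc ▸ hg e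
    have hce : Commute c e := (Subgroup.mem_centralizer_iff.1 hcU e (odd_mem_oddGen he)).symm
    have hge : g * e * g⁻¹ = c * e := by rw [hc, inv_mul_cancel_right]
    obtain ⟨k, hk⟩ := h2 ⟨c, hcU⟩
    have hcn : c ^ orderOf e = 1 := by
      have := congrArg (· ^ orderOf e) hge
      simp only [conj_pow, pow_orderOf_eq_one, mul_one, mul_inv_cancel, hce.mul_pow] at this
      exact this.symm
    have hc1 : c = 1 := eq_one_of_odd_two (he.of_dvd_nat (orderOf_dvd_of_pow_eq_one hcn))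
      (congrArg Subtype.val hk)
    rw [hc1, one_mul] at hge
    exact Subgroup.mem_centralizer_singleton_iff.2 (mul_inv_eq_iff_eq_mul.1 hge).symm
  exact Subgroup.mem_centralizer_iff.2 fun e he => Subgroup.mem_centralizer_singleton_iff.1 (key he)

theorem core_quotient_oddGen (hcore : Cfsg.pPrimeCore 2 G = ⊥) [(centralizer (oddGen G : Set G)).Normal] :
    Cfsg.pPrimeCore 2 (G ⧸ centralizer (oddGen G : Set G)) = ⊥ := by
  set U := centralizer (oddGen G : Set G) with hU
  have h2 := centralizer_oddGen_two hcore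
  haveI : (oddGen G).Normal := oddGen_normal
  haveI : (Cfsg.pPrimeCore 2 (G ⧸ U)).Normal := Grp.pPrimeCore_isNormal
  set N := (Cfsg.pPrimeCore 2 (G ⧸ U)).comap (QuotientGroup.mk' U) with hN
  set A := N ⊓ oddGen G with hA
  have hodd : Odd (Nat.card ↥(Cfsg.pPrimeCore 2 (G ⧸ U))) := Invol.odd_oddCore
  -- the image of `A` is odd, its intersection with `U` is central and a 2-group
  set f : ↥A →* G ⧸ U := (QuotientGroup.mk' U).comp A.subtype with hf
  have hker : IsPGroup 2 f.ker := by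
    intro v
    obtain ⟨k, hk⟩ := h2 ⟨((v : ↥A) : G), (QuotientGroup.eq_one_iff _).1 v.2⟩
    exact ⟨k, Subtype.ext (Subtype.ext (congrArg Subtype.val hk :))⟩
  have hidx : Odd f.ker.index := by
    rw [Subgroup.index_ker]
    refine hodd.of_dvd_nat (Subgroup.card_dvd_of_le ?_)
    rintro _ ⟨v, rfl⟩
    exact v.2.1
  haveI : Fact (Nat.Prime 2) := ⟨Nat.prime_two⟩
  have hcop : (Nat.card f.ker).Coprime f.ker.index := by
    obtain ⟨k, hk⟩ := hker.exists_card_eq
    rw [hk]
    exact Nat.Coprime.pow_left _ (Nat.coprime_two_left.2 hidx)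
  obtain ⟨C, hC⟩ := Subgroup.exists_right_complement'_of_coprime hcop
  have hCodd : Odd (Nat.card C) := by rw [← hC.symm.index_eq_card]; exact hidx
  have hchar : ∀ v : ↥A, Odd (orderOf v) → v ∈ C := by
    intro v hv
    obtain ⟨⟨⟨b, hb⟩, ⟨c, hc⟩⟩, hbc⟩ := hC.2 v
    simp only at hbc
    have hcomm : Commute b c := by
      refine Subtype.ext ?_
      exact (Subgroup.mem_centralizer_iff.1 ((QuotientGroup.eq_one_iff _).1 hb) (c : G) c.2.2).symm
    obtain ⟨k, hk⟩ := hker ⟨b, hb⟩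
    have hk' : b ^ 2 ^ k = 1 := congrArg Subtype.val hk
    have hbo : Odd (orderOf b) := by
      have hn : b ^ (orderOf v * Nat.card C) = 1 := by
        have h1 : (b * c) ^ (orderOf v * Nat.card C) = 1 := by
          rw [hbc, pow_mul, pow_orderOf_eq_one, one_pow]
        rw [hcomm.mul_pow] at h1
        have hcn : c ^ Nat.card C = 1 := congrArg Subtype.val (pow_card_eq_one' (x := (⟨c, hc⟩ : C)))
        rwa [mul_comm (orderOf v) (Nat.card C), pow_mul c, hcn, one_pow, mul_one, mul_comm] at h1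
      exact (hv.mul hCodd).of_dvd_nat (orderOf_dvd_of_pow_eq_one hn)
    rw [← hbc, eq_one_of_odd_two hbo hk', one_mul]
    exact hc
  have hCn : (C.map A.subtype).Normal := ⟨fun v hv g => by
    obtain ⟨c, hc, rfl⟩ := hv
    have hmem : g * (c : G) * g⁻¹ ∈ A := (inferInstance : A.Normal).conj_mem _ c.2 g
    refine ⟨⟨_, hmem⟩, hchar _ ?_, rfl⟩
    rw [Subgroup.orderOf_mk, Invol.orderOf_conj_eq, Subgroup.orderOf_coe]
    exact hCodd.of_dvd_nat (Subgroup.orderOf_dvd_natCard _ hc)⟩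
  have hCbot : C.map A.subtype ≤ ⊥ := hcore ▸ Grp.le_pPrimeCore hCn (Nat.coprime_two_right.2
    (by rwa [Subgroup.card_map_of_injective A.subtype_injective]))
  have hN2 : ∀ n ∈ N, Odd (orderOf n) → n = 1 := fun n hn ho => by
    have : (⟨n, hn, odd_mem_oddGen ho⟩ : ↥A) ∈ C := hchar _ (by rw [← Subgroup.orderOf_coe]; exact ho)
    exact Subgroup.mem_bot.1 (hCbot ⟨_, this, rfl⟩)
  rw [Subgroup.eq_bot_iff_forall]
  intro q hq
  obtain ⟨n, rfl⟩ := QuotientGroup.mk'_surjective U q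
  obtain ⟨a, b, hb, hab⟩ := Nat.exists_eq_two_pow_mul_odd (orderOf_pos n).ne'
  have hn1 : n ^ 2 ^ a = 1 := hN2 _ (Subgroup.pow_mem _ hq _) (by
    rw [orderOf_pow_of_dvd (by positivity) (hab ▸ dvd_mul_right _ _), hab,
      Nat.mul_div_cancel_left _ (by positivity)]
    exact hb)
  exact eq_one_of_odd_two (odd_orderOf_of_mem hodd hq) (by rw [← map_pow, hn1, map_one])

theorem map_coreIn_le {G' : Type*} [Group G'] (f : G →* G') (hs : Function.Surjective f)
    (M : Subgroup G') {v : ↥(M.comap f)} (hv : v ∈ Cfsg.pPrimeCore 2 ↥(M.comap f)) :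
    f (v : G) ∈ coreIn M := by
  let F : ↥(M.comap f) →* ↥M :=
    { toFun := fun x => ⟨f (x : G), x.2⟩
      map_one' := Subtype.ext (map_one f)
      map_mul' := fun a b => Subtype.ext (map_mul f (a : G) (b : G)) }
  have hF : Function.Surjective F := fun p => by
    obtain ⟨x, hx⟩ := hs p
    exact ⟨⟨x, Subgroup.mem_comap.2 (hx ▸ p.2)⟩, Subtype.ext hx⟩
  haveI : Finite G' := Finite.of_surjective f hs
  refine ⟨F v, Grp.le_pPrimeCore ((Grp.pPrimeCore_isNormal).map F hF) ?_ (Subgroup.mem_map_of_mem _ hv), rfl⟩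
  exact (Grp.pPrimeCore_coprime (p := 2)).coprime_dvd_left (Subgroup.card_map_dvd (f := F) _)

/-- Closed commuting sets of involutions commute modulo the odd core. -/
theorem PairSets.mem_core_aux : ∀ (n : ℕ) (G : Type u) [Group G] [Finite G], Nat.card G = n →
    ∀ (K Y : Set G), PairSets G K Y → ∀ x ∈ K, orderOf x = 2 → ∀ y ∈ Y,
      x * y * x * y ∈ Cfsg.pPrimeCore 2 G := by
  intro n
  induction n using Nat.strong_induction_on with
  | _ n ih =>
  intro G _ _ hn K Y H x hx hx2 y hy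
  haveI hON : (Cfsg.pPrimeCore 2 G).Normal := Grp.pPrimeCore_isNormal
  haveI : Fact (Nat.Prime 2) := ⟨Nat.prime_two⟩
  by_cases hO : Cfsg.pPrimeCore 2 G = ⊥
  swap
  · have hlt : Nat.card (G ⧸ Cfsg.pPrimeCore 2 G) < n := hn ▸ by
      refine lt_of_le_of_ne (Nat.le_of_dvd Nat.card_pos (Subgroup.card_quotient_dvd_card _)) fun e => hO ?_
      have := Subgroup.card_eq_card_quotient_mul_card_subgroup (Cfsg.pPrimeCore 2 G)
      rw [e] at this
      exact Subgroup.eq_bot_of_card_eq _ (mul_eq_left₀ Nat.card_pos.ne' |>.1 this.symm)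
    have hk : Odd (Nat.card (QuotientGroup.mk' (Cfsg.pPrimeCore 2 G)).ker) := by
      rw [QuotientGroup.ker_mk']; exact Invol.odd_oddCore
    have H' := H.map _ hk (QuotientGroup.mk'_surjective _)
    have hx' : orderOf (QuotientGroup.mk' (Cfsg.pPrimeCore 2 G) x) = 2 := orderOf_two_iff.2
      ⟨by rw [← map_mul, mul_self_of_orderOf_two hx2, map_one], (H'.two _ ⟨x, hx, rfl⟩).1⟩
    have h := ih _ hlt _ rfl _ _ H' _ ⟨x, hx, rfl⟩ hx' _ ⟨y, hy, rfl⟩
    rw [Grp.pPrimeCore_quotient_bot, Subgroup.mem_bot, ← map_mul, ← map_mul, ← map_mul] at h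
    exact (QuotientGroup.eq_one_iff _).1 h
  rw [hO, Subgroup.mem_bot]
  by_contra hfail
  have hnc : ¬ Commute x y := fun h => hfail (by
    rw [show x * y * x * y = x * (y * x) * y by group, ← h.eq,
      show x * (x * y) * y = x * x * (y * y) by group, mul_self_of_orderOf_two hx2,
      mul_self_of_orderOf_two (H.inv₂ y hy), one_mul])
  haveI hEn : (oddGen G).Normal := oddGen_normal
  -- the whole group is generated over the odd elements by the pair
  have hgen : oddGen G ⊔ Subgroup.closure ({x, y} : Set G) = ⊤ := by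
    by_contra hM
    set M := oddGen G ⊔ Subgroup.closure ({x, y} : Set G)
    have hxM : x ∈ M := Subgroup.mem_sup_right (Subgroup.subset_closure (Set.mem_insert _ _))
    have hyM : y ∈ M := Subgroup.mem_sup_right (Subgroup.subset_closure (Set.mem_insert_of_mem _ rfl))
    have h := ih _ (hn ▸ Grp.card_lt_of_ne_top hM) ↥M rfl _ _ (H.subgroup M) ⟨x, hxM⟩ hx
      (by rw [← Subgroup.orderOf_coe]; exact hx2) ⟨y, hyM⟩ hy
    have hmem : x * y * x * y ∈ coreIn M := ⟨_, h, rfl⟩
    have hbot := eq_bot_of_odd_normalized hO (K := oddGen G) (D := coreIn M ⊓ oddGen G) inf_le_right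
      ((odd_coreIn M).of_dvd_nat (Subgroup.card_dvd_of_le inf_le_left)) fun k hk d hd => by
        obtain ⟨⟨w, hw, rfl⟩, hd2⟩ := hd
        exact ⟨⟨_, (Grp.pPrimeCore_isNormal).conj_mem w hw ⟨k, Subgroup.mem_sup_left hk⟩, rfl⟩,
          hEn.conj_mem _ hd2 k⟩
    exact hfail (Subgroup.mem_bot.1 (hbot ▸ (⟨hmem, odd_mem_oddGen
      (odd_orderOf_of_mem (odd_coreIn M) hmem)⟩ : x * y * x * y ∈ coreIn M ⊓ oddGen G)))
  -- modulo the odd elements the pair commutes
  have hab : ∀ v ∈ ({x, y} : Set G), ∀ g : G, g * v * g⁻¹ * v⁻¹ ∈ oddGen G := by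
    obtain ⟨d, -, -, -, hdc, hdo, -⟩ := H.exists_conj (x := x) (y := y) ⟨hx, hx2⟩ hy
    have hd : QuotientGroup.mk' (oddGen G) d = 1 := (QuotientGroup.eq_one_iff _).2 (odd_mem_oddGen hdo)
    have hxy : Commute (QuotientGroup.mk' (oddGen G) x) (QuotientGroup.mk' (oddGen G) y) := by
      have h := hdc.map (QuotientGroup.mk' (oddGen G))
      rwa [map_mul, map_mul, map_inv, hd, one_mul, inv_one, mul_one] at h
    have htop : (centralizer ({QuotientGroup.mk' (oddGen G) x, QuotientGroup.mk' (oddGen G) y} :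
        Set (G ⧸ oddGen G))).comap (QuotientGroup.mk' (oddGen G)) = ⊤ := by
      rw [eq_top_iff, ← hgen]
      refine sup_le (fun e he => ?_) ((Subgroup.closure_le _).2 ?_)
      · rw [Subgroup.mem_comap, show QuotientGroup.mk' (oddGen G) e = 1 from (QuotientGroup.eq_one_iff _).2 he]
        exact one_mem _
      · rintro v (rfl | rfl)
        exacts [cen_pair.2 ⟨Commute.refl _, hxy⟩, cen_pair.2 ⟨hxy.symm, Commute.refl _⟩]
    intro v hv g
    have h := cen_pair.1 (Subgroup.mem_comap.1 (htop.ge (Subgroup.mem_top g)))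
    have hc : Commute (QuotientGroup.mk' (oddGen G) g) (QuotientGroup.mk' (oddGen G) v) := by
      rcases hv with rfl | rfl
      exacts [h.1, h.2]
    refine (QuotientGroup.eq_one_iff _).1 ?_
    show QuotientGroup.mk' (oddGen G) (g * v * g⁻¹ * v⁻¹) = 1
    rw [map_mul, map_mul, map_mul, map_inv, map_inv, hc.eq, mul_inv_cancel_right, mul_inv_cancel]
  set U := centralizer (oddGen G : Set G) with hUdef
  haveI hUn : U.Normal := inferInstance
  have hU2 : IsPGroup 2 U := centralizer_oddGen_two hO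
  -- two-groups over `U`
  have hlift : ∀ P : Subgroup (G ⧸ U), IsPGroup 2 P → IsPGroup 2 (P.comap (QuotientGroup.mk' U)) :=
    fun P hP => hP.comap_of_ker_isPGroup _ (by rwa [QuotientGroup.ker_mk'])
  let CX : Set G := {v | ∃ g : G, g * x * g⁻¹ = v}
  let CY : Set G := {v | ∃ g : G, g * y * g⁻¹ = v}
  have hCX : ∀ v ∈ CX, v ∈ K ∧ orderOf v = 2 := by
    rintro _ ⟨g, rfl⟩; exact ⟨H.conjK g x hx, (Invol.orderOf_conj_eq g x).trans hx2⟩
  have hCY : ∀ v ∈ CY, v ∈ Y := by rintro _ ⟨g, rfl⟩; exact H.conj₂ g y hy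
  set π := QuotientGroup.mk' U with hπ
  have hπs : Function.Surjective π := QuotientGroup.mk'_surjective U
  -- the products that isolate a member of the second set
  have key : ∀ {p b r : G}, p ∈ CX → b ∈ CY → r ∈ K → Commute r b → Commute p b →
      p * r * p⁻¹ = r⁻¹ → r * b ∈ U → False := by
    intro p b r hp hb hr hrb hpb hpr hu
    obtain ⟨u, hu'⟩ : ∃ u, u = r * b := ⟨_, rfl⟩
    rw [← hu'] at hu
    have hb2 := H.inv₂ b (hCY b hb)
    have hub : Commute u b := hu' ▸ hrb.mul_left (Commute.refl b)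
    have hpu : p * u * p⁻¹ = u⁻¹ := by
      rw [hu', show p * (r * b) * p⁻¹ = p * r * p⁻¹ * (p * b * p⁻¹) by group, hpr, hpb.eq,
        mul_inv_cancel_right, _root_.mul_inv_rev, inv_of_orderOf_two hb2, hrb.inv_left.eq]
    let S : Subgroup G :=
      { carrier := {g | g * u * g⁻¹ = u ∨ g * u * g⁻¹ = u⁻¹}
        one_mem' := Or.inl (by group)
        mul_mem' := fun {a c} ha hc => by
          simp only [Set.mem_ofPred_eq] at ha hc ⊢
          rw [show a * c * u * (a * c)⁻¹ = a * (c * u * c⁻¹) * a⁻¹ by group]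
          rcases hc with h | h <;> rw [h]
          · exact ha
          · rw [← conj_inv]
            rcases ha with h' | h' <;> rw [h']
            · exact Or.inr rfl
            · exact Or.inl (inv_inv u)
        inv_mem' := fun {a} ha => by
          simp only [Set.mem_ofPred_eq] at ha ⊢
          rcases ha with h | h
          · left
            nth_rewrite 1 [← h]
            group
          · right
            have h' : u = (a * u * a⁻¹)⁻¹ := by rw [h, inv_inv]
            nth_rewrite 1 [h']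
            group }
    have hS : S = ⊤ := by
      rw [eq_top_iff, ← hgen]
      have hES : oddGen G ≤ S := fun e he => Or.inl (by
        rw [Subgroup.mem_centralizer_iff.1 hu e he, mul_inv_cancel_right])
      refine sup_le hES ((Subgroup.closure_le _).2 ?_)
      obtain ⟨g, rfl⟩ := hp
      obtain ⟨h, rfl⟩ := hb
      refine Set.insert_subset ?_ (Set.singleton_subset_iff.2 ?_)
      · have h1 : g * x * g⁻¹ ∈ S := Or.inr hpu
        have h2 : (g * x * g⁻¹ * x⁻¹)⁻¹ * (g * x * g⁻¹) ∈ S :=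
          mul_mem (inv_mem (hES (hab x (Set.mem_insert _ _) g))) h1
        rwa [show (g * x * g⁻¹ * x⁻¹)⁻¹ * (g * x * g⁻¹) = x by group] at h2
      · have h1 : h * y * h⁻¹ ∈ S := Or.inl (by rw [← hub.eq, mul_inv_cancel_right])
        have h2 : (h * y * h⁻¹ * y⁻¹)⁻¹ * (h * y * h⁻¹) ∈ S :=
          mul_mem (inv_mem (hES (hab y (Set.mem_insert_of_mem _ rfl) h))) h1
        rwa [show (h * y * h⁻¹ * y⁻¹)⁻¹ * (h * y * h⁻¹) = y by group] at h2
    have hiso : IsIsolatedInvolution b := by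
      refine ⟨hb2, fun g hc => ?_⟩
      by_contra hne
      obtain ⟨b₁, hb₁⟩ : ∃ b₁, b₁ = g * b * g⁻¹ := ⟨_, rfl⟩
      rw [← hb₁] at hc hne
      have hb₁Y : b₁ ∈ Y := hb₁ ▸ H.conj₂ g b (hCY b hb)
      have hub₁ : Commute u b₁ := by
        have h1 : Commute (g⁻¹ * u * g⁻¹⁻¹) b := by
          rcases (hS ▸ Subgroup.mem_top g⁻¹ : g⁻¹ ∈ S) with h | h <;> rw [h]
          exacts [hub, hub.inv_left]
        have h2 := commute_conj h1 g
        rwa [show g * (g⁻¹ * u * g⁻¹⁻¹) * g⁻¹ = u by group, ← hb₁] at h2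
      have hP : IsPGroup 2 ↥(U ⊔ Subgroup.closure ({b, b₁} : Set G)) := by
        refine hU2.to_sup_of_normal_left ?_
        refine Invol.isPGroup_closure_pair (a := 1) hb2 (H.inv₂ _ hb₁Y) ?_
        rw [pow_one]
        refine orderOf_two_iff.2 ⟨?_, Invol.mul_ne_one_of_ne hb2 (Ne.symm hne)⟩
        rw [show b * b₁ * (b * b₁) = b * (b₁ * b) * b₁ by group, ← hc.eq,
          show b * (b * b₁) * b₁ = b * b * (b₁ * b₁) by group, mul_self_of_orderOf_two hb2,
          mul_self_of_orderOf_two (H.inv₂ _ hb₁Y), one_mul]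
      have huP : u ∈ U ⊔ Subgroup.closure ({b, b₁} : Set G) := Subgroup.mem_sup_left hu
      have hbP : b ∈ U ⊔ Subgroup.closure ({b, b₁} : Set G) :=
        Subgroup.mem_sup_right (Subgroup.subset_closure (Set.mem_insert _ _))
      have hb₁P : b₁ ∈ U ⊔ Subgroup.closure ({b, b₁} : Set G) :=
        Subgroup.mem_sup_right (Subgroup.subset_closure (Set.mem_insert_of_mem _ rfl))
      have hr' : r = u * b := by rw [hu', mul_assoc, mul_self_of_orderOf_two hb2, mul_one]
      have hrP : r ∈ U ⊔ Subgroup.closure ({b, b₁} : Set G) := hr' ▸ mul_mem huP hbP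
      have hr₁ : g * r * g⁻¹ = g * u * g⁻¹ * b₁ := by rw [hr', hb₁]; group
      have hprod : b₁ * b ∈ K := by
        have hne1 : b₁ * b ≠ 1 := Invol.mul_ne_one_of_ne (H.inv₂ _ hb₁Y) hne
        rcases (hS ▸ Subgroup.mem_top g : g ∈ S) with h | h <;> rw [h] at hr₁
        · have e : g * r * g⁻¹ * r⁻¹ = b₁ * b := by
            rw [hr₁, hr', _root_.mul_inv_rev, inv_of_orderOf_two hb2,
              show u * b₁ * (b * u⁻¹) = u * (b₁ * b) * u⁻¹ by group,
              (hub₁.mul_right hub).eq, mul_inv_cancel_right]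
          rw [← e] at hne1 ⊢
          exact H.mulK _ hP _ (H.conjK g r hr) (hr₁ ▸ mul_mem huP hb₁P) _ (H.inv_memK hr)
            (inv_mem hrP) hne1
        · have e : g * r * g⁻¹ * r = b₁ * b := by
            rw [hr₁, hr', show u⁻¹ * b₁ * (u * b) = u⁻¹ * (b₁ * u) * b by group, ← hub₁.eq]
            group
          rw [← e] at hne1 ⊢
          exact H.mulK _ hP _ (H.conjK g r hr) (hr₁ ▸ mul_mem (inv_mem huP) hb₁P) _ hr hrP hne1
      exact H.disjK _ hprod (H.mul₂ b₁ hb₁Y b (hCY b hb) hne hc.symm)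
    have hcent : ∀ g : G, Commute b g := fun g => by
      have h := Invol.isolated_commutator_mem hiso g
      rw [hO, Subgroup.mem_bot, mul_inv_eq_one, mul_inv_eq_iff_eq_mul] at h
      exact h
    obtain ⟨g, rfl⟩ := hb
    have := commute_conj (hcent (g * x * g⁻¹)) g⁻¹
    rw [show g⁻¹ * (g * y * g⁻¹) * g⁻¹⁻¹ = y by group,
      show g⁻¹ * (g * x * g⁻¹) * g⁻¹⁻¹ = x by group] at this
    exact hnc this.symm
  have hyCY : y ∈ CY := ⟨1, by group⟩
  have hxCX : x ∈ CX := ⟨1, by group⟩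
  have hnotU : ∀ v : G, v ∈ U → (v ∈ CX → False) ∧ (v ∈ CY → False) := by
    intro v hv
    constructor
    · rintro ⟨g, rfl⟩
      have hxU : x ∈ U := by
        have := hUn.conj_mem _ hv g⁻¹
        rwa [show g⁻¹ * (g * x * g⁻¹) * g⁻¹⁻¹ = x by group] at this
      exact hnc (H.comm (U ⊔ zpowers y) (hU2.to_sup_of_normal_left (isPGroup_zpowers_of_two (H.inv₂ y hy)))
        x ⟨hx, hx2⟩ (Subgroup.mem_sup_left hxU) y hy (Subgroup.mem_sup_right (Subgroup.mem_zpowers y)))
    · rintro ⟨g, rfl⟩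
      have hyU : y ∈ U := by
        have := hUn.conj_mem _ hv g⁻¹
        rwa [show g⁻¹ * (g * y * g⁻¹) * g⁻¹⁻¹ = y by group] at this
      exact hnc (H.comm (U ⊔ zpowers x) (hU2.to_sup_of_normal_left (isPGroup_zpowers_of_two hx2))
        x ⟨hx, hx2⟩ (Subgroup.mem_sup_right (Subgroup.mem_zpowers x)) y hy (Subgroup.mem_sup_left hyU))
  have hinv₁ : ∀ v ∈ CX, orderOf (π v) = 2 := fun v hv => orderOf_two_iff.2
    ⟨by rw [← map_mul, mul_self_of_orderOf_two (hCX v hv).2, map_one],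
      fun e => (hnotU v ((QuotientGroup.eq_one_iff _).1 e)).1 hv⟩
  have hinv₂ : ∀ v ∈ CY, orderOf (π v) = 2 := fun v hv => orderOf_two_iff.2
    ⟨by rw [← map_mul, mul_self_of_orderOf_two (H.inv₂ v (hCY v hv)), map_one],
      fun e => (hnotU v ((QuotientGroup.eq_one_iff _).1 e)).2 hv⟩
  have hcomm : ∀ P : Subgroup (G ⧸ U), IsPGroup 2 P → ∀ v ∈ CX, π v ∈ P → ∀ w ∈ CY, π w ∈ P →
      Commute v w := fun P hP v hv hvP w hw hwP =>
    H.comm _ (hlift P hP) v (hCX v hv) (Subgroup.mem_comap.2 hvP) w (hCY w hw) (Subgroup.mem_comap.2 hwP)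
  have hmate : ∀ (v : G), orderOf (π v) = 2 →
      ∃ g : G, π (g * v * g⁻¹) ≠ π v ∧ Commute (π v) (π (g * v * g⁻¹)) := by
    intro v hv
    by_contra hne
    push Not at hne
    have hiso : IsIsolatedInvolution (π v) := ⟨hv, fun q hq => by
      obtain ⟨g, rfl⟩ := hπs q
      rw [← map_inv, ← map_mul, ← map_mul] at hq ⊢
      by_contra h
      exact hne g h hq⟩
    refine (orderOf_two_iff.1 hv).2 ((QuotientGroup.eq_one_iff _).2 (center_quotient_oddGen hO fun e => ?_))
    have h := Invol.isolated_commutator_mem hiso (π e)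
    rw [core_quotient_oddGen hO, Subgroup.mem_bot, ← map_inv, ← map_inv, ← map_mul, ← map_mul,
      ← map_mul] at h
    exact (QuotientGroup.eq_one_iff _).1 h
  have B : Red (G ⧸ U) (π '' CX) (π '' CY) := by
    refine ⟨⟨⟨?_, ?_, ?_, ?_, ?_, ?_⟩, core_quotient_oddGen hO, ?_, ?_, ?_, ?_, ?_, ?_⟩, ?_⟩
    · rintro _ ⟨v, hv, rfl⟩; exact hinv₁ v hv
    · rintro _ ⟨v, hv, rfl⟩; exact hinv₂ v hv
    · rintro q _ ⟨_, ⟨g, rfl⟩, rfl⟩
      obtain ⟨h, rfl⟩ := hπs q
      exact ⟨h * g * x * (h * g)⁻¹, ⟨h * g, rfl⟩, by simp [mul_assoc]⟩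
    · rintro q _ ⟨_, ⟨g, rfl⟩, rfl⟩
      obtain ⟨h, rfl⟩ := hπs q
      exact ⟨h * g * y * (h * g)⁻¹, ⟨h * g, rfl⟩, by simp [mul_assoc]⟩
    · rintro _ ⟨p, hp, rfl⟩ ⟨b, hb, e⟩
      have hpb := hcomm (zpowers (π p)) (isPGroup_zpowers_of_two (hinv₁ p hp)) p hp
        (Subgroup.mem_zpowers _) b hb (e ▸ Subgroup.mem_zpowers _)
      refine key hp hb (hCX p hp).1 hpb hpb ?_ ((QuotientGroup.eq_one_iff _).1 ?_)
      · rw [mul_inv_cancel_right, inv_of_orderOf_two (hCX p hp).2]
      · show π (p * b) = 1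
        rw [map_mul, e, mul_self_of_orderOf_two (hinv₁ p hp)]
    · rintro P hP _ ⟨v, hv, rfl⟩ hvP _ ⟨w, hw, rfl⟩ hwP
      exact (hcomm P hP v hv hvP w hw hwP).map π
    · rw [Subgroup.eq_bot_iff_forall]
      intro q hq
      obtain ⟨g, rfl⟩ := hπs q
      refine (QuotientGroup.eq_one_iff _).2 (center_quotient_oddGen hO fun e => (QuotientGroup.eq_one_iff _).1 ?_)
      show π (g * e * g⁻¹ * e⁻¹) = 1
      rw [map_mul, map_mul, map_mul, map_inv, map_inv, ← Subgroup.mem_center_iff.1 hq (π e),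
        mul_inv_cancel_right, mul_inv_cancel]
    · rintro M hM _ ⟨v, hv, rfl⟩ _ ⟨w, hw, rfl⟩ hvM hwM
      have hne : M.comap π ≠ ⊤ := fun e => hM (Subgroup.comap_injective hπs (e.trans (Subgroup.comap_top π).symm))
      have h := ih _ (hn ▸ Grp.card_lt_of_ne_top hne) ↥(M.comap π) rfl _ _ (H.subgroup _) ⟨v, hvM⟩
        (hCX v hv).1 (by rw [← Subgroup.orderOf_coe]; exact (hCX v hv).2) ⟨w, hwM⟩ (hCY w hw)
      simpa using map_coreIn_le π hπs M h
    · rintro _ ⟨_, ⟨g, rfl⟩, rfl⟩ _ ⟨_, ⟨h, rfl⟩, rfl⟩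
      exact ⟨π (h * g⁻¹), by simp [mul_assoc]⟩
    · rintro _ ⟨_, ⟨g, rfl⟩, rfl⟩ _ ⟨_, ⟨h, rfl⟩, rfl⟩
      exact ⟨π (h * g⁻¹), by simp [mul_assoc]⟩
    · rintro _ ⟨v, hv, rfl⟩
      obtain ⟨g, h1, h2⟩ := hmate v (hinv₁ v hv)
      obtain ⟨h, rfl⟩ := hv
      exact ⟨_, ⟨_, ⟨g * h, by group⟩, rfl⟩, h1, h2⟩
    · rintro _ ⟨v, hv, rfl⟩
      obtain ⟨g, h1, h2⟩ := hmate v (hinv₂ v hv)
      obtain ⟨h, rfl⟩ := hv
      exact ⟨_, ⟨_, ⟨g * h, by group⟩, rfl⟩, h1, h2⟩
    · rintro _ _ ⟨⟨p, hp, rfl⟩, ⟨p', hp', rfl⟩, hne, hc⟩ ⟨b, hb, e⟩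
      have hP : IsPGroup 2 (Subgroup.closure ({π p, π p'} : Set (G ⧸ U))) := by
        refine Invol.isPGroup_closure_pair (a := 1) (hinv₁ p hp) (hinv₁ p' hp') ?_
        rw [pow_one, ← e]
        exact hinv₂ b hb
      have h1 : π p ∈ Subgroup.closure ({π p, π p'} : Set (G ⧸ U)) := Subgroup.subset_closure (Set.mem_insert _ _)
      have h2 : π p' ∈ Subgroup.closure ({π p, π p'} : Set (G ⧸ U)) :=
        Subgroup.subset_closure (Set.mem_insert_of_mem _ rfl)
      have hb' : π b ∈ Subgroup.closure ({π p, π p'} : Set (G ⧸ U)) := e ▸ mul_mem h1 h2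
      have hpb := hcomm _ hP p hp h1 b hb hb'
      have hp'b := hcomm _ hP p' hp' h2 b hb hb'
      have hppne : p * p' ≠ 1 := fun h => Invol.mul_ne_one_of_ne (hinv₁ p hp) hne
        (by rw [← map_mul, h, map_one])
      refine key hp hb (H.mulK _ (hlift _ hP) p (hCX p hp).1 (Subgroup.mem_comap.2 h1) p' (hCX p' hp').1
        (Subgroup.mem_comap.2 h2) hppne) (hpb.mul_left hp'b) hpb ?_ ((QuotientGroup.eq_one_iff _).1 ?_)
      · rw [← mul_assoc p p p', mul_self_of_orderOf_two (hCX p hp).2, one_mul, _root_.mul_inv_rev,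
          inv_of_orderOf_two (hCX p' hp').2]
      · show π (p * p' * b) = 1
        rw [map_mul, map_mul, ← e, mul_self_of_orderOf_two (hinv₂ b hb)]
  have hc := B.commute (Set.mem_image_of_mem π hxCX) (Set.mem_image_of_mem π hyCY)
  have hP : IsPGroup 2 (Subgroup.closure ({π x, π y} : Set (G ⧸ U))) := by
    refine Invol.isPGroup_closure_pair (a := 1) (hinv₁ x hxCX) (hinv₂ y hyCY) ?_
    rw [pow_one]
    refine orderOf_two_iff.2 ⟨?_, Invol.mul_ne_one_of_ne (hinv₁ x hxCX) fun e => ?_⟩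
    · rw [show π x * π y * (π x * π y) = π x * (π y * π x) * π y by group, ← hc.eq,
        show π x * (π x * π y) * π y = π x * π x * (π y * π y) by group,
        mul_self_of_orderOf_two (hinv₁ x hxCX), mul_self_of_orderOf_two (hinv₂ y hyCY), one_mul]
    · exact B.disj _ (Set.mem_image_of_mem π hxCX) (e ▸ Set.mem_image_of_mem π hyCY)
  exact hnc (hcomm _ hP x hxCX (Subgroup.subset_closure (Set.mem_insert _ _)) y hyCY
    (Subgroup.subset_closure (Set.mem_insert_of_mem _ rfl)))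

/-- Closed commuting sets of involutions commute modulo the odd core. -/
theorem PairSets.mem_core {G : Type u} [Group G] [Finite G] {K Y : Set G} (H : PairSets G K Y)
    {x y : G} (hx : x ∈ K) (hx2 : orderOf x = 2) (hy : y ∈ Y) :
    x * y * x * y ∈ Cfsg.pPrimeCore 2 G :=
  PairSets.mem_core_aux _ G rfl K Y H x hx hx2 y hy

end Cfsg.Agent.Fus.ClosedPair
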