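import Mathlib
import Cfsg.Agent.Lib.Fus.ClosedPair.Main
import Cfsg.Agent.Lib.Fus.ClosedPair.Congruence
import Cfsg.Agent.Lib.Invol.OneInvol
import Cfsg.Agent.S1250

/-!
# Strongly closed subgroups with one involution

A strongly closed 2-subgroup with a single involution is a Sylow 2-subgroup of its normal closure.
-/

set_option autoImplicit false
set_option linter.unusedSectionVars false
set_option linter.style.haveILetI false

namespace Cfsg.Agent.Fus.ClosedPair

open Subgroup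
open Cfsg.Agent.Invol (mul_self_of_orderOf_two inv_of_orderOf_two orderOf_two_iff)

universe u

variable {G : Type u} [Group G] [Finite G] {P : Sylow 2 G} {S : Subgroup G}

/-- A transfer killing a strongly closed subgroup generating the group normally is trivial. -/
theorem transfer_eq_one (hcl : Cfsg.IsStronglyClosed S (P : Subgroup G))
    (hncl : Subgroup.normalClosure (S : Set G) = ⊤) {A : Type*} [CommGroup A]
    (ψ : ↥(P : Subgroup G) →* A) (hψ : ∀ x : ↥(P : Subgroup G), (x : G) ∈ S → ψ x = 1) (g : G) :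
    MonoidHom.transfer ψ g = 1 := by
  classical
  haveI : Fintype (G ⧸ (P : Subgroup G)) := Fintype.ofFinite _
  have hle : Subgroup.normalClosure (S : Set G) ≤ (MonoidHom.transfer ψ).ker := by
    refine Subgroup.normalClosure_le_normal fun s hs => ?_
    rw [SetLike.mem_coe, MonoidHom.mem_ker, MonoidHom.transfer_eq_prod_quotient_orbitRel_zpowers_quot]
    refine Finset.prod_eq_one fun q _ => hψ _ ?_
    have h := QuotientGroup.out_conj_pow_minimalPeriod_mem (P : Subgroup G) s q.out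
    obtain ⟨a, ha⟩ : ∃ a, a = q.out.out := ⟨_, rfl⟩
    rw [← ha] at h
    show q.out.out⁻¹ * s ^ Function.minimalPeriod (s • ·) q.out * q.out.out ∈ S
    rw [← ha]
    have h1 := hcl.2 _ (S.pow_mem hs _) a⁻¹ (by simpa using h)
    simpa using h1
  exact hle (hncl ▸ Subgroup.mem_top g)

/-- Homomorphisms of the normalizer to an abelian 2-group killing `S` kill the Sylow subgroup. -/
theorem hom_normalizer_eq_one (hcl : Cfsg.IsStronglyClosed S (P : Subgroup G))
    (hncl : Subgroup.normalClosure (S : Set G) = ⊤) {A : Type*} [CommGroup A]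
    (φ : ↥(Subgroup.normalizer (S : Set G)) →* A)
    (hφ : ∀ x : ↥(Subgroup.normalizer (S : Set G)), (x : G) ∈ S → φ x = 1)
    (hA : ∀ a : A, ∃ k : ℕ, a ^ 2 ^ k = 1) {t : G} (ht : t ∈ (P : Subgroup G)) :
    φ ⟨t, le_normalizer_of_closed hcl ht⟩ = 1 := by
  classical
  haveI : Fact (Nat.Prime 2) := ⟨Nat.prime_two⟩
  haveI : Fintype (G ⧸ (P : Subgroup G)) := Fintype.ofFinite _
  let ψ : ↥(P : Subgroup G) →* A := φ.comp (Subgroup.inclusion (le_normalizer_of_closed hcl))
  have hV := transfer_eq_one hcl hncl ψ (fun x hx => hφ _ hx) t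
  have hfac : ∀ (n : ℕ) (a : G) (h : a⁻¹ * t ^ n * a ∈ (P : Subgroup G)),
      ψ ⟨_, h⟩ = φ ⟨t, le_normalizer_of_closed hcl ht⟩ ^ n := by
    intro n a h
    obtain ⟨k, hk, hkP, hkS⟩ := exists_cong_normalizer P hcl ((P : Subgroup G).pow_mem ht n)
      (g := a⁻¹) (by simpa using h)
    obtain ⟨tn, htn⟩ : ∃ tn : ↥(Subgroup.normalizer (S : Set G)),
        tn = ⟨t, le_normalizer_of_closed hcl ht⟩ := ⟨_, rfl⟩
    have e : (⟨a⁻¹ * t ^ n * a, le_normalizer_of_closed hcl h⟩ : ↥(Subgroup.normalizer (S : Set G))) =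
        ⟨k, hk⟩ * tn ^ n * ⟨k, hk⟩⁻¹ *
          ⟨_, Subgroup.le_normalizer hkS⟩ := by
      refine Subtype.ext ?_
      simp only [Subgroup.coe_mul, SubmonoidClass.coe_pow, Subgroup.coe_inv, htn, inv_inv,
        mul_inv_cancel_left]
    show φ ⟨a⁻¹ * t ^ n * a, le_normalizer_of_closed hcl h⟩ = _
    rw [e, map_mul, map_mul, map_mul, map_pow, map_inv, hφ ⟨_, Subgroup.le_normalizer hkS⟩ hkS, mul_one, mul_comm (φ ⟨k, hk⟩),
      mul_inv_cancel_right, htn]
  rw [MonoidHom.transfer_eq_prod_quotient_orbitRel_zpowers_quot] at hV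
  simp only [hfac] at hV
  rw [Finset.prod_pow_eq_pow_sum, ← Subgroup.index_eq_sum_minimalPeriod (P : Subgroup G) t] at hV
  obtain ⟨k, hk⟩ := hA (φ ⟨t, le_normalizer_of_closed hcl ht⟩)
  have hodd : ¬ 2 ∣ (P : Subgroup G).index := P.not_dvd_index
  refine orderOf_eq_one_iff.1 (Nat.dvd_one.1 ?_)
  exact ((Nat.Prime.coprime_iff_not_dvd Nat.prime_two).2 hodd |>.symm.pow_right k |>.gcd_eq_one) ▸
    Nat.dvd_gcd (orderOf_dvd_of_pow_eq_one hV) (orderOf_dvd_of_pow_eq_one hk)

theorem isPGroup_center (hcore : Cfsg.pPrimeCore 2 G = ⊥) : IsPGroup 2 (center G) :=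
  (centralizer_oddGen_two hcore).to_le fun c hc => Subgroup.mem_centralizer_iff.2 fun e _ =>
    Subgroup.mem_center_iff.1 hc e

theorem core_quotient_center (hcore : Cfsg.pPrimeCore 2 G = ⊥) :
    Cfsg.pPrimeCore 2 (G ⧸ center G) = ⊥ := by
  haveI : (oddGen G).Normal := oddGen_normal
  haveI hUn : (centralizer (oddGen G : Set G)).Normal := inferInstance
  set U := centralizer (oddGen G : Set G)
  have h2 := centralizer_oddGen_two hcore
  have hle : center G ≤ (QuotientGroup.mk' U).ker := by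
    rw [QuotientGroup.ker_mk']
    exact fun c hc => Subgroup.mem_centralizer_iff.2 fun e _ => Subgroup.mem_center_iff.1 hc e
  have hodd : Odd (Nat.card ↥(Cfsg.pPrimeCore 2 (G ⧸ center G))) := Invol.odd_oddCore
  let f : G ⧸ center G →* G ⧸ U := QuotientGroup.lift (center G) (QuotientGroup.mk' U) hle
  have hs : Function.Surjective f := fun q => by
    obtain ⟨g, rfl⟩ := QuotientGroup.mk'_surjective U q
    exact ⟨QuotientGroup.mk' (center G) g, rfl⟩
  have hmap : (Cfsg.pPrimeCore 2 (G ⧸ center G)).map f ≤ ⊥ := by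
    rw [← core_quotient_oddGen (G := G) hcore]
    exact Grp.le_pPrimeCore ((Grp.pPrimeCore_isNormal).map f hs)
      ((Grp.pPrimeCore_coprime (p := 2)).coprime_dvd_left (Subgroup.card_map_dvd (f := f) _))
  rw [Subgroup.eq_bot_iff_forall]
  intro q hq
  obtain ⟨n, rfl⟩ := QuotientGroup.mk'_surjective (center G) q
  have hn : f (QuotientGroup.mk' (center G) n) = 1 := Subgroup.mem_bot.1 (hmap ⟨_, hq, rfl⟩)
  obtain ⟨k, hk⟩ := h2 ⟨n, (QuotientGroup.eq_one_iff _).1 hn⟩
  have hk' : n ^ 2 ^ k = 1 := congrArg Subtype.val hk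
  exact eq_one_of_odd_two (odd_orderOf_of_mem hodd hq) (by rw [← map_pow, hk', map_one])

/-- The part of the Sylow subgroup centralizing a quaternion `S` is central. -/
theorem inf_centralizer_le_center (hcl : Cfsg.IsStronglyClosed S (P : Subgroup G))
    (hncl : Subgroup.normalClosure (S : Set G) = ⊤) (hcore : Cfsg.pPrimeCore 2 G = ⊥)
    (hZ : ∀ s ∈ S, (∀ s' ∈ S, Commute s s') → s * s = 1)
    (hinv : ∀ s ∈ S, s * s = 1 → s ∈ center G)
    (hgen : S ≤ Subgroup.closure {s | s ∈ S ∧ s * s ∈ center G}) :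
    (P : Subgroup G) ⊓ centralizer (S : Set G) ≤ center G := by
  haveI : Fact (Nat.Prime 2) := ⟨Nat.prime_two⟩
  obtain ⟨W, hW⟩ : ∃ W, W = (P : Subgroup G) ⊓ centralizer (S : Set G) := ⟨_, rfl⟩
  have hWS : ∀ {w s : G}, w ∈ W → s ∈ S → Commute w s := fun hw hs =>
    (Subgroup.mem_centralizer_iff.1 (hW ▸ hw : _ ∈ (P : Subgroup G) ⊓ centralizer (S : Set G)).2 _ hs).symm
  have hWP : ∀ {w : G}, w ∈ W → w ∈ (P : Subgroup G) := fun hw => (hW ▸ hw :
    _ ∈ (P : Subgroup G) ⊓ centralizer (S : Set G)).1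
  -- conjugates of these elements inside the Sylow subgroup stay in the centralizer
  have hclW : ∀ w ∈ W, w * w ∈ center G → ∀ g : G, g * w * g⁻¹ ∈ (P : Subgroup G) → g * w * g⁻¹ ∈ W := by
    intro w hw hw2 g hg
    obtain ⟨k, hk, hkP, hkS⟩ := exists_cong_normalizer P hcl (hWP hw) hg
    obtain ⟨w₁, hw₁⟩ : ∃ w₁, w₁ = k * w * k⁻¹ := ⟨_, rfl⟩
    have hw₁W : w₁ ∈ W := by
      rw [hW]
      refine ⟨hw₁ ▸ hkP, Subgroup.mem_centralizer_iff.2 fun s hs => ?_⟩
      have h := commute_conj (hWS hw ((Subgroup.mem_normalizer_iff.1 (inv_mem hk) s).1 hs)) k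
      rw [← hw₁, show k * (k⁻¹ * s * k⁻¹⁻¹) * k⁻¹ = s by group] at h
      exact h.symm.eq
    obtain ⟨s, hs⟩ : ∃ s, s = w₁⁻¹ * (g * w * g⁻¹) := ⟨_, rfl⟩
    have hsS : s ∈ S := hs ▸ hw₁ ▸ hkS
    have he : g * w * g⁻¹ = w₁ * s := by rw [hs, mul_inv_cancel_left]
    have hfix : ∀ a : G, a * (w * w) * a⁻¹ = w * w := fun a => by
      rw [Subgroup.mem_center_iff.1 hw2 a, mul_inv_cancel_right]
    have hss : s * s = 1 := by
      have h1 : w₁ * w₁ = w * w := by rw [hw₁, show k * w * k⁻¹ * (k * w * k⁻¹) = k * (w * w) * k⁻¹ by group, hfix]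
      have h2 : (w₁ * s) * (w₁ * s) = w * w := by
        rw [← he, show g * w * g⁻¹ * (g * w * g⁻¹) = g * (w * w) * g⁻¹ by group, hfix]
      rw [show w₁ * s * (w₁ * s) = w₁ * (s * w₁) * s by group, ← (hWS hw₁W hsS).eq,
        show w₁ * (w₁ * s) * s = w₁ * w₁ * (s * s) by group, h1] at h2
      exact mul_eq_left.1 h2
    rw [he, hW]
    refine ⟨mul_mem (hWP hw₁W) (hcl.1 hsS), mul_mem (hW ▸ hw₁W : w₁ ∈ (P : Subgroup G) ⊓ centralizer (S : Set G)).2 ?_⟩
    exact Subgroup.mem_centralizer_iff.2 fun a _ => Subgroup.mem_center_iff.1 (hinv s hsS hss) a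
  have hU2 := isPGroup_center hcore
  set π := QuotientGroup.mk' (center G) with hπ
  have hlift : ∀ Q : Subgroup (G ⧸ center G), IsPGroup 2 Q →
      ∃ v : G, ∀ x : G, π x ∈ Q → v * x * v⁻¹ ∈ (P : Subgroup G) := by
    intro Q hQ
    obtain ⟨v, hv⟩ := Invol.exists_conj_subset_sylow
      (hQ.comap_of_ker_isPGroup π (by rwa [QuotientGroup.ker_mk'])) P
    exact ⟨v, fun x hx => hv x hx⟩
  have hπc : ∀ (g x : G), π g * π x * (π g)⁻¹ = π (g * x * g⁻¹) := fun g x => by simp
  let K : Set (G ⧸ center G) := {a | a ≠ 1 ∧ ∃ g : G, ∃ s ∈ S, π (g * s * g⁻¹) = a}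
  let Y : Set (G ⧸ center G) :=
    {a | a ≠ 1 ∧ ∃ g : G, ∃ w ∈ W, w * w ∈ center G ∧ π (g * w * g⁻¹) = a}
  have hY2 : ∀ a ∈ Y, orderOf a = 2 := by
    rintro a ⟨hne, g, w, -, hw2, rfl⟩
    refine orderOf_two_iff.2 ⟨?_, hne⟩
    rw [← map_mul, show g * w * g⁻¹ * (g * w * g⁻¹) = g * (w * w) * g⁻¹ by group]
    refine (QuotientGroup.eq_one_iff _).2 ?_
    exact (inferInstance : (center G).Normal).conj_mem _ hw2 g
  have H : PairSets (G ⧸ center G) K Y := by
    have hcommKY : ∀ Q : Subgroup (G ⧸ center G), IsPGroup 2 Q → ∀ a ∈ K, a ∈ Q → ∀ b ∈ Y, b ∈ Q →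
        ∃ v s w, s ∈ S ∧ w ∈ W ∧ a = π (v⁻¹ * s * v) ∧ b = π (v⁻¹ * w * v) := by
      rintro Q hQ _ ⟨-, g, s, hs, rfl⟩ haQ _ ⟨-, h, w, hw, hw2, rfl⟩ hbQ
      obtain ⟨v, hv⟩ := hlift Q hQ
      have h1 := hcl.2 s hs (v * g) (by simpa [mul_assoc] using hv _ haQ)
      have h2 := hclW w hw hw2 (v * h) (by simpa [mul_assoc] using hv _ hbQ)
      exact ⟨v, _, _, h1, h2, by simp [mul_assoc], by simp [mul_assoc]⟩
    refine ⟨⟨fun a ha => ha.2, hY2, ?_, ?_, ?_, ?_⟩, ?_, ?_, ?_, ?_, ?_⟩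
    · rintro q a ⟨⟨hne, g, s, hs, rfl⟩, ha2⟩
      obtain ⟨h, rfl⟩ := QuotientGroup.mk'_surjective (center G) q
      refine ⟨⟨fun e => hne ?_, h * g, s, hs, by simp [hπ, mul_assoc]⟩, (Invol.orderOf_conj_eq _ _).trans ha2⟩
      simpa using e
    · rintro q a ⟨hne, g, w, hw, hw2, rfl⟩
      obtain ⟨h, rfl⟩ := QuotientGroup.mk'_surjective (center G) q
      exact ⟨fun e => hne (by simpa using e), h * g, w, hw, hw2, by simp [hπ, mul_assoc]⟩
    · rintro a ⟨haK, ha2⟩ haY
      obtain ⟨v, s, w, hs, hw, e₁, e₂⟩ := hcommKY _ (isPGroup_zpowers_of_two ha2) a haK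
        (Subgroup.mem_zpowers a) a haY (Subgroup.mem_zpowers a)
      have hu : (v⁻¹ * s * v)⁻¹ * (v⁻¹ * w * v) ∈ center G := QuotientGroup.eq.1 (e₁.symm.trans e₂)
      have hsw : s⁻¹ * w ∈ center G := by
        have := (inferInstance : (center G).Normal).conj_mem _ hu v
        simpa [mul_assoc] using this
      have hZs : ∀ s' ∈ S, Commute s s' := fun s' hs' => by
        have h1 : Commute (s⁻¹ * w) s' := (Subgroup.mem_center_iff.1 hsw s').symm
        have h2 : Commute s⁻¹ s' := by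
          have := h1.mul_left (hWS hw hs').inv_left
          rwa [mul_inv_cancel_right] at this
        simpa using h2.inv_left
      refine haK.1 (e₁.trans ((QuotientGroup.eq_one_iff _).2 ?_))
      simpa using (inferInstance : (center G).Normal).conj_mem _ (hinv s hs (hZ s hs hZs)) v⁻¹
    · rintro Q hQ a ⟨haK, -⟩ haQ b hb hbQ
      obtain ⟨v, s, w, hs, hw, rfl, rfl⟩ := hcommKY Q hQ a haK haQ b hb hbQ
      have h := commute_conj (hWS hw hs).symm v⁻¹
      rw [inv_inv] at h
      exact h.map π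
    · rintro q a ⟨hne, g, s, hs, rfl⟩
      obtain ⟨h, rfl⟩ := QuotientGroup.mk'_surjective (center G) q
      exact ⟨fun e => hne (by simpa using e), h * g, s, hs, by simp [hπ, mul_assoc]⟩
    · rintro a ⟨hne, g, s, hs, rfl⟩
      refine ⟨hne, ?_⟩
      obtain ⟨k, hk⟩ := IsPGroup.iff_orderOf.1 P.isPGroup' ⟨s, hcl.1 hs⟩
      rw [Subgroup.orderOf_mk] at hk
      have := orderOf_map_dvd π (g * s * g⁻¹)
      rw [Invol.orderOf_conj_eq, hk] at this
      obtain ⟨j, -, hj⟩ := (Nat.dvd_prime_pow Nat.prime_two).1 this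
      exact ⟨j, hj⟩
    · rintro Q hQ a ⟨-, g, s, hs, rfl⟩ haQ b ⟨-, g', s', hs', rfl⟩ hbQ hne
      obtain ⟨v, hv⟩ := hlift Q hQ
      have h1 := hcl.2 s hs (v * g) (by simpa [mul_assoc] using hv _ haQ)
      have h2 := hcl.2 s' hs' (v * g') (by simpa [mul_assoc] using hv _ hbQ)
      exact ⟨hne, v⁻¹, _, mul_mem h1 h2, by rw [← map_mul]; congr 1; group⟩
    · intro a haK haY
      obtain ⟨v, s, w, hs, hw, e₁, e₂⟩ := hcommKY _ (isPGroup_zpowers_of_two (hY2 a haY)) a haK
        (Subgroup.mem_zpowers a) a haY (Subgroup.mem_zpowers a)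
      have hu : (v⁻¹ * s * v)⁻¹ * (v⁻¹ * w * v) ∈ center G := QuotientGroup.eq.1 (e₁.symm.trans e₂)
      have hsw : s⁻¹ * w ∈ center G := by
        have := (inferInstance : (center G).Normal).conj_mem _ hu v
        simpa [mul_assoc] using this
      have hZs : ∀ s' ∈ S, Commute s s' := fun s' hs' => by
        have h1 : Commute (s⁻¹ * w) s' := (Subgroup.mem_center_iff.1 hsw s').symm
        have h2 : Commute s⁻¹ s' := by
          have := h1.mul_left (hWS hw hs').inv_left
          rwa [mul_inv_cancel_right] at this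
        simpa using h2.inv_left
      refine haK.1 (e₁.trans ((QuotientGroup.eq_one_iff _).2 ?_))
      simpa using (inferInstance : (center G).Normal).conj_mem _ (hinv s hs (hZ s hs hZs)) v⁻¹
    · intro a ha b hb hne hc
      have hQ : IsPGroup 2 (Subgroup.closure ({a, b} : Set (G ⧸ center G))) := by
        refine Invol.isPGroup_closure_pair (a := 1) (hY2 a ha) (hY2 b hb) ?_
        rw [pow_one]
        refine orderOf_two_iff.2 ⟨?_, Invol.mul_ne_one_of_ne (hY2 a ha) hne⟩
        rw [show a * b * (a * b) = a * (b * a) * b by group, ← hc.eq,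
          show a * (a * b) * b = a * a * (b * b) by group, mul_self_of_orderOf_two (hY2 a ha),
          mul_self_of_orderOf_two (hY2 b hb), one_mul]
      have hab1 : a * b ≠ 1 := Invol.mul_ne_one_of_ne (hY2 a ha) hne
      have hab2 : a * b * (a * b) = 1 := by
        rw [show a * b * (a * b) = a * (b * a) * b by group, ← hc.eq,
          show a * (a * b) * b = a * a * (b * b) by group, mul_self_of_orderOf_two (hY2 a ha),
          mul_self_of_orderOf_two (hY2 b hb), one_mul]
      obtain ⟨v, hv⟩ := hlift _ hQ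
      obtain ⟨-, g, w, hw, hw2, rfl⟩ := ha
      obtain ⟨-, g', w', hw', hw2', rfl⟩ := hb
      have h1 := hclW w hw hw2 (v * g)
        (by simpa [mul_assoc] using hv _ (Subgroup.subset_closure (Set.mem_insert _ _)))
      have h2 := hclW w' hw' hw2' (v * g')
        (by simpa [mul_assoc] using hv _ (Subgroup.subset_closure (Set.mem_insert_of_mem _ rfl)))
      refine ⟨hab1, v⁻¹, _, mul_mem h1 h2, ?_, by rw [← map_mul]; congr 1; group⟩
      refine (QuotientGroup.eq_one_iff _).1 ?_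
      show π _ = 1
      have hv' : π v * (π (g * w * g⁻¹) * π (g' * w' * g'⁻¹)) * (π v)⁻¹ =
          π (v * g * w * (v * g)⁻¹ * (v * g' * w' * (v * g')⁻¹)) := by simp [mul_assoc]
      rw [map_mul, ← hv', show ∀ c d : G ⧸ center G, c * d * c⁻¹ * (c * d * c⁻¹) = c * (d * d) * c⁻¹ from
        fun c d => by group, hab2, mul_one, mul_inv_cancel]
  have hHcore := core_quotient_center hcore
  -- such elements are central
  have key : ∀ w ∈ W, w * w ∈ center G → w ∈ center G := by
    intro w hw hw2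
    by_contra hwU
    have hwY : π w ∈ Y := ⟨fun e => hwU ((QuotientGroup.eq_one_iff _).1 e), 1, w, hw, hw2, by simp⟩
    have hstep : ∀ v : G, Commute (π w) (π v) := by
      intro v
      have hle : Subgroup.normalClosure (S : Set G) ≤ (centralizer {π w}).comap π := by
        have hs2 : ∀ g : G, ∀ s ∈ S, s * s ∈ center G → g * s * g⁻¹ ∈ (centralizer {π w}).comap π := by
          intro g s hs hs2
          refine Subgroup.mem_comap.2 (Subgroup.mem_centralizer_singleton_iff.2 ?_)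
          by_cases ha : π (g * s * g⁻¹) = 1
          · rw [ha, one_mul, mul_one]
          have ha2 : orderOf (π (g * s * g⁻¹)) = 2 := orderOf_two_iff.2 ⟨by
            rw [← map_mul, show g * s * g⁻¹ * (g * s * g⁻¹) = g * (s * s) * g⁻¹ by group]
            exact (QuotientGroup.eq_one_iff _).2 ((inferInstance : (center G).Normal).conj_mem _ hs2 g), ha⟩
          have h := H.mem_core ⟨ha, g, s, hs, rfl⟩ ha2 hwY
          rw [hHcore, Subgroup.mem_bot] at h
          have h1 : π (g * s * g⁻¹) * π w = (π (g * s * g⁻¹) * π w)⁻¹ :=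
            eq_inv_of_mul_eq_one_left (by rw [← h]; group)
          rw [_root_.mul_inv_rev, inv_of_orderOf_two ha2, inv_of_orderOf_two (hY2 _ hwY)] at h1
          exact h1
        refine (Subgroup.closure_le _).2 fun v hv => ?_
        obtain ⟨s, hs, hconj⟩ := Group.mem_conjugatesOfSet_iff.1 hv
        obtain ⟨a, rfl⟩ := _root_.isConj_iff.1 hconj
        have hle' : Subgroup.closure {s | s ∈ S ∧ s * s ∈ center G} ≤
            ((centralizer {π w}).comap π).comap (MulAut.conj a).toMonoidHom :=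
          (Subgroup.closure_le _).2 fun r hr => hs2 a r hr.1 hr.2
        exact hle' (hgen hs)
      exact (Subgroup.mem_centralizer_singleton_iff.1 (Subgroup.mem_comap.1 (hle (hncl ▸ Subgroup.mem_top v)))).symm
    refine hwU (Subgroup.mem_center_iff.2 fun g => ?_)
    have hle : Subgroup.normalClosure (S : Set G) ≤ centralizer ({w} : Set G) := by
      refine (Subgroup.closure_le _).2 fun v hv => ?_
      obtain ⟨s, hs, hconj⟩ := Group.mem_conjugatesOfSet_iff.1 hv
      obtain ⟨a, rfl⟩ := _root_.isConj_iff.1 hconj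
      obtain ⟨c, hc⟩ : ∃ c, c = (a * w)⁻¹ * (w * a) := ⟨_, rfl⟩
      have hcU : c ∈ center G := hc ▸ QuotientGroup.eq.1 (show π (a * w) = π (w * a) by
        rw [map_mul, map_mul]; exact (hstep a).symm.eq)
      have hwa : w * a = a * w * c := by rw [hc, mul_inv_cancel_left]
      refine Subgroup.mem_centralizer_singleton_iff.2 ?_
      have hcs : c * s * c⁻¹ = s := by rw [← Subgroup.mem_center_iff.1 hcU s, mul_inv_cancel_right]
      have e : w * (a * s * a⁻¹) * w⁻¹ = a * s * a⁻¹ := by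
        calc w * (a * s * a⁻¹) * w⁻¹ = w * a * s * (w * a)⁻¹ := by group
          _ = a * (w * (c * s * c⁻¹) * w⁻¹) * a⁻¹ := by rw [hwa]; group
          _ = _ := by rw [hcs, (hWS hw hs).eq]; group
      exact (mul_inv_eq_iff_eq_mul.1 e).symm
    exact Subgroup.mem_centralizer_singleton_iff.1 (hle (hncl ▸ Subgroup.mem_top g))
  -- descend along the powers
  have hdesc : ∀ k : ℕ, ∀ w ∈ W, orderOf w = 2 ^ k → w ∈ center G := by
    intro k
    induction k with
    | zero => intro w _ hk; rw [orderOf_eq_one_iff.1 (hk.trans (pow_zero 2))]; exact one_mem _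
    | succ k ih =>
      intro w hw hk
      refine key w hw (ih (w * w) (mul_mem hw hw) ?_)
      rw [← pow_two, orderOf_pow' _ two_ne_zero, hk, pow_succ, Nat.gcd_mul_left_left,
        Nat.mul_div_cancel _ two_pos]
  intro w hw
  rw [← hW] at hw
  obtain ⟨k, hk⟩ := IsPGroup.iff_orderOf.1 P.isPGroup' ⟨w, hWP hw⟩
  rw [Subgroup.orderOf_mk] at hk
  exact hdesc k w hw hk

end Cfsg.Agent.Fus.ClosedPair
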