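import Mathlib
import Cfsg.Agent.Lib.Fus.ClosedPair.RankOne

/-!
# Strongly closed subgroups with one involution: conclusion

The automorphisms of a quaternion group induced by the Sylow subgroup are inner, so the Sylow
subgroup is the strongly closed subgroup.
-/

set_option autoImplicit false
set_option linter.unusedSectionVars false
set_option linter.unusedVariables false
set_option linter.style.haveILetI false

namespace Cfsg.Agent.Fus.ClosedPair

open Subgroup
open scoped Pointwise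
open Cfsg.Agent.Invol (mul_self_of_orderOf_two inv_of_orderOf_two orderOf_two_iff)

universe u

variable {G : Type u} [Group G]

/-- A cyclic subgroup of index two in `S`, inverted outside. -/
structure Quat (S : Subgroup G) (a b : G) : Prop where
  a_mem : a ∈ S
  b_mem : b ∈ S
  b_not : b ∉ zpowers a
  four : 4 ∣ orderOf a
  dec : ∀ x ∈ S, x ∈ zpowers a ∨ b⁻¹ * x ∈ zpowers a
  sq : ∀ x ∈ S, x * x ∈ zpowers a
  inv : ∀ x ∈ S, x ∉ zpowers a → x * a * x⁻¹ = a⁻¹
  card : Nat.card S = 2 * orderOf a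

variable {S : Subgroup G} {a b : G}

theorem Quat.conj_pow (q : Quat S a b) {x : G} (hx : x ∈ S) (hn : x ∉ zpowers a) (i : ℤ) :
    x * a ^ i * x⁻¹ = a ^ (-i) := by
  rw [← conj_zpow, q.inv x hx hn, inv_zpow, zpow_neg]

theorem Quat.sq_outside (q : Quat S a b) {x : G} (hx : x ∈ S) (hn : x ∉ zpowers a) :
    x * x * (x * x) = 1 ∧ x * x ∈ zpowers (a * a) := by
  obtain ⟨i, hi⟩ := Subgroup.mem_zpowers_iff.1 (q.sq x hx)
  have h1 := q.conj_pow hx hn i
  rw [hi, show x * (x * x) * x⁻¹ = x * x by group, ← hi] at h1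
  have h2 : a ^ (i + i) = 1 := by
    calc a ^ (i + i) = a ^ i * a ^ i := zpow_add _ _ _
      _ = a ^ (-i) * a ^ i := by nth_rewrite 1 [h1]; rfl
      _ = 1 := by rw [← zpow_add, neg_add_cancel, zpow_zero]
  refine ⟨by rw [← hi, ← zpow_add, h2], ?_⟩
  have hdvd := orderOf_dvd_iff_zpow_eq_one.2 h2
  obtain ⟨j, rfl⟩ : (2 : ℤ) ∣ i := by
    have h4 : (4 : ℤ) ∣ i + i := (Int.natCast_dvd_natCast.2 q.four).trans hdvd
    omega
  exact ⟨j, by show (a * a) ^ j = x * x; rw [← hi, zpow_mul, zpow_two]⟩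

theorem Quat.sq_mem (q : Quat S a b) {x : G} (hx : x ∈ S) : x * x ∈ zpowers (a * a) := by
  by_cases hn : x ∈ zpowers a
  · obtain ⟨i, rfl⟩ := hn
    refine ⟨i, ?_⟩
    show (a * a) ^ i = a ^ i * a ^ i
    exact (Commute.refl a).mul_zpow i
  · exact (q.sq_outside hx hn).2

theorem Quat.conj_sq_mem (q : Quat S a b) {n : G} (hn : n ∈ Subgroup.normalizer (S : Set G)) {v : G}
    (hv : v ∈ zpowers (a * a)) : n * v * n⁻¹ ∈ zpowers (a * a) := by
  obtain ⟨i, rfl⟩ := hv
  show n * (a * a) ^ i * n⁻¹ ∈ _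
  rw [← conj_zpow, show n * (a * a) * n⁻¹ = n * a * n⁻¹ * (n * a * n⁻¹) by group]
  exact zpow_mem (q.sq_mem ((Subgroup.mem_normalizer_iff.1 hn a).1 q.a_mem)) i

theorem Quat.not_mem_sq [Finite G] (q : Quat S a b) : a ∉ zpowers (a * a) := by
  rintro ⟨i, hi⟩
  have h : a ^ (2 * i - 1) = 1 := by
    rw [zpow_sub, zpow_mul, zpow_two, zpow_one]
    show (a * a) ^ i * a⁻¹ = 1
    rw [show (a * a) ^ i = a from hi, mul_inv_cancel]
  have h4 : (4 : ℤ) ∣ 2 * i - 1 := (Int.natCast_dvd_natCast.2 q.four).trans (orderOf_dvd_iff_zpow_eq_one.2 h)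
  omega

theorem Quat.inv_mul_mem (q : Quat S a b) : b ∈ S ∧ a * b ∉ zpowers a :=
  ⟨q.b_mem, fun h => q.b_not ((Subgroup.mul_mem_cancel_left _ (Subgroup.mem_zpowers a)).1 h)⟩

variable [Finite G] {P : Sylow 2 G}

theorem isPGroup_two_pow {A : Type*} [Group A] [Finite A] {k : ℕ} (h : Nat.card A ∣ 2 ^ k) (x : A) :
    x ^ 2 ^ k = 1 :=
  orderOf_dvd_iff_pow_eq_one.1 ((orderOf_dvd_natCard x).trans h)

/-- The Sylow subgroup fixes the three cosets of the squares. -/
theorem Quat.sylow_fix (q : Quat S a b) (hcl : Cfsg.IsStronglyClosed S (P : Subgroup G))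
    (hncl : Subgroup.normalClosure (S : Set G) = ⊤) {t : G} (ht : t ∈ (P : Subgroup G)) {s : G}
    (hs : s ∈ S) : s⁻¹ * (t * s * t⁻¹) ∈ zpowers (a * a) := by
  classical
  haveI : Fact (Nat.Prime 2) := ⟨Nat.prime_two⟩
  obtain ⟨Φ, hΦ⟩ : ∃ Φ : Subgroup ↥S, Φ = (zpowers (a * a)).subgroupOf S := ⟨_, rfl⟩
  haveI : Φ.Normal := hΦ ▸ ⟨fun v hv g => Subgroup.mem_subgroupOf.2
    (q.conj_sq_mem (Subgroup.le_normalizer g.2) (Subgroup.mem_subgroupOf.1 hv))⟩
  have hmap : ∀ n : ↥(Subgroup.normalizer (S : Set G)),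
      Φ.map ((Subgroup.normalizerMonoidHom S n : ↥S ≃* ↥S) : ↥S →* ↥S) = Φ := fun n => by
    refine Subgroup.eq_of_le_of_card_ge ?_ (le_of_eq ?_)
    · rintro _ ⟨v, hv, rfl⟩
      rw [hΦ] at hv ⊢
      exact q.conj_sq_mem n.2 (Subgroup.mem_subgroupOf.1 hv)
    · exact (Subgroup.card_map_of_injective (Subgroup.normalizerMonoidHom S n).injective).symm
  let σ : ↥(Subgroup.normalizer (S : Set G)) →* Equiv.Perm (↥S ⧸ Φ) :=
    { toFun := fun n => (QuotientGroup.congr Φ Φ (Subgroup.normalizerMonoidHom S n) (hmap n)).toEquiv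
      map_one' := by
        ext v
        obtain ⟨v, rfl⟩ := QuotientGroup.mk_surjective v
        simp
      map_mul' := fun m n => by
        ext v
        obtain ⟨v, rfl⟩ := QuotientGroup.mk_surjective v
        simp }
  have hσ : ∀ (n : ↥(Subgroup.normalizer (S : Set G))) (v : ↥S),
      σ n (v : ↥S ⧸ Φ) = ((Subgroup.normalizerMonoidHom S n v : ↥S) : ↥S ⧸ Φ) := fun n v => rfl
  haveI : Fintype (↥S ⧸ Φ) := Fintype.ofFinite _
  let φ : ↥(Subgroup.normalizer (S : Set G)) →* ℤˣ := Equiv.Perm.sign.comp σ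
  have hφS : ∀ n : ↥(Subgroup.normalizer (S : Set G)), (n : G) ∈ S → φ n = 1 := by
    intro n hn
    have : σ n = 1 := by
      ext v
      obtain ⟨v, rfl⟩ := QuotientGroup.mk_surjective v
      rw [hσ, Equiv.Perm.one_apply, eq_comm, QuotientGroup.eq, hΦ, Subgroup.mem_subgroupOf]
      show (v : G)⁻¹ * ((n : G) * v * (n : G)⁻¹) ∈ zpowers (a * a)
      -- the quotient by the squares is commutative
      have h1 := q.sq_mem (inv_mem v.2)
      have h2 := q.sq_mem (mul_mem v.2 hn)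
      have h3 := q.sq_mem (inv_mem hn)
      have e : (v : G)⁻¹ * ((n : G) * v * (n : G)⁻¹) =
          ((v : G)⁻¹ * (v : G)⁻¹) * (((v : G) * n) * ((v : G) * n)) * ((n : G)⁻¹ * (n : G)⁻¹) := by
        group
      rw [e]
      exact mul_mem (mul_mem h1 h2) h3
    show Equiv.Perm.sign (σ n) = 1
    rw [this, map_one]
  have hsign : φ ⟨t, le_normalizer_of_closed hcl ht⟩ = 1 :=
    hom_normalizer_eq_one hcl hncl φ hφS (fun u => ⟨1, by rw [pow_one]; exact Int.units_sq u⟩) ht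
  obtain ⟨k, hk⟩ := IsPGroup.iff_orderOf.1 P.isPGroup' ⟨t, ht⟩
  rw [Subgroup.orderOf_mk] at hk
  have hpow : σ ⟨t, le_normalizer_of_closed hcl ht⟩ ^ 2 ^ k = 1 := by
    rw [← map_pow, show (⟨t, le_normalizer_of_closed hcl ht⟩ : ↥(Subgroup.normalizer (S : Set G))) ^ 2 ^ k = 1
      from Subtype.ext (by rw [SubmonoidClass.coe_pow, ← hk, pow_orderOf_eq_one]; rfl), map_one]
  -- four cosets
  have hcard : Nat.card (↥S ⧸ Φ) = 4 := by
    obtain ⟨m, hm⟩ := q.four
    have hle : zpowers (a * a) ≤ S := Subgroup.zpowers_le.2 (mul_mem q.a_mem q.a_mem)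
    have hΦcard : Nat.card Φ = 2 * m := by
      rw [hΦ, Nat.card_congr (Subgroup.subgroupOfEquivOfLe hle).toEquiv, Nat.card_zpowers, ← pow_two,
        orderOf_pow' _ two_ne_zero, hm, Nat.gcd_eq_right (dvd_mul_of_dvd_left (by norm_num) _)]
      omega
    have h := Subgroup.card_eq_card_quotient_mul_card_subgroup Φ
    rw [q.card, hΦcard, hm] at h
    have hm0 : 0 < m := by
      have := orderOf_pos a
      omega
    nlinarith
  obtain ⟨e⟩ : Nonempty (↥S ⧸ Φ ≃ Fin 4) := ⟨Finite.equivFinOfCardEq hcard⟩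
  obtain ⟨p, hp⟩ : ∃ p, p = e.permCongr (σ ⟨t, le_normalizer_of_closed hcl ht⟩) := ⟨_, rfl⟩
  have h4 : ∀ (p : Equiv.Perm (Fin 4)) (i : Fin 4), p i = i → Equiv.Perm.sign p = 1 → p ^ 3 = 1 := by
    decide +kernel
  have hfix : σ ⟨t, le_normalizer_of_closed hcl ht⟩ ((1 : ↥S) : ↥S ⧸ Φ) = ((1 : ↥S) : ↥S ⧸ Φ) := by
    rw [hσ, map_one]
  have hp3 : p ^ 3 = 1 := h4 p (e ((1 : ↥S) : ↥S ⧸ Φ))
    (by rw [hp, Equiv.permCongr_apply, Equiv.symm_apply_apply, hfix])
    (by rw [hp, Equiv.Perm.sign_permCongr]; exact hsign)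
  have hp2 : p ^ 2 ^ k = 1 := by
    have hh : ∀ n : ℕ, e.permCongr (σ ⟨t, le_normalizer_of_closed hcl ht⟩ ^ n) =
        e.permCongr (σ ⟨t, le_normalizer_of_closed hcl ht⟩) ^ n := fun n => by
      induction n with
      | zero => ext i; simp
      | succ n ih => rw [pow_succ, pow_succ, ← ih]; ext i; simp [Equiv.permCongr_apply]
    rw [hp, ← hh, hpow]; ext i; simp
  have hp1 : p = 1 := eq_one_of_odd_two
    (Odd.of_dvd_nat (by decide : Odd 3) (orderOf_dvd_of_pow_eq_one hp3)) hp2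
  have hσ1 : σ ⟨t, le_normalizer_of_closed hcl ht⟩ ((⟨s, hs⟩ : ↥S) : ↥S ⧸ Φ) = ((⟨s, hs⟩ : ↥S) : ↥S ⧸ Φ) := by
    refine e.injective ?_
    have := congrFun (congrArg DFunLike.coe hp1) (e ((⟨s, hs⟩ : ↥S) : ↥S ⧸ Φ))
    rwa [hp, Equiv.permCongr_apply, Equiv.symm_apply_apply, Equiv.Perm.one_apply] at this
  rw [hσ, eq_comm, QuotientGroup.eq, hΦ, Subgroup.mem_subgroupOf] at hσ1
  exact hσ1

/-- The Sylow subgroup inverts or fixes the cyclic part. -/
theorem Quat.sylow_gen (q : Quat S a b) (hcl : Cfsg.IsStronglyClosed S (P : Subgroup G))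
    (hncl : Subgroup.normalClosure (S : Set G) = ⊤) {t : G} (ht : t ∈ (P : Subgroup G)) :
    t * a * t⁻¹ = a ∨ t * a * t⁻¹ = a⁻¹ := by
  classical
  haveI : Fact (Nat.Prime 2) := ⟨Nat.prime_two⟩
  have hΦ := q.sylow_fix hcl hncl ht q.a_mem
  by_cases h4 : orderOf a = 4
  · have ha4 : a * a * (a * a) = 1 := by
      rw [show a * a * (a * a) = a ^ 4 by simp [pow_succ, mul_assoc], ← h4, pow_orderOf_eq_one]
    obtain ⟨i, hi⟩ := Subgroup.mem_zpowers_iff.1 hΦ
    have h2 : (a * a) ^ (2 : ℤ) = 1 := by rw [zpow_two]; exact ha4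
    rcases Int.even_or_odd' i with ⟨j, rfl | rfl⟩
    · left
      rw [zpow_mul, h2, one_zpow, eq_comm, inv_mul_eq_one] at hi
      exact hi.symm
    · right
      rw [zpow_add, zpow_mul, h2, one_zpow, one_mul, zpow_one, eq_inv_mul_iff_mul_eq] at hi
      rw [← hi]
      exact (eq_inv_of_mul_eq_one_left (by rw [← ha4]; group))
  -- the cyclic part is invariant under the normalizer
  have hN : ∀ n ∈ Subgroup.normalizer (S : Set G), n ∈ Subgroup.normalizer (zpowers a : Set G) := by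
    intro n hn
    refine mem_normalizer_of_conj_mem ?_
    rintro v ⟨i, rfl⟩
    show n * a ^ i * n⁻¹ ∈ _
    rw [← conj_zpow]
    refine zpow_mem ?_ i
    by_contra hc
    obtain ⟨h1, -⟩ := q.sq_outside ((Subgroup.mem_normalizer_iff.1 hn a).1 q.a_mem) hc
    have hd : orderOf a ∣ 4 := by
      rw [← Invol.orderOf_conj_eq n a]
      exact orderOf_dvd_of_pow_eq_one (by rw [← h1]; simp [pow_succ, mul_assoc])
    exact h4 (Nat.dvd_antisymm hd q.four)
  obtain ⟨φ₀, hφ₀⟩ : ∃ φ₀ : ↥(Subgroup.normalizer (S : Set G)) →* MulAut ↥(zpowers a),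
      φ₀ = (Subgroup.normalizerMonoidHom (zpowers a)).comp (Subgroup.inclusion hN) := ⟨_, rfl⟩
  have hval : ∀ (n : ↥(Subgroup.normalizer (S : Set G))) (v : ↥(zpowers a)),
      ((φ₀ n v : ↥(zpowers a)) : G) = (n : G) * v * (n : G)⁻¹ := fun n v => by rw [hφ₀]; rfl
  have hcomm : ∀ f g : MulAut ↥(zpowers a), f * g = g * f := fun f g =>
    (IsCyclic.mulAutMulEquiv ↥(zpowers a)).injective (by rw [map_mul, map_mul, mul_comm])
  letI : CommGroup (MulAut ↥(zpowers a)) :=
    { (inferInstance : Group (MulAut ↥(zpowers a))) with mul_comm := hcomm }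
  obtain ⟨e₀, he₀⟩ : ∃ e₀, e₀ = φ₀ ⟨b, Subgroup.le_normalizer q.b_mem⟩ := ⟨_, rfl⟩
  have hb2 : e₀ * e₀ = 1 := by
    rw [he₀, ← map_mul]
    refine MulEquiv.ext fun v => Subtype.ext ?_
    rw [hval, MulAut.one_apply]
    obtain ⟨i, hi⟩ := v.2
    rw [← hi]
    show b * b * a ^ i * (b * b)⁻¹ = a ^ i
    rw [show b * b * a ^ i * (b * b)⁻¹ = b * (b * a ^ i * b⁻¹) * b⁻¹ by group,
      q.conj_pow q.b_mem q.b_not, q.conj_pow q.b_mem q.b_not, neg_neg]
  let φ : ↥(Subgroup.normalizer (S : Set G)) →* MulAut ↥(zpowers a) ⧸ zpowers e₀ :=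
    (QuotientGroup.mk' _).comp φ₀
  have hφS : ∀ n : ↥(Subgroup.normalizer (S : Set G)), (n : G) ∈ S → φ n = 1 := by
    intro n hn
    refine (QuotientGroup.eq_one_iff _).2 ?_
    by_cases hc : (n : G) ∈ zpowers a
    · have : φ₀ n = 1 := by
        refine MulEquiv.ext fun v => Subtype.ext ?_
        rw [hval, MulAut.one_apply]
        obtain ⟨i, hi⟩ := v.2
        obtain ⟨j, hj⟩ := hc
        rw [← hi, ← hj]
        show a ^ j * a ^ i * (a ^ j)⁻¹ = a ^ i
        group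
      rw [this]; exact one_mem _
    · have : φ₀ n = e₀ := by
        refine MulEquiv.ext fun v => Subtype.ext ?_
        rw [he₀, hval, hval]
        obtain ⟨i, hi⟩ := v.2
        rw [← hi]
        show (n : G) * a ^ i * (n : G)⁻¹ = b * a ^ i * b⁻¹
        rw [q.conj_pow hn hc, q.conj_pow q.b_mem q.b_not]
      rw [this]; exact Subgroup.mem_zpowers _
  obtain ⟨k, hk⟩ := IsPGroup.iff_orderOf.1 P.isPGroup' ⟨a, hcl.1 q.a_mem⟩
  rw [Subgroup.orderOf_mk] at hk
  have hA : ∀ x : MulAut ↥(zpowers a) ⧸ zpowers e₀, x ^ 2 ^ (k - 1) = 1 := by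
    refine isPGroup_two_pow ((Subgroup.card_quotient_dvd_card _).trans ?_)
    rw [IsCyclic.card_mulAut, Nat.card_zpowers, hk]
    rcases k with _ | k
    · simp
    · rw [Nat.totient_prime_pow Nat.prime_two (Nat.succ_pos _)]; simp
  have h := hom_normalizer_eq_one hcl hncl φ hφS (fun x => ⟨k - 1, hA x⟩) ht
  obtain ⟨i, hi⟩ := Subgroup.mem_zpowers_iff.1 ((QuotientGroup.eq_one_iff _).1 h)
  have hval' := hval ⟨t, le_normalizer_of_closed hcl ht⟩ ⟨a, Subgroup.mem_zpowers a⟩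
  rw [← hi] at hval'
  rcases Int.even_or_odd' i with ⟨j, rfl | rfl⟩
  · left
    rw [zpow_mul, zpow_two, hb2, one_zpow] at hval'
    exact hval'.symm
  · right
    rw [zpow_add, zpow_mul, zpow_two, hb2, one_zpow, one_mul, zpow_one, he₀, hval] at hval'
    exact hval'.symm.trans (q.inv b q.b_mem q.b_not)

/-- The Sylow subgroup induces inner automorphisms. -/
theorem Quat.sylow_le (q : Quat S a b) (hcl : Cfsg.IsStronglyClosed S (P : Subgroup G))
    (hncl : Subgroup.normalClosure (S : Set G) = ⊤) :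
    (P : Subgroup G) ≤ S ⊔ ((P : Subgroup G) ⊓ centralizer (S : Set G)) := by
  intro t ht
  -- adjust to fix the cyclic part
  obtain ⟨s₁, hs₁, hta⟩ : ∃ s₁ ∈ S, s₁ * t * a * (s₁ * t)⁻¹ = a := by
    rcases q.sylow_gen hcl hncl ht with h | h
    · exact ⟨1, one_mem _, by rw [one_mul]; exact h⟩
    · refine ⟨b, q.b_mem, ?_⟩
      rw [show b * t * a * (b * t)⁻¹ = b * (t * a * t⁻¹) * b⁻¹ by group, h, ← conj_inv,
        q.inv b q.b_mem q.b_not, inv_inv]
  have ht' : s₁ * t ∈ (P : Subgroup G) := mul_mem (hcl.1 hs₁) ht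
  obtain ⟨t', ht'e⟩ : ∃ t', t' = s₁ * t := ⟨_, rfl⟩
  rw [← ht'e] at hta ht'
  obtain ⟨j, hj⟩ := Subgroup.mem_zpowers_iff.1 (q.sylow_fix hcl hncl ht' q.b_mem)
  have htb : t' * b * t'⁻¹ = b * a ^ (2 * j) := by
    rw [eq_inv_mul_iff_mul_eq] at hj
    rw [← hj, zpow_mul, zpow_two]
  have hab : ∀ i : ℤ, a ^ i * b = b * a ^ (-i) := fun i => by
    have h := q.conj_pow q.b_mem q.b_not (-i)
    rw [neg_neg] at h
    rw [← h, inv_mul_cancel_right]
  have hfix : ∀ v ∈ ({a, b} : Set G), a ^ j * t' * v * (a ^ j * t')⁻¹ = v := by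
    rintro v (rfl | rfl)
    · rw [show v ^ j * t' * v * (v ^ j * t')⁻¹ = v ^ j * (t' * v * t'⁻¹) * (v ^ j)⁻¹ by group, hta]
      group
    · rw [show a ^ j * t' * v * (a ^ j * t')⁻¹ = a ^ j * (t' * v * t'⁻¹) * (a ^ j)⁻¹ by group, htb,
        ← mul_assoc, hab, mul_assoc, mul_assoc, ← zpow_neg, ← zpow_add, ← zpow_add,
        show -j + (2 * j + -j) = 0 by ring, zpow_zero, mul_one]
  have hcent : a ^ j * t' ∈ centralizer (S : Set G) := by
    refine Subgroup.mem_centralizer_iff.2 fun s hs => ?_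
    have hle : Subgroup.closure ({a, b} : Set G) ≤ centralizer ({a ^ j * t'} : Set G) :=
      (Subgroup.closure_le _).2 fun v hv => Subgroup.mem_centralizer_singleton_iff.2
        (mul_inv_eq_iff_eq_mul.1 (hfix v hv)).symm
    refine Subgroup.mem_centralizer_singleton_iff.1 (hle ?_)
    have hA : zpowers a ≤ Subgroup.closure ({a, b} : Set G) :=
      Subgroup.zpowers_le.2 (Subgroup.subset_closure (Set.mem_insert _ _))
    rcases q.dec s hs with h | h
    · exact hA h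
    · have := mul_mem (Subgroup.subset_closure (Set.mem_insert_of_mem _ rfl) :
        b ∈ Subgroup.closure ({a, b} : Set G)) (hA h)
      rwa [mul_inv_cancel_left] at this
  have haP : a ^ j ∈ S := zpow_mem q.a_mem j
  have h := mul_mem (Subgroup.mem_sup_left (mul_mem (inv_mem hs₁) (inv_mem haP)) :
      s₁⁻¹ * (a ^ j)⁻¹ ∈ S ⊔ ((P : Subgroup G) ⊓ centralizer (S : Set G)))
    (Subgroup.mem_sup_right ⟨mul_mem (hcl.1 haP) ht', hcent⟩)
  rwa [show s₁⁻¹ * (a ^ j)⁻¹ * (a ^ j * t') = s₁⁻¹ * t' by group, ht'e, inv_mul_cancel_left] at h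

/-- A strongly closed subgroup with one involution generating the group normally is Sylow. -/
theorem sylow_eq_of_unique : ∀ (n : ℕ) (G : Type u) [Group G] [Finite G], Nat.card G = n →
    ∀ (P : Sylow 2 G) (S : Subgroup G), Cfsg.IsStronglyClosed S (P : Subgroup G) →
      Subgroup.normalClosure (S : Set G) = ⊤ →
      (∀ u ∈ S, ∀ v ∈ S, orderOf u = 2 → orderOf v = 2 → u = v) → (P : Subgroup G) ≤ S := by
  intro n
  induction n using Nat.strong_induction_on with
  | _ n ih =>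
  intro G _ _ hn P S hcl hncl huniq
  haveI : Fact (Nat.Prime 2) := ⟨Nat.prime_two⟩
  have hquot : ∀ (N : Subgroup G) [N.Normal], N ≠ ⊥ → (∀ v ∈ (P : Subgroup G), v ∈ N → v ∈ S) →
      (∀ u ∈ S.map (QuotientGroup.mk' N), ∀ v ∈ S.map (QuotientGroup.mk' N),
        orderOf u = 2 → orderOf v = 2 → u = v) → (P : Subgroup G) ≤ S := by
    intro N _ hN hPN hu
    have hlt : Nat.card (G ⧸ N) < n := hn ▸ by
      refine lt_of_le_of_ne (Nat.le_of_dvd Nat.card_pos (Subgroup.card_quotient_dvd_card _)) fun e => hN ?_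
      have := Subgroup.card_eq_card_quotient_mul_card_subgroup N
      rw [e] at this
      exact Subgroup.eq_bot_of_card_eq _ (mul_eq_left₀ Nat.card_pos.ne' |>.1 this.symm)
    have hsur := QuotientGroup.mk'_surjective N
    have hcl' : Cfsg.IsStronglyClosed (S.map (QuotientGroup.mk' N))
        ((P.mapSurjective hsur : Sylow 2 (G ⧸ N)) : Subgroup (G ⧸ N)) := by
      rw [Sylow.coe_mapSurjective hsur]
      exact Cfsg.Agent.S1250.result P S hcl N
    have hncl' : Subgroup.normalClosure ((S.map (QuotientGroup.mk' N) : Subgroup (G ⧸ N)) : Set (G ⧸ N)) = ⊤ := by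
      rw [Subgroup.coe_map, ← Subgroup.map_normalClosure _ _ hsur, hncl, Subgroup.map_top_of_surjective _ hsur]
    have h := ih _ hlt _ rfl _ _ hcl' hncl' hu
    rw [Sylow.coe_mapSurjective hsur] at h
    intro t ht
    obtain ⟨s, hs, e⟩ := h ⟨t, ht, rfl⟩
    have hst : s⁻¹ * t ∈ N := QuotientGroup.eq.1 e
    have := mul_mem hs (hPN _ (mul_mem (inv_mem (hcl.1 hs)) ht) hst)
    rwa [mul_inv_cancel_left] at this
  by_cases hS : S = ⊥
  · intro t _
    have htop : (⊤ : Subgroup G) = ⊥ := by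
      rw [← hncl, hS, eq_bot_iff]
      exact Subgroup.normalClosure_le_normal (fun x hx => hx)
    rw [hS]
    exact htop ▸ Subgroup.mem_top t
  by_cases hO : Cfsg.pPrimeCore 2 G = ⊥
  swap
  · haveI : (Cfsg.pPrimeCore 2 G).Normal := Grp.pPrimeCore_isNormal
    have hinj : ∀ v ∈ (P : Subgroup G), v ∈ Cfsg.pPrimeCore 2 G → v = 1 := fun v hv hvO => by
      obtain ⟨k, hk⟩ := P.isPGroup' ⟨v, hv⟩
      exact eq_one_of_odd_two (odd_orderOf_of_mem Invol.odd_oddCore hvO) (congrArg Subtype.val hk)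
    refine hquot _ hO (fun v hv hvO => hinj v hv hvO ▸ one_mem _) ?_
    rintro _ ⟨u, hu, rfl⟩ _ ⟨v, hv, rfl⟩ h1 h2
    have hord : ∀ w ∈ S, orderOf (QuotientGroup.mk' (Cfsg.pPrimeCore 2 G) w) = 2 → orderOf w = 2 := by
      intro w hw hw2
      refine orderOf_two_iff.2 ⟨hinj _ (hcl.1 (mul_mem hw hw)) ((QuotientGroup.eq_one_iff _).1 ?_),
        fun e => (orderOf_two_iff.1 hw2).2 (by rw [e, map_one])⟩
      show QuotientGroup.mk' _ (w * w) = 1
      rw [map_mul, mul_self_of_orderOf_two hw2]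
    rw [huniq u hu v hv (hord u hu h1) (hord v hv h2)]
  -- the involution is central
  obtain ⟨z, hzS, hz2⟩ : ∃ z ∈ S, orderOf z = 2 := by
    refine Invol.exists_orderOf_two_mem ?_
    obtain ⟨k, hk⟩ := (P.isPGroup'.to_le hcl.1).exists_card_eq
    rw [hk]
    refine even_two.pow_of_ne_zero fun hk0 => hS (Subgroup.eq_bot_of_card_eq _ ?_)
    rw [hk, hk0, pow_zero]
  have hzc : z ∈ center G := by
    have hiso : IsIsolatedInvolution z := by
      refine ⟨hz2, fun g hc => ?_⟩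
      by_contra hne
      have hg2 : orderOf (g * z * g⁻¹) = 2 := (Invol.orderOf_conj_eq g z).trans hz2
      refine hne (Invol.eq_of_isolated (hcl.1 hzS) (fun h hh => huniq _ (hcl.2 z hzS h hh) z hzS
        ((Invol.orderOf_conj_eq h z).trans hz2) hz2) (Invol.isPGroup_closure_pair (a := 1) hz2 hg2 ?_)
        (Subgroup.subset_closure (Set.mem_insert _ _))
        (Subgroup.subset_closure (Set.mem_insert_of_mem _ rfl)))
      rw [pow_one]
      refine orderOf_two_iff.2 ⟨?_, Invol.mul_ne_one_of_ne hz2 (Ne.symm hne)⟩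
      rw [show z * (g * z * g⁻¹) * (z * (g * z * g⁻¹)) = z * ((g * z * g⁻¹) * z) * (g * z * g⁻¹) by group,
        ← hc.eq, show z * (z * (g * z * g⁻¹)) * (g * z * g⁻¹) = z * z * ((g * z * g⁻¹) * (g * z * g⁻¹)) by group,
        mul_self_of_orderOf_two hz2, mul_self_of_orderOf_two hg2, one_mul]
    refine Subgroup.mem_center_iff.2 fun g => ?_
    have h := Invol.isolated_commutator_mem hiso g
    rw [hO, Subgroup.mem_bot, mul_inv_eq_one, mul_inv_eq_iff_eq_mul] at h
    exact h.symm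
  rcases OneInvol.cyclic_or_quatShape (P.isPGroup'.to_le hcl.1)
    (fun u v hu hv => Subtype.ext (huniq u u.2 v v.2 (by rwa [Subgroup.orderOf_coe])
      (by rwa [Subgroup.orderOf_coe]))) with hcyc | ⟨a, ha4, haI, hainv⟩
  · haveI := hcyc
    haveI : (zpowers z).Normal := ⟨fun v hv g => by
      have hvc : v ∈ center G := Subgroup.zpowers_le.2 hzc hv
      rwa [Subgroup.mem_center_iff.1 hvc g, mul_inv_cancel_right]⟩
    refine hquot (zpowers z) (fun e => (orderOf_two_iff.1 hz2).2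
      (Subgroup.mem_bot.1 (e ▸ Subgroup.mem_zpowers z))) (fun v _ hv => Subgroup.zpowers_le.2 hzS hv) ?_
    haveI : IsCyclic ↥(S.map (QuotientGroup.mk' (zpowers z))) :=
      isCyclic_of_surjective _ ((QuotientGroup.mk' (zpowers z)).subgroupMap_surjective S)
    intro u hu v hv h1 h2
    exact congrArg Subtype.val (Invol.involution_unique_of_isCyclic (x := (⟨u, hu⟩ : ↥(S.map (QuotientGroup.mk' (zpowers z)))))
      (y := ⟨v, hv⟩) (by rw [← Subgroup.orderOf_coe]; exact h1) (by rw [← Subgroup.orderOf_coe]; exact h2))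
  obtain ⟨b, hb⟩ : ∃ b : ↥S, b ∉ zpowers a := by
    by_contra hno
    push Not at hno
    rw [show zpowers a = ⊤ from eq_top_iff.2 fun x _ => hno x, Subgroup.index_top] at haI
    exact absurd haI (by norm_num)
  have hmem : ∀ v : ↥S, (v : G) ∈ zpowers (a : G) ↔ v ∈ zpowers a := fun v => by
    rw [Subgroup.mem_zpowers_iff, Subgroup.mem_zpowers_iff]
    constructor
    · rintro ⟨i, hi⟩; exact ⟨i, Subtype.ext (by simpa using hi)⟩
    · rintro ⟨i, hi⟩; exact ⟨i, by simpa using congrArg Subtype.val hi⟩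
  have q : Quat S (a : G) (b : G) := by
    refine ⟨a.2, b.2, fun h => hb ((hmem b).1 h), by rwa [Subgroup.orderOf_coe],
      fun x hx => ?_, fun x hx => ?_, fun x hx hn' => ?_, ?_⟩
    · by_cases h : (⟨x, hx⟩ : ↥S) ∈ zpowers a
      · exact Or.inl ((hmem _).2 h)
      · refine Or.inr ((hmem (b⁻¹ * ⟨x, hx⟩)).2 ((Subgroup.mul_mem_iff_of_index_two haI).2 ?_))
        rw [Subgroup.inv_mem_iff]
        exact iff_of_false hb h
    · exact (hmem (⟨x, hx⟩ * ⟨x, hx⟩)).2 ((Subgroup.mul_mem_iff_of_index_two haI).2 Iff.rfl)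
    · exact congrArg Subtype.val (hainv ⟨x, hx⟩ fun h => hn' ((hmem _).2 h))
    · rw [← Subgroup.index_mul_card (zpowers a), haI, Nat.card_zpowers, Subgroup.orderOf_coe]
  have hinv : ∀ s ∈ S, s * s = 1 → s ∈ center G := by
    intro s hs h
    by_cases h1 : s = 1
    · rw [h1]; exact one_mem _
    · rw [huniq s hs z hzS (orderOf_two_iff.2 ⟨h, h1⟩) hz2]; exact hzc
  have hZ : ∀ s ∈ S, (∀ s' ∈ S, Commute s s') → s * s = 1 := by
    intro s hs hc
    by_cases h : s ∈ zpowers (a : G)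
    · obtain ⟨i, rfl⟩ := h
      have h1 := q.conj_pow q.b_mem q.b_not i
      rw [← (hc _ q.b_mem).eq, mul_inv_cancel_right] at h1
      replace h1 : (a : G) ^ i = (a : G) ^ (-i) := h1
      show (a : G) ^ i * (a : G) ^ i = 1
      nth_rewrite 2 [h1]
      rw [← zpow_add, add_neg_cancel, zpow_zero]
    · exfalso
      have h1 := q.inv s hs h
      rw [(hc _ q.a_mem).eq, mul_inv_cancel_right] at h1
      have h2 : orderOf (a : G) ∣ 2 := orderOf_dvd_of_pow_eq_one (by
        rw [pow_two]; nth_rewrite 2 [h1]; exact mul_inv_cancel _)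
      exact absurd (q.four.trans h2) (by norm_num)
  have hgen : S ≤ Subgroup.closure {s | s ∈ S ∧ s * s ∈ center G} := by
    have hout : ∀ x ∈ S, x ∉ zpowers (a : G) →
        x ∈ Subgroup.closure {s | s ∈ S ∧ s * s ∈ center G} := fun x hx hn' =>
      Subgroup.subset_closure ⟨hx, hinv _ (mul_mem hx hx) (q.sq_outside hx hn').1⟩
    intro x hx
    by_cases h : x ∈ zpowers (a : G)
    · have hxb : x * b ∉ zpowers (a : G) := fun h' => q.b_not ((Subgroup.mul_mem_cancel_left _ h).1 h')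
      have := mul_mem (hout _ (mul_mem hx q.b_mem) hxb) (inv_mem (hout _ q.b_mem q.b_not))
      rwa [mul_inv_cancel_right] at this
    · exact hout x hx h
  have hW := inf_centralizer_le_center hcl hncl hO hZ hinv hgen
  have hT : (P : Subgroup G) ≤ S ⊔ center G := (q.sylow_le hcl hncl).trans (sup_le_sup le_rfl hW)
  -- transfer to the quotient
  haveI : (S.subgroupOf (P : Subgroup G)).Normal :=
    Subgroup.normal_subgroupOf_of_le_normalizer (le_normalizer_of_closed hcl)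
  have hdec : ∀ x ∈ (P : Subgroup G), ∃ s ∈ S, ∃ c ∈ center G, x = s * c := fun x hx => by
    obtain ⟨s, hs, c, hc, e⟩ := Subgroup.mem_sup_of_normal_right.1 (hT hx)
    exact ⟨s, hs, c, hc, e.symm⟩
  letI : CommGroup (↥(P : Subgroup G) ⧸ S.subgroupOf (P : Subgroup G)) :=
    { (inferInstance : Group _) with
      mul_comm := fun u v => by
        obtain ⟨u, rfl⟩ := QuotientGroup.mk_surjective u
        obtain ⟨v, rfl⟩ := QuotientGroup.mk_surjective v
        rw [← QuotientGroup.mk_mul, ← QuotientGroup.mk_mul, QuotientGroup.eq, Subgroup.mem_subgroupOf]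
        simp only [Subgroup.coe_mul, Subgroup.coe_inv]
        obtain ⟨s, hs, c, hc, hu⟩ := hdec u u.2
        obtain ⟨s', hs', c', hc', hv⟩ := hdec v v.2
        rw [hu, hv, show (s * c * (s' * c'))⁻¹ * (s' * c' * (s * c)) =
          (s' * c')⁻¹ * (s * c)⁻¹ * (s' * c') * (s * c) by group]
        have e1 : (s' * c')⁻¹ * (s * c)⁻¹ * (s' * c') = (s' ⁻¹ * s⁻¹ * s') * c⁻¹ := by
          have hc'' := Subgroup.mem_center_iff.1 (inv_mem hc') 
          calc (s' * c')⁻¹ * (s * c)⁻¹ * (s' * c') = c'⁻¹ * (s'⁻¹ * (c⁻¹ * s⁻¹) * s') * c' := by group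
            _ = s'⁻¹ * (c⁻¹ * s⁻¹) * s' := by rw [← hc'' _, inv_mul_cancel_right]
            _ = s'⁻¹ * s⁻¹ * (c⁻¹ * s') := by rw [← Subgroup.mem_center_iff.1 (inv_mem hc) s⁻¹]; group
            _ = _ := by rw [← Subgroup.mem_center_iff.1 (inv_mem hc) s']; simp only [mul_assoc]
        rw [e1, mul_assoc (s'⁻¹ * s⁻¹ * s'), Subgroup.mem_center_iff.1 hc s, inv_mul_cancel_left]
        exact mul_mem (mul_mem (mul_mem (inv_mem hs') (inv_mem hs)) hs') hs }
  intro t ht
  obtain ⟨s, hs, c, hc, rfl⟩ := hdec t ht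
  refine mul_mem hs ?_
  have hcP : c ∈ (P : Subgroup G) := by
    have := mul_mem (inv_mem (hcl.1 hs)) ht
    rwa [inv_mul_cancel_left] at this
  let ψ := QuotientGroup.mk' (S.subgroupOf (P : Subgroup G))
  have hkey : ∀ (m : ℕ) (g₀ : G), g₀⁻¹ * c ^ m * g₀ ∈ (P : Subgroup G) → g₀⁻¹ * c ^ m * g₀ = c ^ m :=
    fun m g₀ _ => by
      rw [mul_assoc, ← Subgroup.mem_center_iff.1 ((center G).pow_mem hc m) g₀, inv_mul_cancel_left]
  have h := transfer_eq_one hcl hncl ψ (fun x hx => (QuotientGroup.eq_one_iff _).2 hx) c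
  rw [MonoidHom.transfer_eq_pow ψ c hkey] at h
  have hcm : c ^ (P : Subgroup G).index ∈ S := Subgroup.mem_subgroupOf.1 ((QuotientGroup.eq_one_iff _).1 h)
  obtain ⟨k, hk⟩ := P.isPGroup' ⟨c, hcP⟩
  have hck : c ^ 2 ^ k ∈ S := by
    rw [show c ^ 2 ^ k = 1 from congrArg Subtype.val hk]; exact one_mem _
  have hcop : Nat.Coprime (P : Subgroup G).index (2 ^ k) :=
    (((Nat.Prime.coprime_iff_not_dvd Nat.prime_two).2 P.not_dvd_index).symm).pow_right k
  have hgcd : c ^ (1 : ℕ) ∈ S := by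
    have e := Nat.gcd_eq_gcd_ab (P : Subgroup G).index (2 ^ k)
    rw [hcop.gcd_eq_one] at e
    have : c ^ ((1 : ℕ) : ℤ) ∈ S := by
      rw [e, zpow_add, zpow_mul, zpow_mul]
      simp only [zpow_natCast]
      exact mul_mem (zpow_mem hcm _) (zpow_mem hck _)
    simpa using this
  simpa using hgcd

/-- A strongly closed subgroup with one involution is Sylow in its normal closure. -/
theorem inf_normalClosure_le_of_unique {G : Type u} [Group G] [Finite G] (P : Sylow 2 G)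
    (S : Subgroup G) (hcl : Cfsg.IsStronglyClosed S (P : Subgroup G))
    (huniq : ∀ u ∈ S, ∀ v ∈ S, orderOf u = 2 → orderOf v = 2 → u = v) :
    (P : Subgroup G) ⊓ Subgroup.normalClosure (S : Set G) ≤ S := by
  classical
  haveI : Fact (Nat.Prime 2) := ⟨Nat.prime_two⟩
  set X := Subgroup.normalClosure (S : Set G) with hX
  have hSX : S ≤ X := Subgroup.subset_normalClosure
  obtain ⟨Q, hQ⟩ : ∃ Q : Sylow 2 ↥X, (Q : Subgroup ↥X) = (P : Subgroup G).subgroupOf X := by
    have hi : ¬ 2 ∣ ((P : Subgroup G).subgroupOf X).index := Grp.sylow_inf_normal_relIndex P X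
    exact ⟨P.isPGroup'.comap_subtype.toSylow hi, rfl⟩
  have hcl' : Cfsg.IsStronglyClosed (S.subgroupOf X) (Q : Subgroup ↥X) := by
    rw [hQ]
    exact ⟨fun x hx => hcl.1 hx, fun x hx g hg => hcl.2 _ hx g hg⟩
  have hncl : Subgroup.normalClosure ((S.subgroupOf X : Subgroup ↥X) : Set ↥X) = ⊤ := by
    haveI hXn : X.Normal := Subgroup.normalClosure_normal
    set N := Subgroup.normalClosure ((S.subgroupOf X : Subgroup ↥X) : Set ↥X) with hN
    have hfr := Sylow.normalizer_sup_eq_top Q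
    have hnorm : (N.map X.subtype).Normal := by
      refine ⟨fun v hv g => ?_⟩
      obtain ⟨n, hn⟩ : ∃ n, n = g := ⟨_, rfl⟩
      have hg : g ∈ ((Subgroup.normalizer (((Q : Subgroup ↥X).map X.subtype : Subgroup G) : Set G) : Set G) *
          (X : Set G)) := by
        rw [← Subgroup.mul_normal, hfr]; trivial
      obtain ⟨n, hn', x, hx, rfl⟩ := hg
      obtain ⟨v, hvN, rfl⟩ := hv
      have hxv : (⟨x, hx⟩ : ↥X) * v * (⟨x, hx⟩ : ↥X)⁻¹ ∈ N :=
        (Subgroup.normalClosure_normal).conj_mem v hvN _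
      let c : ↥X →* ↥X :=
        { toFun := fun w => ⟨n * (w : G) * n⁻¹, hXn.conj_mem _ w.2 n⟩
          map_one' := Subtype.ext (by simp)
          map_mul' := fun u w => Subtype.ext (by simp [mul_assoc]) }
      have hle : N ≤ N.comap c := by
        haveI : (N.comap c).Normal := ⟨fun u hu w => by
          show c (w * u * w⁻¹) ∈ N
          rw [map_mul, map_mul, map_inv]
          exact (Subgroup.normalClosure_normal).conj_mem _ hu _⟩
        refine Subgroup.normalClosure_le_normal (fun s hs => ?_)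
        · refine Subgroup.subset_normalClosure (Subgroup.mem_subgroupOf.2 ?_)
          refine hcl.2 _ hs n ?_
          have h1 : (s : G) ∈ (Q : Subgroup ↥X).map X.subtype := ⟨s, by rw [hQ]; exact hcl.1 hs, rfl⟩
          obtain ⟨w, hw, hwe⟩ := (Subgroup.mem_normalizer_iff.1 hn' _).1 h1
          rw [hQ] at hw
          exact hwe ▸ hw
      exact ⟨_, hle hxv, by simp [c, mul_assoc]⟩
    have hle : X ≤ N.map X.subtype := by
      refine Subgroup.normalClosure_le_normal (fun s hs => ?_)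
      exact ⟨⟨s, hSX hs⟩, Subgroup.subset_normalClosure hs, rfl⟩
    rw [eq_top_iff]
    intro x _
    obtain ⟨w, hw, e⟩ := hle x.2
    rwa [← Subtype.ext e]
  have h := sylow_eq_of_unique _ ↥X rfl Q (S.subgroupOf X) hcl' hncl fun u hu v hv h1 h2 =>
    Subtype.ext (huniq u hu v hv (by rwa [Subgroup.orderOf_coe]) (by rwa [Subgroup.orderOf_coe]))
  rintro t ⟨ht, htX⟩
  have htQ : (⟨t, htX⟩ : ↥X) ∈ (Q : Subgroup ↥X) := by rw [hQ]; exact Subgroup.mem_subgroupOf.2 ht
  exact h htQ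

end Cfsg.Agent.Fus.ClosedPair
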